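import Cfsg.Agent.H851.Dg.Defs
import Cfsg.Agent.H304.PslRes_m3
import Cfsg.Agent.H851.Dg.Count
import Cfsg.Agent.FastGrp
import Cfsg.Agent.Prune
set_option linter.all false

-- part: H819/Dg/Count
section
set_option linter.all false
open scoped Cfsg.Agent.FastGrp

/-!
# S5734: the normalisers of the cyclic tori of order `Φ₁₂` (helper819)

`nd_norm` : `M = N(⟨a⟩)`, `|C(a)| = N` odd, `|M| = 4 N`; then `|T| ≤ 8 nd M`.
-/

set_option autoImplicit false

namespace Cfsg.Agent.H819.Dg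

open Cfsg.Agent.H851.Dg (nd)

section

variable {T : Type*} [Group T] [Finite T]

/-- the class of `x` -/
def cls (x : T) : Set T := {z | ∃ g : T, g * x * g⁻¹ = z}

theorem card_cls (x : T) {k : ℕ} (hk : k ≤ Nat.card (Subgroup.centralizer ({x} : Set T))) :
    k * (cls x).ncard ≤ Nat.card T := by
  have h1 : Nat.card (cls x) ≤ Nat.card (T ⧸ Subgroup.centralizer ({x} : Set T)) := by
    refine Nat.card_le_card_of_surjective
      (fun q : T ⧸ Subgroup.centralizer ({x} : Set T) => (⟨q.out * x * q.out⁻¹, q.out, rfl⟩ : cls x)) ?_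
    rintro ⟨z, g, rfl⟩
    refine ⟨QuotientGroup.mk g, Subtype.ext ?_⟩
    obtain ⟨k, hk⟩ := QuotientGroup.mk_out_eq_mul (Subgroup.centralizer ({x} : Set T)) g
    have h2 : (k : T) * x = x * k := Subgroup.mem_centralizer_singleton_iff.1 k.2
    show (QuotientGroup.mk g : T ⧸ Subgroup.centralizer ({x} : Set T)).out * x *
      ((QuotientGroup.mk g : T ⧸ Subgroup.centralizer ({x} : Set T)).out)⁻¹ = g * x * g⁻¹
    rw [hk]
    calc g * k * x * (g * k)⁻¹ = g * (k * x) * (k : T)⁻¹ * g⁻¹ := by group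
      _ = g * x * g⁻¹ := by rw [h2]; group
  rw [Nat.card_coe_set_eq] at h1
  have h2 := (Subgroup.centralizer ({x} : Set T)).card_mul_index
  have h3 : (Subgroup.centralizer ({x} : Set T)).index = Nat.card (T ⧸ Subgroup.centralizer ({x} : Set T)) := rfl
  rw [← h2, h3]
  exact Nat.mul_le_mul hk h1

theorem card_conj_le {C M : Subgroup T} (hn : ∀ n ∈ M, ∀ c ∈ C, n⁻¹ * c * n ∈ C) {k : ℕ}
    (hk : k * Nat.card C ≤ Nat.card M) : k * ({z : T | ∃ g, g * z * g⁻¹ ∈ C} : Set T).ncard ≤ Nat.card T := by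
  have h1 : Nat.card ({z : T | ∃ g, g * z * g⁻¹ ∈ C} : Set T) ≤ Nat.card ((T ⧸ M) × C) := by
    refine Nat.card_le_card_of_surjective (fun y : (T ⧸ M) × C =>
      (⟨y.1.out * y.2 * y.1.out⁻¹, y.1.out⁻¹, by
        have : y.1.out⁻¹ * (y.1.out * (y.2 : T) * y.1.out⁻¹) * y.1.out⁻¹⁻¹ = y.2 := by group
        rw [this]; exact y.2.2⟩ : ({z : T | ∃ g, g * z * g⁻¹ ∈ C} : Set T))) ?_
    rintro ⟨z, g, hg⟩
    obtain ⟨n, hn'⟩ := QuotientGroup.mk_out_eq_mul M g⁻¹
    refine ⟨(QuotientGroup.mk g⁻¹, ⟨_, hn n n.2 _ hg⟩), Subtype.ext ?_⟩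
    show (QuotientGroup.mk g⁻¹ : T ⧸ M).out * ((n : T)⁻¹ * (g * z * g⁻¹) * n) *
      ((QuotientGroup.mk g⁻¹ : T ⧸ M).out)⁻¹ = z
    rw [hn']
    group
  rw [Nat.card_coe_set_eq, Nat.card_prod] at h1
  have h2 := M.card_mul_index
  have h3 : M.index = Nat.card (T ⧸ M) := rfl
  rw [← h3] at h1
  calc k * ({z : T | ∃ g, g * z * g⁻¹ ∈ C} : Set T).ncard ≤ k * (M.index * Nat.card C) := Nat.mul_le_mul_left _ h1
    _ = (k * Nat.card C) * M.index := by ring
    _ ≤ Nat.card M * M.index := Nat.mul_le_mul_right _ hk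
    _ = Nat.card T := h2

theorem nd_norm {a : T} {N : ℕ} (hN2 : ¬ 2 ∣ N)
    (hcyc : IsCyclic (Subgroup.centralizer ({a} : Set T)))
    (hC : Nat.card (Subgroup.centralizer ({a} : Set T)) = N)
    (hM : Nat.card (Subgroup.normalizer (Subgroup.zpowers a : Set T)) = N * 4)
    (hcent : ∀ y : T, (orderOf y).Prime → orderOf y ∣ N → Nat.card (Subgroup.centralizer ({y} : Set T)) ∣ N)
    (hinv : ∀ z : T, orderOf z = 2 → 8 ≤ Nat.card (Subgroup.centralizer ({z} : Set T))) :
    Nat.card T ≤ 8 * nd (Subgroup.normalizer (Subgroup.zpowers a : Set T)) := by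
  classical
  have hp2 := Fact.mk Nat.prime_two
  set C := Subgroup.centralizer ({a} : Set T) with hCdef
  set M := Subgroup.normalizer (Subgroup.zpowers a : Set T) with hMdef
  have hN0 : 0 < N := by rw [← hC]; exact Nat.card_pos
  have hCz : ∀ c ∈ C, ∀ z ∈ Subgroup.zpowers a, c * z = z * c := by
    intro c hc z hz
    obtain ⟨k, rfl⟩ := Subgroup.mem_zpowers_iff.1 hz
    have h1 : Commute c a := Subgroup.mem_centralizer_singleton_iff.1 hc
    exact (h1.zpow_right k).eq
  have hCM : C ≤ M := by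
    intro c hc
    rw [hMdef, Subgroup.mem_normalizer_iff]
    intro z
    constructor
    · intro hz
      rw [hCz c hc z hz, mul_inv_cancel_right]
      exact hz
    · intro hz
      have h1 := hCz c⁻¹ (inv_mem hc) _ hz
      have h2 : z = c⁻¹ * (c * z * c⁻¹) * c := by group
      rw [h2, h1, inv_mul_cancel_right]
      exact hz
  have hnorm : ∀ n ∈ M, ∀ c ∈ C, n * c * n⁻¹ ∈ C := by
    intro n hn c hc
    rw [hCdef, Subgroup.mem_centralizer_singleton_iff]
    have h1 : n⁻¹ * a * n⁻¹⁻¹ ∈ Subgroup.zpowers a :=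
      (Subgroup.mem_normalizer_iff.1 (M.inv_mem hn) a).1 (Subgroup.mem_zpowers a)
    rw [inv_inv] at h1
    have h2 := hCz c hc _ h1
    calc n * c * n⁻¹ * a = n * (c * (n⁻¹ * a * n)) * n⁻¹ := by group
      _ = n * ((n⁻¹ * a * n) * c) * n⁻¹ := by rw [h2]
      _ = a * (n * c * n⁻¹) := by group
  have hCn : (C.subgroupOf M).Normal := by
    refine ⟨fun c hc n => ?_⟩
    rw [Subgroup.mem_subgroupOf] at hc ⊢
    exact hnorm n n.2 c hc
  have hidx : (C.subgroupOf M).index = 4 := by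
    have h1 := (C.subgroupOf M).card_mul_index
    have h2 : Nat.card (C.subgroupOf M) = N := by
      rw [← hC]
      exact Nat.card_congr (Subgroup.subgroupOfEquivOfLe hCM).toEquiv
    rw [h2, hM] at h1
    exact Nat.eq_of_mul_eq_mul_left hN0 h1
  have h4 : ∀ x ∈ M, x ^ 4 ∈ C := by
    intro x hx
    have h1 := (C.subgroupOf M).pow_index_mem ⟨x, hx⟩
    rw [hidx] at h1
    exact h1
  have hdich : ∀ x ∈ M, x ^ 4 = 1 ∨ x ∈ C := by
    intro x hx
    by_contra hcon
    push Not at hcon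
    obtain ⟨h1, h2⟩ := hcon
    obtain ⟨u, hu, hud⟩ := Nat.exists_prime_and_dvd (n := orderOf (x ^ 4)) (by rwa [Ne, orderOf_eq_one_iff])
    set y := (x ^ 4) ^ (orderOf (x ^ 4) / u) with hy
    have hyu : orderOf y = u := by
      rw [hy, orderOf_pow_of_dvd (Nat.div_pos (Nat.le_of_dvd (orderOf_pos _) hud) hu.pos).ne'
        (Nat.div_dvd_of_dvd hud)]
      exact Nat.div_div_self hud (orderOf_pos _).ne'
    have hyC : y ∈ C := pow_mem (h4 x hx) _
    have huN : u ∣ N := by
      rw [← hC, ← hyu]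
      have := orderOf_dvd_natCard (⟨y, hyC⟩ : C)
      rwa [Subgroup.orderOf_mk] at this
    have h3 := hcent y (by rw [hyu]; exact hu) (by rw [hyu]; exact huN)
    have h5 : C ≤ Subgroup.centralizer ({y} : Set T) := by
      intro c hc
      rw [Subgroup.mem_centralizer_singleton_iff]
      exact congrArg Subtype.val ((IsCyclic.commGroup (α := C)).mul_comm ⟨c, hc⟩ ⟨y, hyC⟩)
    have h6 : C = Subgroup.centralizer ({y} : Set T) := by
      refine Subgroup.eq_of_le_of_card_ge h5 ?_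
      rw [hC]
      exact Nat.le_of_dvd hN0 h3
    apply h2
    rw [h6, Subgroup.mem_centralizer_singleton_iff]
    exact ((Commute.refl x).pow_right 4).pow_right _
  -- the Sylow `2`-subgroup
  obtain ⟨Q⟩ : Nonempty (Sylow 2 M) := inferInstance
  have hQ4 : Nat.card Q = 4 := by
    rw [Q.card_eq_multiplicity, hM]
    have h1 : (N * 4).factorization 2 = 2 := by
      rw [Nat.factorization_mul hN0.ne' (by norm_num), Finsupp.add_apply,
        Nat.factorization_eq_zero_of_not_dvd hN2, show (4 : ℕ) = 2 ^ 2 by norm_num,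
        Nat.Prime.factorization_pow Nat.prime_two]
      simp
    rw [h1]
    norm_num
  set Q' : Subgroup T := (Q : Subgroup M).map M.subtype with hQ'
  have hQ'4 : Nat.card Q' = 4 := by
    rw [hQ', Subgroup.card_map_of_injective M.subtype_injective]
    exact hQ4
  have hQab : ∀ x ∈ Q', ∀ y ∈ Q', x * y = y * x := by
    intro x hx y hy
    have h1 : IsMulCommutative Q' := IsPGroup.isMulCommutative_of_card_eq_prime_sq (p := 2) (by rw [hQ'4]; norm_num)
    exact congrArg Subtype.val (h1.is_comm.comm ⟨x, hx⟩ ⟨y, hy⟩)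
  have hQC : ∀ x ∈ Q', 4 ≤ Nat.card (Subgroup.centralizer ({x} : Set T)) := by
    intro x hx
    rw [← hQ'4]
    refine Subgroup.card_le_of_le ?_
    intro y hy
    rw [Subgroup.mem_centralizer_singleton_iff]
    exact hQab y hy x hx
  obtain ⟨⟨z, hz⟩, hz2⟩ := exists_prime_orderOf_dvd_card' (G := Q') 2 (by rw [hQ'4]; norm_num)
  rw [Subgroup.orderOf_mk] at hz2
  have hz1 : z ≠ 1 := by
    rintro rfl
    rw [orderOf_one] at hz2
    omega
  let _ : Fintype ↑(Q' : Set T) := Fintype.ofFinite _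
  set s : Finset T := (Q' : Set T).toFinset with hs
  have hs4 : s.card = 4 := by
    rw [hs, Set.toFinset_card, ← Nat.card_eq_fintype_card]
    exact hQ'4
  have h1s : (1 : T) ∈ s := by rw [hs, Set.mem_toFinset]; exact Q'.one_mem
  have hzs : z ∈ s.erase 1 := by
    rw [Finset.mem_erase, hs, Set.mem_toFinset]
    exact ⟨hz1, hz⟩
  have hcard2 : ((s.erase 1).erase z).card = 2 := by
    rw [Finset.card_erase_of_mem hzs, Finset.card_erase_of_mem h1s, hs4]
  obtain ⟨x₁, x₂, -, hx⟩ := Finset.card_eq_two.1 hcard2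
  have hx₁ : x₁ ∈ Q' := by
    have h1 : x₁ ∈ (s.erase 1).erase z := by rw [hx]; simp
    have h2 := Finset.mem_of_mem_erase (Finset.mem_of_mem_erase h1)
    rwa [hs, Set.mem_toFinset] at h2
  have hx₂ : x₂ ∈ Q' := by
    have h1 : x₂ ∈ (s.erase 1).erase z := by rw [hx]; simp
    have h2 := Finset.mem_of_mem_erase (Finset.mem_of_mem_erase h1)
    rwa [hs, Set.mem_toFinset] at h2
  have hQcase : ∀ y ∈ Q', y = 1 ∨ y = z ∨ y = x₁ ∨ y = x₂ := by
    intro y hy
    by_contra hcon
    push Not at hcon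
    have h1 : y ∈ (s.erase 1).erase z := by
      rw [Finset.mem_erase, Finset.mem_erase, hs, Set.mem_toFinset]
      exact ⟨hcon.2.1, hcon.1, hy⟩
    rw [hx, Finset.mem_insert, Finset.mem_singleton] at h1
    rcases h1 with h1 | h1
    · exact hcon.2.2.1 h1
    · exact hcon.2.2.2 h1
  -- the elements with conjugates in `M`
  have hcov : {x : T | ∃ g : T, g * x * g⁻¹ ∈ M} ⊆
      ({x : T | ∃ g : T, g * x * g⁻¹ ∈ C} ∪ cls z) ∪ (cls x₁ ∪ cls x₂) := by
    rintro x ⟨g, hg⟩
    by_cases hgC : g * x * g⁻¹ ∈ C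
    · exact Or.inl (Or.inl ⟨g, hgC⟩)
    · have h1 := (hdich _ hg).resolve_right hgC
      set y : M := ⟨g * x * g⁻¹, hg⟩ with hy
      have hy4 : y ^ 4 = 1 := Subtype.ext h1
      have hpg : IsPGroup 2 (Subgroup.zpowers y) := by
        rintro ⟨_, k, rfl⟩
        refine ⟨2, Subtype.ext ?_⟩
        show (y ^ k) ^ 2 ^ 2 = 1
        rw [show (2 : ℕ) ^ 2 = 4 by norm_num, ← zpow_natCast, ← zpow_mul, mul_comm, zpow_mul, zpow_natCast, hy4,
          one_zpow]
      obtain ⟨P, hP⟩ := hpg.exists_le_sylow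
      obtain ⟨h, hh⟩ := MulAction.exists_smul_eq M P Q
      have hyP : y ∈ P := hP (Subgroup.mem_zpowers y)
      have hyQ : h * y * h⁻¹ ∈ Q := by
        rw [← hh]
        exact Subgroup.smul_mem_pointwise_smul y (MulAut.conj h) (P : Subgroup M) hyP
      have hw : (h : T) * (g * x * g⁻¹) * (h : T)⁻¹ ∈ Q' := ⟨_, hyQ, rfl⟩
      have hxe : ∀ w : T, (h : T) * (g * x * g⁻¹) * (h : T)⁻¹ = w → x ∈ cls w := by
        rintro w rfl
        exact ⟨(h * g)⁻¹, by group⟩
      rcases hQcase _ hw with h2 | h2 | h2 | h2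
      · exfalso
        apply hgC
        have h3 : g * x * g⁻¹ = 1 := by
          have h5 : (h : T)⁻¹ * ((h : T) * (g * x * g⁻¹) * (h : T)⁻¹) * h = g * x * g⁻¹ := by group
          rw [← h5, h2]
          group
        rw [h3]
        exact C.one_mem
      · exact Or.inl (Or.inr (hxe _ h2))
      · exact Or.inr (Or.inl (hxe _ h2))
      · exact Or.inr (Or.inr (hxe _ h2))
  have e1 : 4 * ({x : T | ∃ g : T, g * x * g⁻¹ ∈ C} : Set T).ncard ≤ Nat.card T :=
    card_conj_le (M := M) (fun n hn c hc => by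
      have := hnorm n⁻¹ (inv_mem hn) c hc
      rwa [inv_inv] at this) (by rw [hC, hM, mul_comm])
  have e2 := card_cls z (hinv z hz2)
  have e3 := card_cls x₁ (hQC x₁ hx₁)
  have e4 := card_cls x₂ (hQC x₂ hx₂)
  have e5 := Set.ncard_le_ncard hcov (Set.toFinite _)
  have e6 := Set.ncard_union_le ({x : T | ∃ g : T, g * x * g⁻¹ ∈ C} ∪ cls z) (cls x₁ ∪ cls x₂)
  have e7 := Set.ncard_union_le {x : T | ∃ g : T, g * x * g⁻¹ ∈ C} (cls z)
  have e8 := Set.ncard_union_le (cls x₁) (cls x₂)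
  have e9 : nd M + ({x : T | ∃ g : T, g * x * g⁻¹ ∈ M} : Set T).ncard = Nat.card T := by
    have h1 := Nat.card_congr (Equiv.sumCompl (fun x : T => ∀ g : T, g * x * g⁻¹ ∉ M))
    rw [Nat.card_sum] at h1
    have h2 : Nat.card {x : T // ¬ ∀ g : T, g * x * g⁻¹ ∉ M} =
        ({x : T | ∃ g : T, g * x * g⁻¹ ∈ M} : Set T).ncard := by
      rw [← Nat.card_coe_set_eq]
      refine Nat.card_congr (Equiv.subtypeEquivRight fun x => ?_)
      rw [Set.mem_ofPred_eq]
      push Not
      rfl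
    rw [h2] at h1
    exact h1
  omega

end

end Cfsg.Agent.H819.Dg
end

-- part: H855/Dg/GeoPsl
section
set_option linter.all false
open scoped Cfsg.Agent.FastGrp

/-!
# S5734, task 2708: the geometric maximal subgroups of `PSL_n(q)`, `n ≥ 4` (helper855, after helper304's `H304/GeoL`)

Every geometric maximal subgroup `M` misses a prime `u` with `BigU (.psl n q) u`.
-/

set_option autoImplicit false
set_option linter.style.haveILetI false

namespace Cfsg.Agent.H855.Dg

open Matrix Cfsg Cfsg.Geo Cfsg.Agent.H728.DghpNum Cfsg.Agent.H304.Ppd Cfsg.Agent.H304.PslT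
  Cfsg.Agent.H251.GeoCard Cfsg.Agent.OrdDiv Cfsg.Agent.H851.Dg Cfsg.Agent.H304

variable {F : Type*} [Field F] [Fintype F] {n : ℕ}

/-- the missing large prime -/
def Miss (M : Subgroup (Matrix.ProjectiveSpecialLinearGroup (Fin n) F)) : Prop :=
  ∃ u : ℕ, BigU (.psl n (Fintype.card F)) u ∧ ¬ u ∣ Nat.card M

theorem miss_of_elt {M : Subgroup (Matrix.ProjectiveSpecialLinearGroup (Fin n) F)} {e u : ℕ}
    (hP : Ppd (Fintype.card F) e u) (he : n < 2 * e) (hen : e ≤ n)
    (h : ∀ x ∈ pre M, orderOf x = u → False) : Miss M := by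
  refine ⟨u, ⟨hP.prime, ?_, ?_⟩, fun hd => ?_⟩
  · rw [hP.ord]; exact he
  · rw [hP.ord]; exact hen
  · obtain ⟨x, hx, hxM⟩ := exists_of_dvd hP.prime hd
    exact h x hxM hx

theorem miss_of_card {M : Subgroup (Matrix.ProjectiveSpecialLinearGroup (Fin n) F)} {e u : ℕ}
    (hP : Ppd (Fintype.card F) e u) (he : n < 2 * e) (hen : e ≤ n) {X : Subgroup (GL (Fin n) F)}
    (hX : pre M ≤ X) (h : ¬ u ∣ Nat.card X) : Miss M := by
  refine miss_of_elt hP he hen fun x hx hxu => h ?_
  rw [← hxu, ← Subgroup.orderOf_mk x (hX hx)]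
  exact _root_.orderOf_dvd_natCard _

theorem dvd_iff' {q e u : ℕ} (hP : Ppd q e u) {m : ℕ} (h : Div u q m) : e ≤ m := by
  obtain ⟨i, h1, h2, h3⟩ := h
  have := Nat.le_of_dvd h1 ((hP.dvd_iff i).mp h3)
  omega

/-- a good prime for the classes 2, 4, 7 -/
theorem exists_good (hn : 3 ≤ n) : ∃ e u : ℕ, Ppd (Fintype.card F) e u ∧ n < u ∧ n < 2 * e ∧ e ≤ n ∧ 2 ≤ e := by
  have hq : 2 ≤ Fintype.card F := Fintype.one_lt_card
  by_cases h : Fintype.card F = 2 ∧ n = 6
  · obtain ⟨hF, rfl⟩ := h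
    obtain ⟨u, hu⟩ := exists_ppd (q := 2) (e := 5) le_rfl (by norm_num) (by norm_num)
    refine ⟨5, u, by rw [hF]; exact hu, ?_, by norm_num, by norm_num, by norm_num⟩
    have h1 := (hu.dvd_iff 5).mpr dvd_rfl
    norm_num at h1
    have h2 : u = 31 := by
      rcases (Nat.dvd_prime (by norm_num)).mp h1 with h3 | h3
      · exact absurd h3 hu.prime.one_lt.ne'
      · exact h3
    omega
  · obtain ⟨u, hu⟩ := exists_ppd hq hn (by tauto)
    exact ⟨n, u, hu, hu.lt, by omega, le_rfl, by omega⟩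

theorem class2 (hn : 3 ≤ n) {M : Subgroup (Matrix.ProjectiveSpecialLinearGroup (Fin n) F)}
    {t m : ℕ} {D : Fin t → Submodule F (Fin n → F)} (htm : t * m = n) (hD : IsMDecomposition m D)
    (hM : pre M ≤ decompositionStabilizer D) : Miss M := by
  obtain ⟨e, u, hP, h1, h2, h3, h4⟩ := exists_good (F := F) hn
  refine miss_of_card hP h2 h3 hM fun hd => ?_
  have ht := hD.two_le
  have hm := hD.pos
  have hF : ¬ u ∣ Nat.card F := by rw [Nat.card_eq_fintype_card]; exact hP.ndvd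
  rcases decomp hD hP.prime hF hd with h5 | h5
  · have : t ≤ n := by rw [← htm]; exact Nat.le_mul_of_pos_right t hm
    omega
  · rw [Nat.card_eq_fintype_card] at h5
    have h6 := dvd_iff' hP h5
    have : 2 * m ≤ n := by rw [← htm]; exact Nat.mul_le_mul_right m ht
    omega

theorem class4 (hn : 3 ≤ n) {M : Subgroup (Matrix.ProjectiveSpecialLinearGroup (Fin n) F)}
    {n₁ n₂ : ℕ} {e : Fin n ≃ Fin n₁ × Fin n₂} {P : GL (Fin n) F} (h1 : 2 ≤ n₁) (h12 : n₁ < n₂) (hnn : n₁ * n₂ = n)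
    (hM : pre M ≤ tensorProductSubgroup n₁ n₂ e P) : Miss M := by
  obtain ⟨e, u, hP, h2, h3, h4, h5⟩ := exists_good (F := F) hn
  refine miss_of_card hP h3 h4 hM fun hd => ?_
  have hF : ¬ u ∣ Nat.card F := by rw [Nat.card_eq_fintype_card]; exact hP.ndvd
  have h6 := tensor _ _ hP.prime hF hd
  rw [Nat.card_eq_fintype_card] at h6
  have h7 := dvd_iff' hP h6
  rw [max_eq_right h12.le] at h7
  have : 2 * n₂ ≤ n := by rw [← hnn]; exact Nat.mul_le_mul_right n₂ h1
  omega

theorem class7 (hn : 3 ≤ n) {M : Subgroup (Matrix.ProjectiveSpecialLinearGroup (Fin n) F)}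
    {m t : ℕ} {e : Fin n ≃ (Fin t → Fin m)} {P : GL (Fin n) F} (hm : 3 ≤ m) (ht : 2 ≤ t) (hmt : m ^ t = n)
    (hM : pre M ≤ tensorWreathSubgroup m t e P) : Miss M := by
  obtain ⟨e, u, hP, h2, h3, h4, h5⟩ := exists_good (F := F) hn
  refine miss_of_card hP h3 h4 hM fun hd => ?_
  have hF : ¬ u ∣ Nat.card F := by rw [Nat.card_eq_fintype_card]; exact hP.ndvd
  rcases wreath _ _ hP.prime hF hd with h6 | h6
  · have : t < m ^ t := Nat.lt_pow_self (by omega)
    omega
  · rw [Nat.card_eq_fintype_card] at h6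
    have h7 := dvd_iff' hP h6
    have h8 : m ^ 2 ≤ m ^ t := Nat.pow_le_pow_right (by omega) ht
    have h9 : 2 * m ≤ m ^ 2 := by rw [pow_two]; exact Nat.mul_le_mul_right m (by omega)
    omega

theorem class3 (hn : 3 ≤ n) (hn4 : 4 ≤ n) {M : Subgroup (Matrix.ProjectiveSpecialLinearGroup (Fin n) F)}
    {r : ℕ} {K : Subalgebra F (Matrix (Fin n) (Fin n) F)} (hr : r.Prime) (hrn : r ∣ n) (hK : IsFieldSubalgebra r K)
    (hM : pre M ≤ subalgebraNormalizer K) : Miss M := by
  have hq : 2 ≤ Fintype.card F := Fintype.one_lt_card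
  haveI : Nonempty (Fin n) := ⟨⟨0, by omega⟩⟩
  by_cases hrn' : r = n
  · subst hrn'
    have hr5 : 5 ≤ r := by
      by_contra h
      have h4 : r = 4 := by omega
      rw [h4] at hr
      revert hr
      norm_num
    obtain ⟨u, hP⟩ := exists_ppd (q := Fintype.card F) (e := r - 2) hq (by omega) (by
      rintro ⟨-, h6⟩
      have h8 : r = 8 := by omega
      rw [h8] at hr
      revert hr
      norm_num)
    refine miss_of_card hP (by omega) (by omega) hM fun hd => ?_
    have hF : ¬ u ∣ Nat.card F := by rw [Nat.card_eq_fintype_card]; exact hP.ndvd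
    rcases extension hr hK hP.prime hF hd with h5 | ⟨i, h5, h6, h8⟩
    · obtain ⟨j, hj⟩ := hP.dvd_pred
      rw [h5] at hj
      have hj0 : j ≠ 0 := by
        rintro rfl
        rw [mul_zero] at hj
        omega
      have hj1 : j ≠ 1 := by
        rintro rfl
        omega
      have h9 : (r - 2) * 2 ≤ (r - 2) * j := Nat.mul_le_mul_left _ (by omega)
      omega
    · rw [Nat.card_eq_fintype_card, ← pow_mul, hP.dvd_iff] at h8
      rw [Fintype.card_fin, Nat.div_self (by omega)] at h6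
      have h9 : i = 1 := by omega
      rw [h9, mul_one] at h8
      have h10 : r - 2 ∣ 2 := by
        have := Nat.dvd_sub h8 (dvd_refl (r - 2))
        rwa [show r - (r - 2) = 2 by omega] at this
      have := Nat.le_of_dvd (by norm_num) h10
      omega
  · have hlt : r < n := lt_of_le_of_ne (Nat.le_of_dvd (by omega) hrn) hrn'
    obtain ⟨c, hc⟩ := hrn
    have hc2 : 2 ≤ c := by
      rcases c with _ | _ | c
      · omega
      · omega
      · omega
    have hr2 := hr.two_le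
    have h4 : 4 ≤ n := by rw [hc]; exact Nat.mul_le_mul hr2 hc2
    have h7 : n ≠ 7 := by
      rintro rfl
      have h8 : Nat.Prime 7 := by norm_num
      rcases (Nat.dvd_prime h8).mp ⟨c, hc⟩ with h9 | h9
      · exact hr.one_lt.ne' h9
      · exact hrn' h9
    obtain ⟨u, hP⟩ := exists_ppd (q := Fintype.card F) (e := n - 1) hq (by omega) (by omega)
    refine miss_of_card hP (by omega) (by omega) hM fun hd => ?_
    have hF : ¬ u ∣ Nat.card F := by rw [Nat.card_eq_fintype_card]; exact hP.ndvd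
    rcases extension hr hK hP.prime hF hd with h5 | ⟨i, h5, h6, h8⟩
    · have := hP.lt
      have h9 : 2 * r ≤ n := by rw [hc, mul_comm]; exact Nat.mul_le_mul_left r hc2
      omega
    · rw [Nat.card_eq_fintype_card, ← pow_mul, hP.dvd_iff] at h8
      rw [Fintype.card_fin] at h6
      have h9 : r * i ≤ n := (Nat.mul_le_mul_left r h6).trans (Nat.mul_div_le n r)
      have h10 : 0 < r * i := Nat.mul_pos hr.pos (by omega)
      obtain ⟨j, hj⟩ := h8
      have hj1 : j = 1 := by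
        have hj0 : 0 < j := by
          rcases Nat.eq_zero_or_pos j with h | h
          · rw [h, mul_zero] at hj; omega
          · exact h
        by_contra hj1
        have : (n - 1) * 2 ≤ (n - 1) * j := Nat.mul_le_mul_left _ (by omega)
        omega
      rw [hj1, mul_one] at hj
      have h11 : r ∣ n - 1 := ⟨i, hj.symm⟩
      have h12 : r ∣ n := ⟨c, hc⟩
      have h13 : r ∣ 1 := by
        have := Nat.dvd_sub h12 h11
        rwa [show n - (n - 1) = 1 by omega] at this
      exact hr.one_lt.ne' (Nat.dvd_one.mp h13)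

theorem class5 (hn : 3 ≤ n) (hn4 : 4 ≤ n) {M : Subgroup (Matrix.ProjectiveSpecialLinearGroup (Fin n) F)}
    {F₀ : Subfield F} {r : ℕ} {P : GL (Fin n) F} (hr : r.Prime) (hF₀ : Fintype.card F = Nat.card F₀ ^ r)
    (hM : pre M ≤ subfieldSubgroup F₀ P) : Miss M := by
  have hq0 : 2 ≤ Nat.card F₀ := Finite.one_lt_card
  have hr2 := hr.two_le
  have key : ∀ e u : ℕ, Ppd (Nat.card F₀) (r * e) u → n < 2 * e → e ≤ n → n < r * e → Miss M := by
    intro e u hu he hen hne
    have hP : Ppd (Fintype.card F) e u := by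
      have := hu.pow r hr.ne_zero
      rw [← hF₀, Nat.gcd_comm, Nat.gcd_mul_right_right, Nat.mul_div_cancel_left _ hr.pos] at this
      exact this
    refine miss_of_card hP he hen hM fun hd => ?_
    have hF : ¬ u ∣ Nat.card F := by rw [Nat.card_eq_fintype_card]; exact hP.ndvd
    rcases subfield hP.prime hF hd with h1 | h1
    · rw [Nat.card_eq_fintype_card] at h1
      have := (hP.dvd_iff 1).mp (by rwa [pow_one])
      exact absurd (Nat.le_of_dvd one_pos this) (by omega)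
    · have h2 := dvd_iff' hu h1
      rw [Fintype.card_fin] at h2
      omega
  have h6 : 6 ≤ r * n := Nat.mul_le_mul hr2 hn
  have h8 : 2 * 4 ≤ r * n := Nat.mul_le_mul hr2 hn4
  obtain ⟨u, hu⟩ := exists_ppd (q := Nat.card F₀) (e := r * n) hq0 (by omega) (by omega)
  refine key n u hu (by omega) le_rfl ?_
  have : 2 * n ≤ r * n := Nat.mul_le_mul_right n hr2
  omega

theorem class6 (hn : 3 ≤ n) {M : Subgroup (Matrix.ProjectiveSpecialLinearGroup (Fin n) F)}
    {r k : ℕ} {R : Subgroup (GL (Fin n) F)} (hR : IsLinearSymplecticTypeData r R) (hro : Odd r)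
    (hk : 1 ≤ k) (hnk : n = r ^ k) (hZ : Nat.card (Subgroup.center R) = r) (hc : Nat.card R = r ^ (1 + 2 * k))
    (hM : pre M ≤ subgroupNormalizer R) : Miss M := by
  have hq : 2 ≤ Fintype.card F := Fintype.one_lt_card
  haveI : Nonempty (Fin n) := ⟨⟨0, by omega⟩⟩
  have hno : Odd n := by rw [hnk]; exact hro.pow
  obtain ⟨u, hP⟩ := exists_ppd (q := Fintype.card F) (e := n) hq hn (by
    rintro ⟨-, h6⟩
    rw [h6] at hno
    exact absurd hno (by decide))
  refine miss_of_card hP (by omega) le_rfl hM fun hd => ?_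
  have hlt := hP.lt
  rcases symplecticType hR.symplecticType hR.absIrred (Or.inl ⟨hro, hZ, hc⟩) hk hP.prime hd with h1 | h1 | h1
  · have : r ≤ r ^ k := Nat.le_self_pow (by omega) r
    omega
  · rw [Nat.card_eq_fintype_card] at h1
    have := (hP.dvd_iff 1).mp (by rwa [pow_one])
    exact absurd (Nat.le_of_dvd one_pos this) (by omega)
  · rw [← hnk] at h1
    have h2 : u = n + 1 := by omega
    have h3 : Even u := by rw [h2]; exact hno.add_one
    have h4 := (hP.prime.even_iff).mp h3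
    omega

theorem class6' (hn : 3 ≤ n) {M : Subgroup (Matrix.ProjectiveSpecialLinearGroup (Fin n) F)}
    {k : ℕ} {R : Subgroup (GL (Fin n) F)} (hR : IsLinearSymplecticTypeData 2 R)
    (hnk : n = 2 ^ k) (hZ : Nat.card (Subgroup.center R) = 4) (hc : Nat.card R = 2 ^ (2 + 2 * k))
    (hM : pre M ≤ subgroupNormalizer R) : Miss M := by
  have hq : 2 ≤ Fintype.card F := Fintype.one_lt_card
  haveI : Nonempty (Fin n) := ⟨⟨0, by omega⟩⟩
  have hk2 : 2 ≤ k := by
    rcases k with _ | _ | k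
    · rw [hnk] at hn; norm_num at hn
    · rw [hnk] at hn; norm_num at hn
    · omega
  have h4 : 4 ≤ n := by
    rw [hnk]
    calc 4 = 2 ^ 2 := by norm_num
      _ ≤ 2 ^ k := Nat.pow_le_pow_right (by norm_num) hk2
  have hne : Even n := by rw [hnk]; exact (Nat.even_pow.mpr ⟨even_two, by omega⟩)
  obtain ⟨u, hP⟩ := exists_ppd (q := Fintype.card F) (e := n - 1) hq (by omega) (by
    rintro ⟨-, h6⟩
    obtain ⟨c, hc⟩ := hne
    omega)
  refine miss_of_card hP (by omega) (by omega) hM fun hd => ?_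
  have hlt := hP.lt
  rcases symplecticType hR.symplecticType hR.absIrred (Or.inr ⟨rfl, hZ, hc⟩) (by omega) hP.prime hd with h1 | h1 | h1
  · omega
  · rw [Nat.card_eq_fintype_card] at h1
    have := (hP.dvd_iff 1).mp (by rwa [pow_one])
    exact absurd (Nat.le_of_dvd one_pos this) (by omega)
  · rw [← hnk] at h1
    obtain ⟨j, hj⟩ := hP.dvd_pred
    have hu1 : 0 < u - 1 := by have := hP.prime.one_lt; omega
    have hj1 : j = 1 := by
      have hj0 : 0 < j := by
        rcases Nat.eq_zero_or_pos j with h | h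
        · rw [h, mul_zero] at hj; omega
        · exact h
      by_contra hj1
      have : (n - 1) * 2 ≤ (n - 1) * j := Nat.mul_le_mul_left _ (by omega)
      omega
    rw [hj1, mul_one] at hj
    have h2 : u = n := by omega
    have h3 := (hP.prime.even_iff).mp (h2 ▸ hne)
    omega

theorem class8_symp {M : Subgroup (Matrix.ProjectiveSpecialLinearGroup (Fin n) F)}
    {f : (Fin n → F) → (Fin n → F) → F} (hf : IsSymplecticForm f) (hne : Even n) (h4 : 4 ≤ n)
    (hM : pre M ≤ similarityGroup f) : Miss M := by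
  have hq : 2 ≤ Fintype.card F := Fintype.one_lt_card
  haveI : Nonempty (Fin n) := ⟨⟨0, by omega⟩⟩
  obtain ⟨c, hc⟩ := hne
  obtain ⟨u, hP⟩ := exists_ppd (q := Fintype.card F) (e := n - 1) hq (by omega) (by omega)
  refine miss_of_elt hP (by omega) (by omega) fun x hx hxu => ?_
  have h1 := even_of_bilinear hP (by omega) (by rw [Fintype.card_fin]; omega) hxu hf.bilinear hf.nondegenerate (hM hx)
  obtain ⟨d, hd⟩ := h1
  omega

theorem class8_quad (hn : 3 ≤ n) {M : Subgroup (Matrix.ProjectiveSpecialLinearGroup (Fin n) F)}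
    {Q : (Fin n → F) → F} (hQ : IsNondegenerateQuadraticForm Q)
    (hM : pre M ≤ quadSimilarityGroup Q) : Miss M := by
  have hq : 2 ≤ Fintype.card F := Fintype.one_lt_card
  haveI : Nonempty (Fin n) := ⟨⟨0, by omega⟩⟩
  obtain ⟨e, heo, he3, hen, hne⟩ : ∃ e, Odd e ∧ 3 ≤ e ∧ e ≤ n ∧ n < 2 * e := by
    rcases Nat.even_or_odd n with h | h
    · obtain ⟨c, hc⟩ := h
      exact ⟨n - 1, ⟨c - 1, by omega⟩, by omega, by omega, by omega⟩
    · exact ⟨n, h, hn, le_rfl, by omega⟩
  obtain ⟨u, hP⟩ := exists_ppd (q := Fintype.card F) (e := e) hq he3 (by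
    rintro ⟨-, h6⟩
    rw [h6] at heo
    exact absurd heo (by decide))
  refine miss_of_elt hP (by omega) hen fun x hx hxu => ?_
  have h1 := even_of_quadratic hP (by omega) (by rw [Fintype.card_fin]; omega) hxu hQ (hM hx)
  exact (Nat.not_even_iff_odd.mpr heo) h1

theorem class8_unit (hn : 3 ≤ n) {M : Subgroup (Matrix.ProjectiveSpecialLinearGroup (Fin n) F)}
    {σ : F ≃+* F} {f : (Fin n → F) → (Fin n → F) → F} (hf : IsUnitaryForm σ f)
    (hM : pre M ≤ similarityGroup f) : Miss M := by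
  haveI : Nonempty (Fin n) := ⟨⟨0, by omega⟩⟩
  obtain ⟨p, k, hp, hpF, hF, hσ⟩ := exists_frobenius hf.ne_refl hf.involutive
  haveI : Fact p.Prime := ⟨hp⟩
  obtain ⟨e, heo, he2, hen, hne⟩ : ∃ e, Even e ∧ 2 ≤ e ∧ e ≤ n ∧ n < 2 * e := by
    rcases Nat.even_or_odd n with h | h
    · exact ⟨n, h, by omega, le_rfl, by omega⟩
    · obtain ⟨c, hc⟩ := h
      exact ⟨n - 1, ⟨c, by omega⟩, by omega, by omega, by omega⟩
  have hq0 : 2 ≤ p ^ k := by
    have h1 : 1 < Fintype.card F := Fintype.one_lt_card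
    rcases Nat.eq_zero_or_pos k with h | h
    · rw [hF, h] at h1; norm_num at h1
    · exact hp.two_le.trans (Nat.le_self_pow (by omega) p)
  obtain ⟨u, hP⟩ := exists_ppd (q := p ^ k) (e := 2 * e) hq0 (by omega) (by
    rintro ⟨-, h6⟩
    obtain ⟨c, hc⟩ := heo
    omega)
  have hPq : Ppd (Fintype.card F) e u := by
    rw [hF]
    have := hP.pow 2 two_ne_zero
    rwa [Nat.gcd_comm, Nat.gcd_mul_right_right, Nat.mul_div_cancel_left _ (by norm_num)] at this
  refine miss_of_elt hPq hne hen fun x hx hxu => ?_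
  have h1 := odd_of_unitary hF hP he2 (by rw [Fintype.card_fin]; omega) hxu hσ hf (hM hx)
  exact (Nat.not_even_iff_odd.mpr h1) heo

theorem class1 (hn : 3 ≤ n) (hbig : 2 ^ 8 ≤ Fintype.card F ^ n) {M : Subgroup (Matrix.ProjectiveSpecialLinearGroup (Fin n) F)}
    {W : Submodule F (Fin n → F)} (hW0 : W ≠ ⊥) (hW1 : W ≠ ⊤) (hM : pre M ≤ subspaceStabilizer W) :
    Miss M := by
  have hq : 2 ≤ Fintype.card F := Fintype.one_lt_card
  have h1 : 0 < Module.finrank F W := Nat.pos_of_ne_zero fun h => hW0 (Submodule.finrank_eq_zero.mp h)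
  have h2 : Module.finrank F W < n := by
    have := Submodule.finrank_lt hW1
    rwa [Module.finrank_fintype_fun_eq_card, Fintype.card_fin] at this
  obtain ⟨u, hP⟩ := exists_ppd hq hn (by
    rintro ⟨h3, h4⟩
    rw [h3, h4] at hbig
    norm_num at hbig)
  refine miss_of_elt hP (by omega) le_rfl fun x hx hxu => ?_
  rcases le_finrank_of_mem_stabilizer hP hxu (mem_of_subspaceStabilizer (hM hx)) with h4 | h4
  · omega
  · rw [Fintype.card_fin] at h4; omega

/-- **S5734, `PSL_n(q)`, `n ≥ 4`.** -/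
theorem geo_psl (hn4 : 4 ≤ n) (hbig : 2 ^ 8 ≤ Fintype.card F ^ n)
    {M : Subgroup (Matrix.ProjectiveSpecialLinearGroup (Fin n) F)} (hM : IsCoatom M) :
    Out (.psl n (Fintype.card F)) M ∨ InLinearResidualClass (pre M) := by
  have hn : 3 ≤ n := by omega
  have key : Miss M ∨ InLinearResidualClass (pre M) := by
    rcases H915.sl_cases hn (isMaximalIn_pre hM) with ⟨W, h0, h1, h⟩ | ⟨t, m, D, htm, hD, -, -, h⟩ |
      ⟨r, K, hr, hrn, hK, h⟩ | ⟨n₁, n₂, e, P, h1, h2, h3, -, h⟩ | ⟨F₀, r, P, hr, hF, h⟩ |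
      ⟨r, k, p, e, R, hR, -, hro, -, hk, hnk, -, -, hZ, hc, h⟩ | ⟨k, R, hR, hnk, -, -, hZ, hc, h⟩ |
      ⟨m, t, e, P, hm, ht, hmt, h⟩ | ⟨f, hf, hne, h4, h⟩ | ⟨σ, f, hf, h⟩ | ⟨-, Q, hQ, h⟩ | h
    · exact Or.inl (class1 hn hbig h0 h1 (h.le.trans inf_le_left))
    · exact Or.inl (class2 hn htm hD (h.le.trans inf_le_left))
    · exact Or.inl (class3 hn hn4 hr hrn hK (h.le.trans inf_le_left))
    · exact Or.inl (class4 hn h1 h2 h3 (h.le.trans inf_le_left))
    · exact Or.inl (class5 hn hn4 hr hF (h.le.trans inf_le_left))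
    · exact Or.inl (class6 hn hR hro hk hnk hZ hc (h.le.trans inf_le_left))
    · exact Or.inl (class6' hn hR hnk hZ hc (h.le.trans inf_le_left))
    · exact Or.inl (class7 hn hm ht hmt (h.le.trans inf_le_left))
    · exact Or.inl (class8_symp hf hne h4 (h.le.trans inf_le_left))
    · exact Or.inl (class8_unit hn hf (h.le.trans inf_le_left))
    · exact Or.inl (class8_quad hn hQ (h.le.trans inf_le_left))
    · exact Or.inr h
  exact key.imp (fun ⟨u, h1, h2⟩ => Or.inl ⟨u, h1, h2⟩) id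

end Cfsg.Agent.H855.Dg
end
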