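import Mathlib
import Cfsg.Agent.H264.FKS.Res_m3
import Cfsg.Agent.H290.ElCross
import Cfsg.Agent.H175.BdSp_m3
import Cfsg.Agent.H325.Same.ExcPairE_m3
import Cfsg.Agent.H290.ElE7t
import Cfsg.Agent.H902.Zs_m3
import Cfsg.Agent.H851.Dg.Count
import Cfsg.Agent.H129.CycCardF
import Cfsg.Agent.H946.RadD4_m3
import Cfsg.Agent.H325.Same.ExcRow2
import Cfsg.Agent.H325.Iso2F4
import Cfsg.Agent.H819.Dg.Count_m3
import Cfsg.Agent.S0212
import Cfsg.Agent.S1071
import Cfsg.Agent.S2119
import Cfsg.Agent.H200.LinFixE_m3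
import Cfsg.Agent.H264.FKS.TwoCl
import Cfsg.Agent.H771.KTools_m3
import Cfsg.Agent.H934.IdxCl
import Cfsg.Agent.H264.FKS.TwoRows
import Cfsg.Agent.LieClassical.SympTransvection
import Cfsg.Agent.ClassicalGeometry.Eichler
import Cfsg.Agent.ClassicalGeometry.SiegelGen
import Cfsg.Agent.H884.CxMain_m3
import Cfsg.Agent.H851.Dg.Defs
import Cfsg.Agent.H369.PglSpec
import Cfsg.Agent.H390.PslSpec
import Cfsg.Agent.SmallSimple.PSLTwoPart
import Cfsg.Agent.S5892
import Cfsg.Agent.S5893
import Cfsg.Agent.H934.OutCl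
import Cfsg.Agent.H124.LinCyc
import Cfsg.Agent.S0813
import Cfsg.Agent.S0249
import Cfsg.Agent.H953.DpC_m3
import Cfsg.Agent.ClassicalGeometry.PSUAutMain
import Cfsg.Agent.ClassicalGeometry.PSUAutCount
import Cfsg.Agent.S0277
import Cfsg.Agent.S0283
import Cfsg.Agent.H934.IdxPSU
import Cfsg.Agent.H341.ThreeList_m3
import Cfsg.Agent.H807.Dg.Names_m3
import Cfsg.Agent.FastGrp
import Cfsg.Agent.Prune
set_option linter.all false

section
prune_inst 0x7ffea8f8abb80ddfdfff7e77fe98ddfc38901fffa4dff943ffe069ff0bdf030009c5f38d0de010fe0e56c21410a87803f97eceffea6bd87ffffd1ff41ffbee0ff5f7b508519080240fb40ff603f0778e7f3fffffffffffffffffffffffffffbeffbffffffffd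

-- part: H545/Dr/Engine_mg
section
prune_inst 0x1101000090002000000800410203c404a000422004b8000c8200b0006812c2200800e21a800041212000805003d0028110000000040000004000400011d00800080000000400000020008000080000000000000000000000000000000000000000000000
set_option linter.all false
open scoped Cfsg.Agent.FastGrp

-- part: H545/Dr/Defs
section
/-!
# S5734: the proportion of derangements in primitive groups (helper545)

Interface. `G` a finite group, `K` a subgroup.

* `NC K` : the elements of `G` lying in no conjugate of `K` (the derangements of `G` on `G / K`).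
* `AS ε T` : for every almost simple group `H` with socle `S ≅ T` and every subgroup `K` with `S K = H`, `S ≰ K`,
  the proportion of `NC K` is at least `ε / log |H : K|`.
* `outCard T` : the order of `Out T`.
* `fusCard x` : the number of elements of `⟨x⟩` which are images of `x` under automorphisms.
* `GoodPP C T M` : a cyclic subgroup of prime power order `u ^ b` of `T` (with cyclic Sylow `u`-subgroups, `u` prime to
  `|Out T|`) with no element of order `u ^ b` in `M`, and few automorphic images of the generator in it.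
* `Spec C T M` : direct bound inside `T`.
* `Good C T M` : one of the two.
-/

set_option autoImplicit false

namespace Cfsg.Agent.H545.Dr

universe u v

/-- The elements of `G` lying in no conjugate of `K`. -/
def NC {G : Type*} [Group G] (K : Subgroup G) : Set G := {g | ∀ x : G, x * g * x⁻¹ ∉ K}

/-- The bound for the almost simple groups with socle `T`. -/
def AS (ε : ℝ) (T : Type u) [Group T] : Prop :=
  ∀ (H : Type v) [Group H] [Finite H] (S : Subgroup H), S.Normal → Nonempty (S ≃* T) →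
    Subgroup.centralizer (S : Set H) = ⊥ → ∀ K : Subgroup H, ¬ S ≤ K → S ⊔ K = ⊤ →
      ε * (Nat.card H : ℝ) ≤ Real.log (K.index : ℝ) * (Nat.card (NC K) : ℝ)

/-- The order of the outer automorphism group. -/
noncomputable def outCard (T : Type*) [Group T] : ℕ := (MulAut.conj (G := T)).range.index

/-- The number of automorphic images of `x` in `⟨x⟩`. -/
noncomputable def fusCard {T : Type*} [Group T] (x : T) : ℕ :=
  Nat.card {y : T // y ∈ Subgroup.zpowers x ∧ ∃ α : MulAut T, α x = y}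

/-- A good prime power for `M < T`. -/
def GoodPP (C : ℝ) (T : Type*) [Group T] (M : Subgroup T) : Prop :=
  ∃ (u b : ℕ) (x : T), u.Prime ∧ b ≠ 0 ∧ orderOf x = u ^ b ∧ (∀ P : Sylow u T, IsCyclic P) ∧ ¬ u ∣ outCard T ∧
    (∀ y ∈ M, orderOf y ≠ u ^ b) ∧ (fusCard x : ℝ) ≤ C * Real.log (M.index : ℝ)

/-- The direct bound inside `T`. -/
def Spec (C : ℝ) (T : Type*) [Group T] (M : Subgroup T) : Prop :=
  (outCard T : ℝ) * (Nat.card T : ℝ) ≤ C * Real.log (M.index : ℝ) * (Nat.card (NC M) : ℝ)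

/-- `M < T` is good. -/
def Good (C : ℝ) (T : Type*) [Group T] (M : Subgroup T) : Prop := GoodPP C T M ∨ Spec C T M

/-! ### Monotonicity -/

section

variable {T : Type*} [Group T]

theorem NC.mono {M N : Subgroup T} (h : M ≤ N) : NC N ⊆ NC M := fun _ hg x hx => hg x (h hx)

theorem log_index_le [Finite T] {M N : Subgroup T} (h : M ≤ N) :
    Real.log (N.index : ℝ) ≤ Real.log (M.index : ℝ) := by
  have h1 : N.index ≤ M.index := Nat.le_of_dvd (Nat.pos_of_ne_zero Subgroup.index_ne_zero_of_finite)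
    (Subgroup.index_dvd_of_le h)
  have h2 : 0 < N.index := Nat.pos_of_ne_zero Subgroup.index_ne_zero_of_finite
  exact Real.log_le_log (by exact_mod_cast h2) (by exact_mod_cast h1)

theorem log_index_nonneg (M : Subgroup T) : 0 ≤ Real.log (M.index : ℝ) := Real.log_natCast_nonneg _

theorem GoodPP.mono [Finite T] {C : ℝ} (hC : 0 ≤ C) {M N : Subgroup T} (h : M ≤ N) (hN : GoodPP C T N) :
    GoodPP C T M := by
  obtain ⟨u, b, x, h1, h2, h3, h4, h5, h6, h7⟩ := hN
  exact ⟨u, b, x, h1, h2, h3, h4, h5, fun y hy => h6 y (h hy),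
    h7.trans (mul_le_mul_of_nonneg_left (log_index_le h) hC)⟩

theorem Spec.mono [Finite T] {C : ℝ} (hC : 0 ≤ C) {M N : Subgroup T} (h : M ≤ N) (hN : Spec C T N) :
    Spec C T M := by
  unfold Spec at *
  refine hN.trans ?_
  have h1 : (Nat.card (NC N) : ℝ) ≤ Nat.card (NC M) := by
    exact_mod_cast Nat.card_mono (Set.toFinite _) (NC.mono h)
  exact mul_le_mul (mul_le_mul_of_nonneg_left (log_index_le h) hC) h1 (Nat.cast_nonneg _)
    (mul_nonneg hC (log_index_nonneg M))

theorem Good.mono [Finite T] {C : ℝ} (hC : 0 ≤ C) {M N : Subgroup T} (h : M ≤ N) (hN : Good C T N) : Good C T M :=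
  hN.imp (GoodPP.mono hC h) (Spec.mono hC h)

theorem GoodPP.le {C D : ℝ} (hCD : C ≤ D) {M : Subgroup T} (h : GoodPP C T M) : GoodPP D T M := by
  obtain ⟨u, b, x, h1, h2, h3, h4, h5, h6, h7⟩ := h
  exact ⟨u, b, x, h1, h2, h3, h4, h5, h6, h7.trans (mul_le_mul_of_nonneg_right hCD (log_index_nonneg M))⟩

theorem Spec.le {C D : ℝ} (hCD : C ≤ D) {M : Subgroup T} (h : Spec C T M) : Spec D T M := by
  unfold Spec at *
  exact h.trans (mul_le_mul_of_nonneg_right (mul_le_mul_of_nonneg_right hCD (log_index_nonneg M))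
    (Nat.cast_nonneg _))

theorem Good.le {C D : ℝ} (hCD : C ≤ D) {M : Subgroup T} (h : Good C T M) : Good D T M :=
  h.imp (GoodPP.le hCD) (Spec.le hCD)

end

end Cfsg.Agent.H545.Dr
end

-- part: H545/Dr/Count
section
/-!
# S5734: counting elements whose powers contain a given class of cyclic `u`-subgroups (helper545)

* `card_le_of_elt` : `x` of order `u ^ b` in `G`, Sylow `u`-subgroups of `C(x)` cyclic, no conjugate of `x` in `K`: then
  `|G| ≤ 2 f |NC K|`, `f` the number of conjugates of `x` in `⟨x⟩`.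
-/

set_option autoImplicit false

namespace Cfsg.Agent.H545.Dr

universe u v

section count

variable {G : Type*} [Group G] [Finite G]

/-- In a finite cyclic group the subgroups are ordered by divisibility of the orders. -/
theorem le_of_card_dvd {A : Type*} [Group A] [Finite A] [IsCyclic A] {H K : Subgroup A}
    (h : Nat.card H ∣ Nat.card K) : H ≤ K := by
  classical
  have := Fintype.ofFinite A
  have h1 : (Finset.univ.filter fun a : A => a ^ Nat.card K = 1).card ≤ Nat.card K :=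
    IsCyclic.card_pow_eq_one_le Nat.card_pos
  have h2 : (K : Set A).toFinset ⊆ Finset.univ.filter fun a : A => a ^ Nat.card K = 1 := by
    intro a ha
    rw [Set.mem_toFinset] at ha
    rw [Finset.mem_filter]
    refine ⟨Finset.mem_univ _, ?_⟩
    have h3 : (⟨a, ha⟩ : K) ^ Nat.card K = 1 := pow_card_eq_one'
    exact congrArg Subtype.val h3
  have h3 : (K : Set A).toFinset = Finset.univ.filter fun a : A => a ^ Nat.card K = 1 := by
    refine Finset.eq_of_subset_of_card_le h2 (h1.trans ?_)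
    rw [Set.toFinset_card, ← Nat.card_eq_fintype_card]
    exact le_rfl
  intro a ha
  have h4 : a ∈ Finset.univ.filter fun a : A => a ^ Nat.card K = 1 := by
    rw [Finset.mem_filter]
    refine ⟨Finset.mem_univ _, ?_⟩
    have h5 : (⟨a, ha⟩ : H) ^ Nat.card K = 1 := orderOf_dvd_iff_pow_eq_one.1 ((orderOf_dvd_natCard _).trans h)
    exact congrArg Subtype.val h5
  rw [← h3, Set.mem_toFinset] at h4
  exact h4

/-- In a cyclic group of prime power order the subgroups form a chain. -/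
theorem zpowers_total {A : Type*} [Group A] [Finite A] [IsCyclic A] {u : ℕ} (hu : u.Prime) (hA : IsPGroup u A)
    (a b : A) : a ∈ Subgroup.zpowers b ∨ b ∈ Subgroup.zpowers a := by
  have := Fact.mk hu
  obtain ⟨i, hi⟩ := (IsPGroup.iff_card.1 (hA.to_subgroup (Subgroup.zpowers a)))
  obtain ⟨j, hj⟩ := (IsPGroup.iff_card.1 (hA.to_subgroup (Subgroup.zpowers b)))
  rcases le_total i j with h | h
  · left
    have h1 : Subgroup.zpowers a ≤ Subgroup.zpowers b := le_of_card_dvd (by rw [hi, hj]; exact pow_dvd_pow u h)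
    exact h1 (Subgroup.mem_zpowers a)
  · right
    have h1 : Subgroup.zpowers b ≤ Subgroup.zpowers a := le_of_card_dvd (by rw [hi, hj]; exact pow_dvd_pow u h)
    exact h1 (Subgroup.mem_zpowers b)

/-- `x` of order `u ^ b`, `g` commuting with `x`, `x ∉ ⟨g⟩`: then `x ∈ ⟨g x⟩`. -/
theorem mem_zpowers_mul {u b : ℕ} (hu : u.Prime) {x g : G} (hx : orderOf x = u ^ b) (hg : Commute g x)
    (hcyc : ∀ P : Subgroup G, x ∈ P → (∀ y ∈ P, Commute y x) → IsPGroup u P → IsCyclic P)
    (h : x ∉ Subgroup.zpowers g) : x ∈ Subgroup.zpowers (g * x) := by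
  have := Fact.mk hu
  -- the `u`-part of `g`
  obtain ⟨k, m, hm, hkm⟩ := Nat.exists_eq_pow_mul_and_not_dvd (orderOf_pos g).ne' u hu.ne_one
  set g₁ := g ^ m with hg₁
  have h1 : g₁ ^ u ^ k = 1 := by rw [hg₁, ← pow_mul, mul_comm, ← hkm, pow_orderOf_eq_one]
  have hc1 : Commute g₁ x := hg.pow_left m
  -- the group generated by `x` and `g₁`
  have hcomm : ∀ y ∈ Subgroup.closure ({x, g₁} : Set G), ∀ z ∈ Subgroup.closure ({x, g₁} : Set G), Commute y z := by
    have h2 : ∀ y ∈ ({x, g₁} : Set G), ∀ z ∈ ({x, g₁} : Set G), y * z = z * y := by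
      rintro y (rfl | rfl) z (rfl | rfl)
      · rfl
      · exact hc1.symm.eq
      · exact hc1.eq
      · rfl
    have h3 := Subgroup.isMulCommutative_closure h2
    intro y hy z hz
    have h4 := h3.is_comm.comm (⟨y, hy⟩ : Subgroup.closure ({x, g₁} : Set G)) ⟨z, hz⟩
    exact congrArg Subtype.val h4
  set P := Subgroup.closure ({x, g₁} : Set G) with hP
  have hxP : x ∈ P := Subgroup.subset_closure (by simp)
  have hgP : g₁ ∈ P := Subgroup.subset_closure (by simp)
  have hPu : IsPGroup u P := by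
    rintro ⟨y, hy⟩
    suffices hs : ∃ n, y ^ u ^ n = 1 by
      obtain ⟨n, hn⟩ := hs
      exact ⟨n, Subtype.ext hn⟩
    induction hy using Subgroup.closure_induction with
    | mem y hy =>
      rcases hy with rfl | rfl
      · exact ⟨b, by rw [← hx, pow_orderOf_eq_one]⟩
      · exact ⟨k, h1⟩
    | one => exact ⟨0, one_pow _⟩
    | mul y z hy hz ihy ihz =>
      obtain ⟨n, hn⟩ := ihy
      obtain ⟨n', hn'⟩ := ihz
      refine ⟨n + n', ?_⟩
      rw [(hcomm y hy z hz).mul_pow, pow_add, pow_mul, hn, one_pow, mul_comm (u ^ n), pow_mul, hn', one_pow, mul_one]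
    | inv y hy ihy =>
      obtain ⟨n, hn⟩ := ihy
      exact ⟨n, by rw [inv_pow, hn, inv_one]⟩
  have hPc : IsCyclic P := hcyc P hxP (fun y hy => hcomm y hy x hxP) hPu
  rcases zpowers_total hu hPu (⟨x, hxP⟩ : P) ⟨g₁, hgP⟩ with h5 | h5
  · exfalso
    apply h
    obtain ⟨j, hj⟩ := Subgroup.mem_zpowers_iff.1 h5
    have h6 := congrArg Subtype.val hj
    have h7 : g₁ ^ j = x := h6
    rw [← h7]
    exact Subgroup.zpow_mem _ (Subgroup.pow_mem _ (Subgroup.mem_zpowers g) m) j
  · obtain ⟨j, hj⟩ := Subgroup.mem_zpowers_iff.1 h5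
    have h6 : x ^ j = g₁ := congrArg Subtype.val hj
    -- `u ∣ j`
    have hj1 : (u : ℤ) ∣ j := by
      by_contra hnd
      apply h
      have h7 : IsCoprime j ((u ^ b : ℕ) : ℤ) := by
        push_cast
        refine IsCoprime.pow_right ?_
        rw [isCoprime_comm]
        exact (Nat.prime_iff_prime_int.1 hu).coprime_iff_not_dvd.2 hnd
      obtain ⟨s, t, hst⟩ := h7
      have h8 : x = (x ^ j) ^ s := by
        rw [← zpow_mul, mul_comm j s]
        have h9 : x ^ (s * j + t * ((u ^ b : ℕ) : ℤ)) = x := by rw [hst, zpow_one]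
        rw [zpow_add, mul_comm t, zpow_mul x ((u ^ b : ℕ) : ℤ) t, zpow_natCast, ← hx, pow_orderOf_eq_one,
          one_zpow, mul_one] at h9
        exact h9.symm
      rw [h8, h6]
      exact Subgroup.zpow_mem _ (Subgroup.pow_mem _ (Subgroup.mem_zpowers g) m) s
    have h7 : (g * x) ^ m = x ^ (j + m) := by
      rw [hg.mul_pow, ← hg₁, ← h6, zpow_add, zpow_natCast]
    have h8 : IsCoprime (j + m) ((u ^ b : ℕ) : ℤ) := by
      push_cast
      refine IsCoprime.pow_right ?_
      rw [isCoprime_comm]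
      refine (Nat.prime_iff_prime_int.1 hu).coprime_iff_not_dvd.2 fun hd => hm ?_
      have h9 : (u : ℤ) ∣ (m : ℤ) := (dvd_add_right hj1).1 hd
      exact_mod_cast h9
    obtain ⟨s, t, hst⟩ := h8
    have h9 : x = ((g * x) ^ m) ^ s := by
      rw [h7, ← zpow_mul, mul_comm (j + m) s]
      have h10 : x ^ (s * (j + m) + t * ((u ^ b : ℕ) : ℤ)) = x := by rw [hst, zpow_one]
      rw [zpow_add, mul_comm t, zpow_mul x ((u ^ b : ℕ) : ℤ) t, zpow_natCast, ← hx, pow_orderOf_eq_one,
        one_zpow, mul_one] at h10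
      exact h10.symm
    have h11 : ((g * x) ^ m) ^ s ∈ Subgroup.zpowers (g * x) :=
      Subgroup.zpow_mem _ (Subgroup.pow_mem _ (Subgroup.mem_zpowers (g * x)) m) s
    rwa [← h9] at h11

/-- the conjugates of `x` in `⟨x⟩` -/
noncomputable def fus (x : G) : ℕ := Nat.card {y : G // y ∈ Subgroup.zpowers x ∧ IsConj x y}

omit [Finite G] in
theorem fus_conj (x h : G) : fus (h * x * h⁻¹) = fus x := by
  refine Nat.card_congr (Equiv.symm ((MulAut.conj h).toEquiv.subtypeEquiv fun y => ?_))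
  have h1 : (MulAut.conj h).toEquiv y = h * y * h⁻¹ := rfl
  rw [h1]
  refine and_congr ?_ ?_
  · constructor
    · intro hy
      obtain ⟨j, hj⟩ := Subgroup.mem_zpowers_iff.1 hy
      refine Subgroup.mem_zpowers_iff.2 ⟨j, ?_⟩
      rw [conj_zpow, hj]
    · intro hy
      obtain ⟨j, hj⟩ := Subgroup.mem_zpowers_iff.1 hy
      refine Subgroup.mem_zpowers_iff.2 ⟨j, ?_⟩
      rw [conj_zpow] at hj
      exact mul_left_cancel (mul_right_cancel hj)
  · constructor
    · intro hy
      exact ((isConj_iff.2 ⟨h, rfl⟩ : IsConj x (h * x * h⁻¹)).symm.trans hy).trans (isConj_iff.2 ⟨h, rfl⟩)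
    · intro hy
      exact ((isConj_iff.2 ⟨h, rfl⟩ : IsConj x (h * x * h⁻¹)).trans hy).trans
        (isConj_iff.2 ⟨h, rfl⟩ : IsConj y (h * y * h⁻¹)).symm

/-- elements `z`, `z'` of `⟨g⟩` of the same order generate the same subgroup -/
theorem mem_zpowers_of_order {g z z' : G} (hz : z ∈ Subgroup.zpowers g) (hz' : z' ∈ Subgroup.zpowers g)
    (h : orderOf z' ∣ orderOf z) : z' ∈ Subgroup.zpowers z := by
  have h1 : Subgroup.zpowers (⟨z', hz'⟩ : Subgroup.zpowers g) ≤ Subgroup.zpowers (⟨z, hz⟩ : Subgroup.zpowers g) := by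
    refine le_of_card_dvd ?_
    rw [Nat.card_zpowers, Nat.card_zpowers, Subgroup.orderOf_mk, Subgroup.orderOf_mk]
    exact h
  obtain ⟨j, hj⟩ := Subgroup.mem_zpowers_iff.1 (h1 (Subgroup.mem_zpowers _))
  exact Subgroup.mem_zpowers_iff.2 ⟨j, congrArg Subtype.val hj⟩

omit [Finite G] in
theorem orderOf_of_isConj {x z : G} (h : IsConj x z) : orderOf z = orderOf x := by
  obtain ⟨c, rfl⟩ := isConj_iff.1 h
  exact orderOf_injective (MulAut.conj c).toMonoidHom (MulAut.conj c).injective x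

/-- at least half of the elements of `C(x)` have `x` as a power -/
theorem card_centralizer_le {u b : ℕ} (hu : u.Prime) {x : G} (hx : orderOf x = u ^ b)
    (hcyc : ∀ P : Subgroup G, x ∈ P → (∀ y ∈ P, Commute y x) → IsPGroup u P → IsCyclic P) :
    Nat.card (Subgroup.centralizer ({x} : Set G)) ≤ 2 * Nat.card {g : G // x ∈ Subgroup.zpowers g} := by
  classical
  have := Fintype.ofFinite G
  set C := Subgroup.centralizer ({x} : Set G) with hC
  have h1 : Nat.card {g : C // x ∉ Subgroup.zpowers (g : G)} ≤ Nat.card {g : G // x ∈ Subgroup.zpowers g} := by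
    refine Nat.card_le_card_of_injective
      (fun g => ⟨(g : C) * x, mem_zpowers_mul hu hx ?_ hcyc g.2⟩) ?_
    · exact ((Subgroup.mem_centralizer_singleton_iff).1 (g : C).2 : _)
    · intro g g' h
      have h2 := congrArg Subtype.val h
      have h3 : ((g : C) : G) = ((g' : C) : G) := mul_right_cancel h2
      exact Subtype.ext (Subtype.ext h3)
  have h2 : Nat.card {g : C // ¬ x ∉ Subgroup.zpowers (g : G)} ≤ Nat.card {g : G // x ∈ Subgroup.zpowers g} := by
    refine Nat.card_le_card_of_injective (fun g => ⟨((g : C) : G), not_not.1 g.2⟩) ?_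
    intro g g' h
    have h5 : ((g : C) : G) = ((g' : C) : G) := congrArg (fun t : {g : G // x ∈ Subgroup.zpowers g} => t.1) h
    exact Subtype.ext (Subtype.ext h5)
  have h3 : Nat.card C = Nat.card {g : C // x ∉ Subgroup.zpowers (g : G)} +
      Nat.card {g : C // ¬ x ∉ Subgroup.zpowers (g : G)} := by
    rw [← Nat.card_sum]
    exact Nat.card_congr (Equiv.sumCompl _).symm
  omega

/-- **The counting lemma.** -/
theorem card_le_of_elt (K : Subgroup G) {u b : ℕ} (hu : u.Prime) {x : G} (hx : orderOf x = u ^ b)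
    (hcyc : ∀ P : Subgroup G, x ∈ P → (∀ y ∈ P, Commute y x) → IsPGroup u P → IsCyclic P)
    (hK : ∀ g : G, g * x * g⁻¹ ∉ K) : Nat.card G ≤ 2 * (fus x * Nat.card (NC K)) := by
  classical
  have := Fintype.ofFinite G
  -- pairs `(z, g)`, `z` conjugate to `x`, `z ∈ ⟨g⟩`
  let A := {a : G × G // IsConj x a.1 ∧ a.1 ∈ Subgroup.zpowers a.2}
  -- upper bound
  have h1 : Nat.card A ≤ fus x * Nat.card (NC K) := by
    let e : A ≃ Σ g : G, {z : G // IsConj x z ∧ z ∈ Subgroup.zpowers g} :=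
      { toFun := fun a => ⟨a.1.2, ⟨a.1.1, a.2⟩⟩
        invFun := fun a => ⟨(a.2.1, a.1), a.2.2⟩
        left_inv := fun a => rfl
        right_inv := fun a => rfl }
    rw [Nat.card_congr e, Nat.card_sigma]
    have h2 : ∀ g : G, Nat.card {z : G // IsConj x z ∧ z ∈ Subgroup.zpowers g} ≤ if g ∈ NC K then fus x else 0 := by
      intro g
      by_cases hne : Nonempty {z : G // IsConj x z ∧ z ∈ Subgroup.zpowers g}
      · obtain ⟨z, hz1, hz2⟩ := hne
        obtain ⟨c, rfl⟩ := isConj_iff.1 hz1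
        have hg : g ∈ NC K := by
          intro y hy
          obtain ⟨j, hj⟩ := Subgroup.mem_zpowers_iff.1 hz2
          apply hK (y * c)
          have h3 : y * c * x * (y * c)⁻¹ = (y * g * y⁻¹) ^ j := by
            rw [conj_zpow, hj]; group
          rw [h3]
          exact K.zpow_mem hy j
        rw [if_pos hg, ← fus_conj x c]
        refine Nat.card_le_card_of_injective (fun z => ⟨z.1, ?_, ?_⟩) ?_
        · refine mem_zpowers_of_order hz2 z.2.2 ?_
          rw [orderOf_of_isConj z.2.1, orderOf_of_isConj hz1]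
        · exact hz1.symm.trans z.2.1
        · intro z z' h
          have h5 := congrArg Subtype.val h
          exact Subtype.ext h5
      · rw [not_nonempty_iff] at hne
        rw [Nat.card_of_isEmpty]
        exact Nat.zero_le _
    calc ∑ g : G, Nat.card {z : G // IsConj x z ∧ z ∈ Subgroup.zpowers g}
        ≤ ∑ g : G, (if g ∈ NC K then fus x else 0) := Finset.sum_le_sum fun g _ => h2 g
      _ = fus x * Nat.card (NC K) := by
        rw [← Finset.sum_filter, Finset.sum_const, smul_eq_mul, mul_comm]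
        congr 1
        rw [Nat.card_eq_fintype_card, Fintype.card_subtype]
  -- lower bound
  have h2 : Nat.card G ≤ 2 * Nat.card A := by
    let e : A ≃ Σ z : {z : G // IsConj x z}, {g : G // z.1 ∈ Subgroup.zpowers g} :=
      { toFun := fun a => ⟨⟨a.1.1, a.2.1⟩, ⟨a.1.2, a.2.2⟩⟩
        invFun := fun a => ⟨(a.1.1, a.2.1), ⟨a.1.2, a.2.2⟩⟩
        left_inv := fun a => rfl
        right_inv := fun a => rfl }
    rw [Nat.card_congr e, Nat.card_sigma]
    have h3 : ∀ z : {z : G // IsConj x z}, Nat.card {g : G // z.1 ∈ Subgroup.zpowers g} =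
        Nat.card {g : G // x ∈ Subgroup.zpowers g} := by
      rintro ⟨z, hz⟩
      obtain ⟨c, rfl⟩ := isConj_iff.1 hz
      refine Nat.card_congr (Equiv.symm ((MulAut.conj c).toEquiv.subtypeEquiv fun g => ?_))
      have h4 : (MulAut.conj c).toEquiv g = c * g * c⁻¹ := rfl
      rw [h4]
      constructor
      · intro hy
        obtain ⟨j, hj⟩ := Subgroup.mem_zpowers_iff.1 hy
        exact Subgroup.mem_zpowers_iff.2 ⟨j, by rw [conj_zpow, hj]⟩
      · intro hy
        obtain ⟨j, hj⟩ := Subgroup.mem_zpowers_iff.1 hy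
        rw [conj_zpow] at hj
        exact Subgroup.mem_zpowers_iff.2 ⟨j, mul_left_cancel (mul_right_cancel hj)⟩
    rw [Finset.sum_congr rfl fun z _ => h3 z, Finset.sum_const, smul_eq_mul, Finset.card_univ]
    have h5 : Fintype.card {z : G // IsConj x z} * Nat.card (Subgroup.centralizer ({x} : Set G)) = Nat.card G := by
      have h6 := MulAction.card_orbit_mul_card_stabilizer_eq_card_group (ConjAct G) x
      rw [← Nat.card_eq_fintype_card, ← Nat.card_eq_fintype_card, ← Nat.card_eq_fintype_card,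
        ← Subgroup.nat_card_centralizer_nat_card_stabilizer] at h6
      have h7 : Nat.card (ConjAct G) = Nat.card G := Nat.card_congr ConjAct.ofConjAct.toEquiv
      rw [h7] at h6
      rw [← h6]
      congr 1
      rw [← Nat.card_eq_fintype_card]
      refine Nat.card_congr (Equiv.subtypeEquivRight fun z => ?_)
      rw [ConjAct.mem_orbit_conjAct]
      exact isConj_comm
    have h6 := card_centralizer_le hu hx hcyc
    calc Nat.card G = Fintype.card {z : G // IsConj x z} * Nat.card (Subgroup.centralizer ({x} : Set G)) := h5.symm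
      _ ≤ Fintype.card {z : G // IsConj x z} * (2 * Nat.card {g : G // x ∈ Subgroup.zpowers g}) :=
        Nat.mul_le_mul_left _ h6
      _ = _ := by ring
  calc Nat.card G ≤ 2 * Nat.card A := h2
    _ ≤ _ := Nat.mul_le_mul_left 2 h1

end count

end Cfsg.Agent.H545.Dr
end

-- part: H545/Dr/Engine
section
/-!
# S5734: from the simple group to the almost simple groups (helper545)

* `NC_nonempty` : a proper subgroup misses a conjugacy class.
* `index_dvd_outCard` : `|H : S|` divides `|Out T|`.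
* `as_of_good` : **the engine**: all proper subgroups of `T` good gives `AS (1 / (2 C)) T`.
* `as_of_card_le` : finitely many `T` do not matter.
* `as_of_eventually` : `Good C T M` for all large `T` of a family gives `AS` for the whole family.
-/

set_option autoImplicit false
set_option linter.unusedSectionVars false
set_option linter.style.haveILetI false

namespace Cfsg.Agent.H545.Dr

universe u v w

section

variable {H : Type v} [Group H] [Finite H] {S K : Subgroup H}

/-- **Jordan**: a proper subgroup misses a conjugacy class. -/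
theorem NC_nonempty (hK : K ≠ ⊤) : (NC K).Nonempty := by
  classical
  have := Fintype.ofFinite H
  by_contra hne
  rw [Set.not_nonempty_iff_eq_empty] at hne
  have hfix : ∀ g : H, 1 ≤ Nat.card (MulAction.fixedBy (H ⧸ K) g) := by
    intro g
    have hg : g ∉ NC K := by rw [hne]; exact Set.notMem_empty g
    unfold NC at hg
    rw [Set.mem_ofPred_eq, not_forall] at hg
    obtain ⟨x, hx⟩ := hg
    rw [not_not] at hx
    have : Nonempty (MulAction.fixedBy (H ⧸ K) g) := by
      refine ⟨⟨((x⁻¹ : H) : H ⧸ K), ?_⟩⟩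
      rw [MulAction.mem_fixedBy, MulAction.Quotient.smul_coe, QuotientGroup.eq, smul_eq_mul, ← inv_mem_iff]
      have h1 : ((g * x⁻¹)⁻¹ * x⁻¹)⁻¹ = x * g * x⁻¹ := by group
      rw [h1]
      exact hx
    exact Nat.card_pos
  have h2 : 2 ≤ Nat.card (MulAction.fixedBy (H ⧸ K) (1 : H)) := by
    rw [MulAction.fixedBy_one_eq_univ, Nat.card_univ]
    have h3 : Nat.card (H ⧸ K) ≠ 1 := fun h => hK (Subgroup.index_eq_one.1 h)
    have h4 : 0 < Nat.card (H ⧸ K) := Nat.card_pos
    omega
  have h5 := MulAction.sum_card_fixedBy_eq_card_orbits_mul_card_group H (H ⧸ K)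
  have h6 : Fintype.card (Quotient (MulAction.orbitRel H (H ⧸ K))) = 1 := by
    rw [Fintype.card_eq_one_iff_nonempty_unique]
    have h7 : Subsingleton (Quotient (MulAction.orbitRel H (H ⧸ K))) := by
      rw [← MulAction.pretransitive_iff_subsingleton_quotient]
      infer_instance
    exact ⟨⟨⟨Quotient.mk'' ((1 : H) : H ⧸ K)⟩, fun a => Subsingleton.elim _ _⟩⟩
  rw [h6, one_mul] at h5
  have h8 : ∑ g : H, (1 : ℕ) < ∑ g : H, Fintype.card (MulAction.fixedBy (H ⧸ K) g) := by
    refine Finset.sum_lt_sum (fun g _ => ?_) ⟨1, Finset.mem_univ _, ?_⟩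
    · rw [← Nat.card_eq_fintype_card]; exact hfix g
    · rw [← Nat.card_eq_fintype_card]; exact h2
  rw [h5, Finset.sum_const, smul_eq_mul, mul_one, Finset.card_univ] at h8
  exact lt_irrefl _ h8

/-- `|H : K| = |S : S ∩ K|`. -/
theorem relIndex_eq (hS : S.Normal) (hsup : S ⊔ K = ⊤) : K.relIndex S = K.index := by
  have h1 : S.relIndex K = S.index := by
    rw [← Subgroup.relIndex_sup_right (H := K) (K := S), sup_comm, hsup, Subgroup.relIndex_top_right]
  have h2 : (S ⊓ K).relIndex S * S.index = (S ⊓ K).index := Subgroup.relIndex_mul_index inf_le_left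
  have h3 : (S ⊓ K).relIndex K * K.index = (S ⊓ K).index := Subgroup.relIndex_mul_index inf_le_right
  rw [Subgroup.inf_relIndex_left] at h2
  rw [Subgroup.inf_relIndex_right, h1] at h3
  have h4 : 0 < S.index := Nat.pos_of_ne_zero Subgroup.index_ne_zero_of_finite
  have h5 : S.index * K.relIndex S = S.index * K.index := by rw [h3, ← h2, mul_comm]
  exact Nat.eq_of_mul_eq_mul_left h4 h5

variable {T : Type u} [Group T] [Finite T]

theorem inn_normal : ((MulAut.conj (G := T)).range).Normal := by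
  refine ⟨?_⟩
  rintro _ ⟨t, rfl⟩ α
  refine ⟨α t, ?_⟩
  ext y
  simp only [MulAut.mul_apply, MulAut.conj_apply, _root_.MulAut.inv_apply, _root_.map_mul, _root_.MulEquiv.apply_symm_apply, _root_.map_inv]

/-- the action of `H` on its normal subgroup `S ≅ T` -/
noncomputable def act (hS : S.Normal) (e : S ≃* T) : H →* MulAut T :=
  (MulAut.congr e).toMonoidHom.comp (@MulAut.conjNormal H _ S hS)

theorem act_apply (hS : S.Normal) (e : S ≃* T) (h : H) (s : S) :
    act hS e h (e s) = e ⟨h * s * h⁻¹, hS.conj_mem s s.2 h⟩ := by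
  have h1 : (@MulAut.conjNormal H _ S hS h) s = ⟨h * s * h⁻¹, hS.conj_mem s s.2 h⟩ := by
    apply Subtype.ext
    exact @MulAut.conjNormal_apply H _ S hS h s
  unfold act
  simp only [MonoidHom.comp_apply, MulEquiv.coe_toMonoidHom]
  rw [← h1]
  simp [MulAut.congr]

theorem act_injective (hS : S.Normal) (e : S ≃* T) (hc : Subgroup.centralizer (S : Set H) = ⊥) :
    Function.Injective (act hS e) := by
  rw [injective_iff_map_eq_one]
  intro h hh
  have h1 : h ∈ Subgroup.centralizer (S : Set H) := by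
    rw [Subgroup.mem_centralizer_iff]
    intro s hs
    have h2 := act_apply hS e h ⟨s, hs⟩
    rw [hh, MulAut.one_apply] at h2
    have h3 := congrArg Subtype.val (e.injective h2)
    have h4 : s = h * s * h⁻¹ := h3
    rw [eq_mul_inv_iff_mul_eq] at h4
    exact h4
  rw [hc] at h1
  exact Subgroup.mem_bot.1 h1

theorem index_dvd_outCard (hS : S.Normal) (e : S ≃* T) (hc : Subgroup.centralizer (S : Set H) = ⊥) :
    S.index ∣ outCard T := by
  have hinn : ((MulAut.conj (G := T)).range).Normal := inn_normal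
  have h1 : S = ((MulAut.conj (G := T)).range).comap (act hS e) := by
    ext h
    rw [Subgroup.mem_comap]
    constructor
    · intro hs
      refine ⟨e ⟨h, hs⟩, ?_⟩
      ext y
      obtain ⟨s, rfl⟩ := e.surjective y
      rw [act_apply, MulAut.conj_apply, ← map_mul, ← map_inv, ← map_mul]
      rfl
    · rintro ⟨t, ht⟩
      obtain ⟨s, rfl⟩ := e.surjective t
      have h2 : act hS e h = act hS e (s : H) := by
        rw [← ht]
        ext y
        obtain ⟨s', rfl⟩ := e.surjective y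
        rw [act_apply, MulAut.conj_apply, ← map_mul, ← map_inv, ← map_mul]
        rfl
      rw [act_injective hS e hc h2]
      exact s.2
  have h2 : S.index = ((MulAut.conj (G := T)).range).relIndex (act hS e).range := by
    conv_lhs => rw [h1]
    exact Subgroup.index_comap _ _
  rw [h2]
  exact Subgroup.relIndex_dvd_index_of_normal _ _

/-- elements of `S` outside the `S`-conjugates of `S ∩ K` are outside the conjugates of `K` -/
theorem card_NC_le (hS : S.Normal) (e : S ≃* T) (hsup : S ⊔ K = ⊤) :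
    Nat.card (NC ((K.subgroupOf S).map e.toMonoidHom)) ≤ Nat.card (NC K) := by
  refine Nat.card_le_card_of_injective
    (fun t => ⟨((e.symm t.1 : S) : H), ?_⟩) ?_
  · intro g hg
    -- `g = k s`
    have h1 : g ∈ S ⊔ K := by rw [hsup]; exact Subgroup.mem_top g
    haveI := hS
    obtain ⟨s, hs, k, hk, rfl⟩ := Subgroup.mem_sup_of_normal_left.1 h1
    -- `s k = k (k⁻¹ s k)`
    set s' : S := ⟨k⁻¹ * s * k, by
      have := hS.conj_mem s hs k⁻¹
      rwa [inv_inv] at this⟩ with hs'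
    have h2 : s * k = k * (s' : H) := by rw [hs']; group
    have h3 : (s' : H) * ((e.symm t.1 : S) : H) * (s' : H)⁻¹ ∈ K := by
      have h4 : (s' : H) * ((e.symm t.1 : S) : H) * (s' : H)⁻¹ =
          k⁻¹ * (s * k * ((e.symm t.1 : S) : H) * (s * k)⁻¹) * k := by
        rw [h2]; group
      rw [h4]
      exact K.mul_mem (K.mul_mem (K.inv_mem hk) hg) hk
    apply t.2 (e s')
    refine ⟨s' * e.symm t.1 * s'⁻¹, ?_, ?_⟩
    · show s' * e.symm t.1 * s'⁻¹ ∈ K.subgroupOf S
      rw [Subgroup.mem_subgroupOf]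
      exact h3
    · simp only [_root_.MulEquiv.toMonoidHom_eq_coe, _root_.MonoidHom.coe_coe, _root_.map_mul, _root_.MulEquiv.apply_symm_apply, _root_.map_inv]
  · intro t t' h
    have h1 : ((e.symm t.1 : S) : H) = ((e.symm t'.1 : S) : H) := Subtype.mk.inj h
    exact Subtype.ext (e.symm.injective (Subtype.ext h1))

/-- the images of `x` in `⟨x⟩` under the automorphisms in `D` -/
noncomputable def fusD (D : Subgroup (MulAut T)) (x : T) : ℕ :=
  Nat.card {y : T // y ∈ Subgroup.zpowers x ∧ ∃ α ∈ D, α x = y}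

/-- A good cyclic `u`-subgroup for `M < T`, relative to a group `D` of automorphisms. -/
def GoodD (C : ℝ) (T : Type*) [Group T] (M : Subgroup T) : Prop :=
  ∃ (D : Subgroup (MulAut T)) (u b : ℕ) (x : T), (MulAut.conj (G := T)).range ≤ D ∧ u.Prime ∧ b ≠ 0 ∧
    orderOf x = u ^ b ∧ (∀ P : Subgroup T, x ∈ P → (∀ y ∈ P, Commute y x) → IsPGroup u P → IsCyclic P) ∧
    ¬ u ∣ (MulAut.conj (G := T)).range.relIndex D ∧ (∀ α : MulAut T, α x ∉ M) ∧
    (D.index : ℝ) * (fusD D x : ℝ) ≤ C * Real.log (M.index : ℝ)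

theorem card_le_of_goodD {C : ℝ} (hS : S.Normal) (e : S ≃* T) (hc : Subgroup.centralizer (S : Set H) = ⊥)
    (hsup : S ⊔ K = ⊤) (h : GoodD C T ((K.subgroupOf S).map e.toMonoidHom)) :
    (Nat.card H : ℝ) ≤ 2 * C * Real.log (K.index : ℝ) * (Nat.card (NC K) : ℝ) := by
  obtain ⟨D, u, b, x, hD, hu, hb, hx, hcyc, hnd, hM, hfus⟩ := h
  have hinn : ((MulAut.conj (G := T)).range).Normal := inn_normal
  haveI := Fact.mk hu
  set H₀ := D.comap (act hS e) with hH₀
  -- `S ≤ H₀`
  have hSact : ∀ s : S, act hS e (s : H) = MulAut.conj (e s) := by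
    intro s
    ext y
    obtain ⟨s', rfl⟩ := e.surjective y
    rw [act_apply, MulAut.conj_apply, ← map_mul, ← map_inv, ← map_mul]
    rfl
  have hSH : S ≤ H₀ := by
    intro s hs
    rw [hH₀, Subgroup.mem_comap, hSact ⟨s, hs⟩]
    exact hD ⟨_, rfl⟩
  set x₀ : H₀ := ⟨((e.symm x : S) : H), hSH (e.symm x).2⟩ with hx₀
  -- an element of `H` normalising...
  have hconj : ∀ h : H, h * ((e.symm x : S) : H) * h⁻¹ ∈ S := fun h => hS.conj_mem _ (e.symm x).2 h
  have hconj2 : ∀ h : H, e ⟨h * ((e.symm x : S) : H) * h⁻¹, hconj h⟩ = act hS e h x := by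
    intro h
    have := act_apply hS e h (e.symm x)
    rw [e.apply_symm_apply] at this
    rw [this]
  have hord : orderOf x₀ = u ^ b := by
    rw [hx₀, Subgroup.orderOf_mk, Subgroup.orderOf_coe, ← hx]
    exact orderOf_injective e.symm.toMonoidHom e.symm.injective x
  -- `u`-subgroups of `C_{H₀}(x₀)` lie in `S`
  have hcyc₀ : ∀ P : Subgroup H₀, x₀ ∈ P → (∀ y ∈ P, Commute y x₀) → IsPGroup u P → IsCyclic P := by
    intro P hxP hPc hPu
    -- `P ≤ S`
    have hPS : ∀ y ∈ P, (y : H) ∈ S := by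
      intro y hy
      -- the image in `D / Inn`
      obtain ⟨k, hk⟩ := hPu ⟨y, hy⟩
      have hk' : y ^ u ^ k = 1 := congrArg Subtype.val hk
      have h1 : act hS e (y : H) ∈ D := y.2
      -- order of the image in the quotient
      set I := ((MulAut.conj (G := T)).range).subgroupOf D with hI
      haveI hIn : I.Normal := by rw [hI]; infer_instance
      set d : D := ⟨act hS e (y : H), h1⟩ with hd
      have h2 : (QuotientGroup.mk d : D ⧸ I) ^ u ^ k = 1 := by
        have h3 : d ^ u ^ k = 1 := by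
          apply Subtype.ext
          show (act hS e (y : H)) ^ u ^ k = 1
          rw [← map_pow, ← Subgroup.coe_pow, hk', Subgroup.coe_one, map_one]
        rw [← QuotientGroup.mk_pow, h3, QuotientGroup.mk_one]
      have h4 : orderOf (QuotientGroup.mk d : D ⧸ I) ∣ u ^ k := orderOf_dvd_of_pow_eq_one h2
      have h5 : orderOf (QuotientGroup.mk d : D ⧸ I) ∣ I.index := by
        rw [Subgroup.index]
        exact orderOf_dvd_natCard _
      have h6 : orderOf (QuotientGroup.mk d : D ⧸ I) = 1 := by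
        obtain ⟨j, hj, hj'⟩ := (Nat.dvd_prime_pow hu).1 h4
        rcases Nat.eq_zero_or_pos j with h7 | h7
        · rw [hj', h7, pow_zero]
        · exact absurd ((dvd_pow_self u h7.ne').trans (hj' ▸ h5)) hnd
      rw [orderOf_eq_one_iff, QuotientGroup.eq_one_iff, hI, Subgroup.mem_subgroupOf] at h6
      obtain ⟨t, ht⟩ := h6
      have h7 : act hS e (y : H) = act hS e ((e.symm t : S) : H) := by
        rw [hSact, e.apply_symm_apply]
        exact ht.symm
      rw [act_injective hS e hc h7]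
      exact (e.symm t).2
    -- transport to `T`
    let φ : P →* T :=
      { toFun := fun y => e ⟨((y : H₀) : H), hPS _ y.2⟩
        map_one' := by
          have : (⟨((1 : H₀) : H), hPS 1 (P.one_mem)⟩ : S) = 1 := Subtype.ext rfl
          show e ⟨((1 : H₀) : H), _⟩ = 1
          rw [this, map_one]
        map_mul' := fun y z => by
          show e ⟨(((y * z : P) : H₀) : H), _⟩ = e _ * e _
          rw [← map_mul]
          rfl }
    have hφ : Function.Injective φ := by
      intro y z hyz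
      have h1 := e.injective hyz
      have h2 := congrArg Subtype.val h1
      exact Subtype.ext (Subtype.ext h2)
    have h1 : IsCyclic φ.range := by
      refine hcyc φ.range ?_ ?_ ?_
      · refine ⟨⟨x₀, hxP⟩, ?_⟩
        show e ⟨((e.symm x : S) : H), _⟩ = x
        exact e.apply_symm_apply x
      · rintro _ ⟨y, rfl⟩
        have h2 : φ ⟨x₀, hxP⟩ = x := by
          show e ⟨((e.symm x : S) : H), _⟩ = x
          exact e.apply_symm_apply x
        rw [← h2]
        have h3 : Commute y (⟨x₀, hxP⟩ : P) := Subtype.ext (hPc y y.2)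
        exact h3.map φ
      · exact hPu.of_surjective φ.rangeRestrict φ.rangeRestrict_surjective
    exact isCyclic_of_injective (MonoidHom.ofInjective hφ).toMonoidHom (MonoidHom.ofInjective hφ).injective
  -- no conjugate in `K`
  have hK : ∀ g : H₀, g * x₀ * g⁻¹ ∉ K.subgroupOf H₀ := by
    intro g hg
    rw [Subgroup.mem_subgroupOf] at hg
    have h1 : (g : H) * ((e.symm x : S) : H) * (g : H)⁻¹ ∈ K := hg
    refine hM (act hS e (g : H)) ⟨⟨_, hconj (g : H)⟩, ?_, hconj2 g⟩
    exact h1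
  have hmain := card_le_of_elt (K.subgroupOf H₀) hu hord hcyc₀ hK
  -- `fus ≤ fusD`
  have hf : fus x₀ ≤ fusD D x := by
    refine Nat.card_le_card_of_injective (fun y => ⟨e ⟨((y.1 : H₀) : H), ?_⟩, ?_, ?_⟩) ?_
    · obtain ⟨g, hg⟩ := isConj_iff.1 y.2.2
      rw [← hg]
      exact hconj (g : H)
    · obtain ⟨j, hj⟩ := Subgroup.mem_zpowers_iff.1 y.2.1
      refine Subgroup.mem_zpowers_iff.2 ⟨j, ?_⟩
      have h1 : x = e (e.symm x) := (e.apply_symm_apply x).symm
      conv_lhs => rw [h1]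
      rw [← map_zpow]
      congr 1
      apply Subtype.ext
      have h2 := congrArg (fun z : H₀ => (z : H)) hj
      exact h2
    · obtain ⟨g, hg⟩ := isConj_iff.1 y.2.2
      refine ⟨act hS e (g : H), g.2, ?_⟩
      rw [← hconj2]
      congr 1
      apply Subtype.ext
      exact congrArg (fun z : H₀ => (z : H)) hg
    · intro y z hyz
      have h1 := e.injective (Subtype.mk.inj hyz)
      exact Subtype.ext (Subtype.ext (Subtype.mk.inj h1))
  -- `NC (K ∩ H₀) ≤ NC K`
  have hN : Nat.card (NC (K.subgroupOf H₀)) ≤ Nat.card (NC K) := by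
    refine Nat.card_le_card_of_injective (fun t => ⟨((t.1 : H₀) : H), ?_⟩) ?_
    · intro g hg
      have h1 : g ∈ S ⊔ K := by rw [hsup]; exact Subgroup.mem_top g
      haveI := hS
      obtain ⟨s, hs, k, hk, rfl⟩ := Subgroup.mem_sup_of_normal_left.1 h1
      set s' : H₀ := ⟨k⁻¹ * s * k, hSH (by
        have := hS.conj_mem s hs k⁻¹
        rwa [inv_inv] at this)⟩ with hs'
      apply t.2 s'
      rw [Subgroup.mem_subgroupOf]
      show (k⁻¹ * s * k) * ((t.1 : H₀) : H) * (k⁻¹ * s * k)⁻¹ ∈ K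
      have h4 : (k⁻¹ * s * k) * ((t.1 : H₀) : H) * (k⁻¹ * s * k)⁻¹ =
          k⁻¹ * (s * k * ((t.1 : H₀) : H) * (s * k)⁻¹) * k := by group
      rw [h4]
      exact K.mul_mem (K.mul_mem (K.inv_mem hk) hg) hk
    · intro y z hyz
      exact Subtype.ext (Subtype.ext (Subtype.mk.inj hyz))
  -- indices
  have hidx : Nat.card H ≤ D.index * Nat.card H₀ := by
    have h1 : H₀.index ≤ D.index := by
      rw [hH₀, Subgroup.index_comap]
      have h2 : D.relIndex ⊤ ≠ 0 := by
        rw [Subgroup.relIndex_top_right]; exact Subgroup.index_ne_zero_of_finite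
      exact (Subgroup.relIndex_le_of_le_right le_top h2).trans_eq (Subgroup.relIndex_top_right D)
    rw [← H₀.index_mul_card]
    exact Nat.mul_le_mul_right _ h1
  have hidx2 : ((K.subgroupOf S).map e.toMonoidHom).index = K.index := by
    have h1 : ((K.subgroupOf S).map e.toMonoidHom).index = (K.subgroupOf S).index :=
      Subgroup.index_map_equiv (K.subgroupOf S) e
    rw [h1]
    exact relIndex_eq hS hsup
  rw [hidx2] at hfus
  have hstep : Nat.card H ≤ D.index * (2 * (fusD D x * Nat.card (NC K))) := by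
    refine hidx.trans (Nat.mul_le_mul_left _ (hmain.trans (Nat.mul_le_mul_left 2 ?_)))
    exact Nat.mul_le_mul hf hN
  calc (Nat.card H : ℝ) ≤ ((D.index * (2 * (fusD D x * Nat.card (NC K))) : ℕ) : ℝ) := by exact_mod_cast hstep
    _ = 2 * ((D.index : ℝ) * (fusD D x : ℝ)) * (Nat.card (NC K) : ℝ) := by push_cast; ring
    _ ≤ 2 * (C * Real.log (K.index : ℝ)) * (Nat.card (NC K) : ℝ) := by
      refine mul_le_mul_of_nonneg_right ?_ (Nat.cast_nonneg _)
      exact mul_le_mul_of_nonneg_left hfus two_pos.le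
    _ = _ := by ring

theorem GoodD.mono {C : ℝ} (hC : 0 ≤ C) {M N : Subgroup T} (h : M ≤ N) (hN : GoodD C T N) : GoodD C T M := by
  obtain ⟨D, u, b, x, h1, h2, h3, h4, h5, h6, h7, h8⟩ := hN
  exact ⟨D, u, b, x, h1, h2, h3, h4, h5, h6, fun α hα => h7 α (h hα),
    h8.trans (mul_le_mul_of_nonneg_left (log_index_le h) hC)⟩

theorem GoodD.le {C D : ℝ} (hCD : C ≤ D) {M : Subgroup T} (h : GoodD C T M) : GoodD D T M := by
  obtain ⟨E, u, b, x, h1, h2, h3, h4, h5, h6, h7, h8⟩ := h
  exact ⟨E, u, b, x, h1, h2, h3, h4, h5, h6, h7, h8.trans (mul_le_mul_of_nonneg_right hCD (log_index_nonneg M))⟩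

/-- only inner automorphisms -/
theorem goodD_inn {C : ℝ} {M : Subgroup T} {u b : ℕ} {x : T} (hu : u.Prime) (hb : b ≠ 0) (hx : orderOf x = u ^ b)
    (hcyc : ∀ P : Subgroup T, x ∈ P → (∀ y ∈ P, Commute y x) → IsPGroup u P → IsCyclic P)
    (hM : ∀ α : MulAut T, α x ∉ M) (h : (outCard T : ℝ) * (fus x : ℝ) ≤ C * Real.log (M.index : ℝ)) :
    GoodD C T M := by
  refine ⟨(MulAut.conj (G := T)).range, u, b, x, le_rfl, hu, hb, hx, hcyc, ?_, hM, ?_⟩
  · rw [Subgroup.relIndex_self]
    exact hu.one_lt.ne' ∘ Nat.dvd_one.1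
  · refine le_trans (le_of_eq ?_) h
    unfold fusD fus outCard
    congr 2
    refine Nat.card_congr (Equiv.subtypeEquivRight fun y => and_congr_right fun _ => ?_)
    rw [isConj_iff]
    constructor
    · rintro ⟨_, ⟨t, rfl⟩, h⟩
      exact ⟨t, h⟩
    · rintro ⟨t, h⟩
      exact ⟨_, ⟨t, rfl⟩, h⟩

/-- **The engine**: good subgroups of the simple group give the bound for the almost simple groups. -/
theorem as_of_good {C : ℝ} (hC : 0 < C) (h : ∀ M : Subgroup T, IsCoatom M → GoodD C T M ∨ Spec C T M) :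
    AS.{u, v} (1 / (2 * C)) T := by
  intro H _ _ S hS hST hc K hSK hsup
  obtain ⟨e⟩ := hST
  set M := (K.subgroupOf S).map e.toMonoidHom with hM
  have hidx : M.index = K.index := by
    have h1 : M.index = (K.subgroupOf S).index := Subgroup.index_map_equiv (K.subgroupOf S) e
    rw [h1]
    exact relIndex_eq hS hsup
  have hMtop : M ≠ ⊤ := by
    intro h1
    rw [← Subgroup.index_eq_one, hidx, Subgroup.index_eq_one] at h1
    exact hSK (h1 ▸ le_top)
  obtain ⟨N, hN, hMN⟩ := (eq_top_or_exists_le_coatom M).resolve_left hMtop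
  have hgood : GoodD C T M ∨ Spec C T M := (h N hN).imp (GoodD.mono hC.le hMN) (Spec.mono hC.le hMN)
  have hkey : (Nat.card H : ℝ) ≤ 2 * C * Real.log (K.index : ℝ) * (Nat.card (NC K) : ℝ) := by
    rcases hgood with h1 | h1
    · exact card_le_of_goodD hS e hc hsup h1
    · unfold Spec at h1
      rw [hidx] at h1
      have h2 : Nat.card H ≤ outCard T * Nat.card T := by
        rw [← S.index_mul_card, Nat.card_congr e.toEquiv]
        exact Nat.mul_le_mul_right _ (Nat.le_of_dvd
          (Nat.pos_of_ne_zero Subgroup.index_ne_zero_of_finite) (index_dvd_outCard hS e hc))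
      have h3 : (Nat.card (NC M) : ℝ) ≤ Nat.card (NC K) := by exact_mod_cast card_NC_le hS e hsup
      have h4 : 0 ≤ Real.log (K.index : ℝ) := Real.log_natCast_nonneg _
      have h5 : (Nat.card H : ℝ) ≤ C * Real.log (K.index : ℝ) * (Nat.card (NC K) : ℝ) := by
        calc (Nat.card H : ℝ) ≤ (outCard T : ℝ) * (Nat.card T : ℝ) := by exact_mod_cast h2
          _ ≤ C * Real.log (K.index : ℝ) * (Nat.card (NC M) : ℝ) := h1
          _ ≤ _ := mul_le_mul_of_nonneg_left h3 (mul_nonneg hC.le h4)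
      refine h5.trans (le_of_sub_nonneg ?_)
      have h6 : 0 ≤ C * Real.log (K.index : ℝ) * (Nat.card (NC K) : ℝ) :=
        mul_nonneg (mul_nonneg hC.le h4) (Nat.cast_nonneg _)
      linarith only [h5]
  rw [div_mul_eq_mul_div, one_mul, div_le_iff₀ (by positivity)]
  linarith only [hkey]

/-- Every single group. -/
theorem as_self [IsSimpleGroup T] : AS.{u, v} (Real.log 2 / (Nat.card (MulAut T) : ℝ)) T := by
  intro H _ _ S hS hST hc K hSK hsup
  obtain ⟨e⟩ := hST
  have h1 : Nat.card H ≤ Nat.card (MulAut T) :=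
    Nat.card_le_card_of_injective _ (act_injective hS e hc)
  have hK : K ≠ ⊤ := fun h => hSK (h ▸ le_top)
  have h2 : 2 ≤ K.index := by
    have h3 : K.index ≠ 0 := Subgroup.index_ne_zero_of_finite
    have h4 : K.index ≠ 1 := fun h => hK (Subgroup.index_eq_one.1 h)
    omega
  have h3 : Real.log 2 ≤ Real.log (K.index : ℝ) := Real.log_le_log two_pos (by exact_mod_cast h2)
  have h4 : (1 : ℝ) ≤ (Nat.card (NC K) : ℝ) := by
    have : Nonempty (NC K) := (NC_nonempty hK).to_subtype
    exact_mod_cast Nat.card_pos (α := NC K)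
  have h5 : 0 < (Nat.card (MulAut T) : ℝ) := by exact_mod_cast Nat.card_pos (α := MulAut T)
  have h6 : 0 ≤ Real.log 2 := Real.log_nonneg one_le_two
  calc Real.log 2 / (Nat.card (MulAut T) : ℝ) * (Nat.card H : ℝ)
      ≤ Real.log 2 / (Nat.card (MulAut T) : ℝ) * (Nat.card (MulAut T) : ℝ) :=
        mul_le_mul_of_nonneg_left (by exact_mod_cast h1) (div_nonneg h6 h5.le)
    _ = Real.log 2 * 1 := by rw [div_mul_cancel₀ _ h5.ne', mul_one]
    _ ≤ _ := mul_le_mul h3 h4 zero_le_one (h6.trans h3)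

theorem AS.mono {ε δ : ℝ} (h : ε ≤ δ) (hT : AS.{u, v} δ T) : AS.{u, v} ε T := by
  intro H _ _ S hS hST hc K hSK hsup
  exact (mul_le_mul_of_nonneg_right h (Nat.cast_nonneg _)).trans (hT H S hS hST hc K hSK hsup)

theorem card_mulAut_le : Nat.card (MulAut T) ≤ Nat.card T ^ Nat.card T := by
  classical
  have := Fintype.ofFinite T
  have h1 : Nat.card (MulAut T) ≤ Nat.card (T → T) :=
    Nat.card_le_card_of_injective (fun α : MulAut T => (α : T → T)) fun α β h => MulEquiv.ext fun x => congrFun h x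
  rwa [Nat.card_fun] at h1

theorem AS.congr {T' : Type w} [Group T'] {ε : ℝ} (e : T ≃* T') (h : AS.{w, v} ε T') : AS.{u, v} ε T := by
  intro H _ _ S hS hST hc K hSK hsup
  obtain ⟨e'⟩ := hST
  exact h H S hS ⟨e'.trans e⟩ hc K hSK hsup

end

/-- Finitely many groups. -/
theorem as_of_card_le (B : ℕ) : ∃ ε : ℝ, 0 < ε ∧ ∀ (T : Type u) [Group T] [Finite T] [IsSimpleGroup T],
    Nat.card T ≤ B → AS.{u, v} ε T := by
  have hB : (0 : ℝ) < (((B + 1) ^ (B + 1) : ℕ) : ℝ) := by positivity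
  refine ⟨Real.log 2 / (((B + 1) ^ (B + 1) : ℕ) : ℝ), div_pos (Real.log_pos one_lt_two) hB, ?_⟩
  intro T _ _ _ hT
  refine AS.mono ?_ as_self
  have h1 : Nat.card (MulAut T) ≤ (B + 1) ^ (B + 1) := by
    refine card_mulAut_le.trans ((Nat.pow_le_pow_left (by omega : Nat.card T ≤ B + 1) _).trans ?_)
    exact Nat.pow_le_pow_right (by omega) (by omega)
  have h5 : 0 < (Nat.card (MulAut T) : ℝ) := by exact_mod_cast Nat.card_pos (α := MulAut T)
  exact div_le_div_of_nonneg_left (Real.log_nonneg one_le_two) h5 (by exact_mod_cast h1)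

end Cfsg.Agent.H545.Dr
end

-- part: H491/Dp/Abs
section
/-!
# Good primes: subgroups, automizers by eigenvalues (helper491, project S5734, DP9)

* `GoodP.sub`, `GoodP.congr` : good primes of subgroups;
* `relIndex_le` : the automizer of a subgroup of order `u` from a counting function;
* `exists_eig` : an eigenvalue `≠ 1` of a matrix of order `u`;
* `aut_le` : `|N(⟨x⟩) : C(x)| ≤ n` in a central quotient (of order prime to `u`) of a linear group of degree `n`.
-/

set_option autoImplicit false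

namespace Cfsg.Agent.H491.Dp

open Subgroup Cfsg.Agent.H192.Dp

section sub

variable {G : Type*} [Group G] [Finite G] {u w : ℕ}

omit [Finite G] in
/-- all `u`-subgroups are cyclic -/
theorem isCyclic_of_good (h : GoodP G u w) {Q : Subgroup G} (hQ : IsPGroup u Q) : IsCyclic Q := by
  have := Fact.mk h.prime
  obtain ⟨P, hP⟩ := hQ.exists_le_sylow
  have := h.cyc P
  exact isCyclic_of_injective (Subgroup.inclusion hP) (Subgroup.inclusion_injective hP)

theorem GoodP.sub (h : GoodP G u w) (Y : Subgroup G) (hY : u ∣ Nat.card Y) : GoodP Y u w where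
  prime := h.prime
  cyc P := by
    have h1 : IsPGroup u ((P : Subgroup Y).map Y.subtype) := P.isPGroup'.map _
    have h2 := isCyclic_of_good h h1
    exact isCyclic_of_injective
      ((P : Subgroup Y).equivMapOfInjective Y.subtype Y.subtype_injective).toMonoidHom (MulEquiv.injective _)
  dvd := hY
  aut x hx := by
    have hx' : orderOf (x : G) = u := by rw [Subgroup.orderOf_coe, hx]
    refine le_trans ?_ (h.aut x hx')
    have hc : centralizer ({x} : Set Y) = (centralizer ({(x : G)} : Set G)).subgroupOf Y := by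
      ext y
      rw [mem_subgroupOf, mem_centralizer_singleton_iff, mem_centralizer_singleton_iff]
      exact ⟨fun h => congrArg Subtype.val h, fun h => Subtype.ext h⟩
    have hn : normalizer (zpowers x : Set Y) ≤ (normalizer (zpowers (x : G) : Set G)).subgroupOf Y := by
      intro y hy
      rw [mem_subgroupOf]
      have h1 : ((y : G) * x * (y : G)⁻¹) ∈ zpowers (x : G) := by
        have h2 := (mem_normalizer_iff.1 hy x).1 (mem_zpowers x)
        obtain ⟨k, hk⟩ := mem_zpowers_iff.1 h2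
        exact mem_zpowers_iff.2 ⟨k, by simpa only [_root_.SubgroupClass.coe_zpow, _root_.Subgroup.coe_mul, _root_.InvMemClass.coe_inv] using congrArg Subtype.val hk⟩
      have h3 : ∀ z ∈ zpowers (x : G), (y : G) * z * (y : G)⁻¹ ∈ zpowers (x : G) := by
        rintro z ⟨k, rfl⟩
        have h4 : (y : G) * (fun i : ℤ => (x : G) ^ i) k * (y : G)⁻¹ = ((y : G) * x * (y : G)⁻¹) ^ k :=
          (conj_zpow (i := k) (a := (y : G)) (b := (x : G))).symm
        rw [h4]
        exact zpow_mem h1 k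
      have h5 : (zpowers (x : G)).map (MulAut.conj (y : G)).toMonoidHom = zpowers (x : G) := by
        apply Subgroup.eq_of_le_of_card_ge
        · rintro _ ⟨z, hz, rfl⟩
          exact h3 z hz
        · rw [Subgroup.card_map_of_injective (MulAut.conj (y : G)).injective]
      rw [mem_normalizer_iff]
      intro z
      refine ⟨h3 z, fun hz => ?_⟩
      rw [← h5] at hz
      obtain ⟨z', hz', h6⟩ := hz
      have h7 : (y : G) * z' * (y : G)⁻¹ = y * z * (y : G)⁻¹ := h6
      rw [← mul_left_cancel (mul_right_cancel h7)]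
      exact hz'
    rw [hc]
    have h1 : ((centralizer ({(x : G)} : Set G)).subgroupOf Y).relIndex
        ((normalizer (zpowers (x : G) : Set G)).subgroupOf Y) ≤
        (centralizer ({(x : G)} : Set G)).relIndex (normalizer (zpowers (x : G) : Set G)) := by
      rw [← Subgroup.inf_subgroupOf_right (normalizer (zpowers (x : G) : Set G)) Y,
        Subgroup.relIndex_subgroupOf inf_le_right]
      exact Subgroup.relIndex_le_of_le_right inf_le_left (Subgroup.FiniteIndex.index_ne_zero (H := _))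
    refine le_trans ?_ h1
    exact Subgroup.relIndex_le_of_le_right hn (Subgroup.FiniteIndex.index_ne_zero (H := _))

theorem GoodP.congr {K : Type*} [Group K] (e : K ≃* G) (h : GoodP G u w) : GoodP K u w where
  prime := h.prime
  cyc P := by
    have : Finite K := Finite.of_equiv _ e.symm.toEquiv
    have h1 : IsPGroup u ((P : Subgroup K).map e.toMonoidHom) := P.isPGroup'.map _
    have h2 := isCyclic_of_good h h1
    exact isCyclic_of_injective
      ((P : Subgroup K).equivMapOfInjective e.toMonoidHom e.injective).toMonoidHom (MulEquiv.injective _)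
  dvd := by
    rw [Nat.card_congr e.toEquiv]
    exact h.dvd
  aut x hx := by
    have : Finite K := Finite.of_equiv _ e.symm.toEquiv
    have hx' : orderOf (e x) = u := by rw [MulEquiv.orderOf_eq, hx]
    have h1 := h.aut (e x) hx'
    have hc : (centralizer ({x} : Set K)) = (centralizer ({e x} : Set G)).comap e.toMonoidHom := by
      ext y
      rw [mem_comap, mem_centralizer_singleton_iff, mem_centralizer_singleton_iff]
      show _ ↔ e y * e x = e x * e y
      rw [← map_mul, ← map_mul]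
      exact ⟨fun h => congrArg e h, fun h => e.injective h⟩
    have hn : normalizer (zpowers x : Set K) ≤ (normalizer (zpowers (e x) : Set G)).comap e.toMonoidHom := by
      intro y hy
      rw [mem_comap, mem_normalizer_iff]
      intro z
      obtain ⟨z, rfl⟩ := e.surjective z
      have hm : ∀ z : K, e z ∈ zpowers (e x) ↔ z ∈ zpowers x := by
        intro z
        rw [mem_zpowers_iff, mem_zpowers_iff]
        constructor
        · rintro ⟨k, hk⟩
          exact ⟨k, e.injective (by rw [map_zpow, hk])⟩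
        · rintro ⟨k, rfl⟩
          exact ⟨k, by rw [map_zpow]⟩
      show e z ∈ zpowers (e x) ↔ e y * e z * (e y)⁻¹ ∈ zpowers (e x)
      rw [← map_inv, ← map_mul, ← map_mul, hm, hm]
      exact mem_normalizer_iff.1 hy z
    rw [hc]
    refine (Subgroup.relIndex_le_of_le_right hn (Subgroup.FiniteIndex.index_ne_zero (H := _))).trans ?_
    rwa [Subgroup.relIndex_comap, Subgroup.map_comap_eq_self_of_surjective e.surjective]

end sub

/-! ### Automizers -/

section aut

/-- the automizer from a counting function -/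
theorem relIndex_le {D : Type*} [Group D] [Finite D] {x : D} {K : Type*} (φ : ℕ → K) (S : Finset K)
    (h1 : ∀ (g : D) (k : ℕ), g * x * g⁻¹ = x ^ k → φ k ∈ S) (h2 : ∀ k k' : ℕ, φ k = φ k' → x ^ k = x ^ k') :
    (centralizer ({x} : Set D)).relIndex (normalizer (zpowers x : Set D)) ≤ S.card := by
  classical
  set N := normalizer (zpowers x : Set D) with hN
  have hk : ∀ g : N, ∃ k : ℕ, (g : D) * x * (g : D)⁻¹ = x ^ k := by
    intro g
    have h3 := (mem_normalizer_iff.1 g.2 x).1 (mem_zpowers x)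
    obtain ⟨k, hk⟩ := (Submonoid.mem_powers_iff _ _).1 ((mem_powers_iff_mem_zpowers).2 h3)
    exact ⟨k, hk.symm⟩
  choose k hk using hk
  unfold Subgroup.relIndex Subgroup.index
  let f : (N ⧸ (centralizer ({x} : Set D)).subgroupOf N) → S := fun q => ⟨φ (k q.out), h1 _ _ (hk q.out)⟩
  have hf : Function.Injective f := by
    intro q q' h
    have h3 := h2 _ _ (congrArg Subtype.val h)
    rw [← hk, ← hk] at h3
    rw [← Quotient.out_eq' q, ← Quotient.out_eq' q', QuotientGroup.eq, mem_subgroupOf, mem_centralizer_singleton_iff]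
    show ((q.out : N) : D)⁻¹ * ((q'.out : N) : D) * x = x * (((q.out : N) : D)⁻¹ * ((q'.out : N) : D))
    generalize ((q.out : N) : D) = a at h3 ⊢
    generalize ((q'.out : N) : D) = b at h3 ⊢
    calc a⁻¹ * b * x = a⁻¹ * (b * x * b⁻¹) * b := by group
      _ = a⁻¹ * (a * x * a⁻¹) * b := by rw [h3]
      _ = _ := by group
  have h4 := Nat.card_le_card_of_injective f hf
  rwa [Nat.card_eq_fintype_card (α := S), Fintype.card_coe] at h4

open Matrix in
/-- an eigenvalue `≠ 1` of a matrix of order `u` -/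
theorem exists_eig {K : Type*} [Field K] [IsAlgClosed K] {n : ℕ} {M : Matrix (Fin n) (Fin n) K} {u : ℕ}
    (hu : (u : K) ≠ 0) (hM : M ^ u = 1) (hM1 : M ≠ 1) :
    ∃ ζ : K, ζ ^ u = 1 ∧ ζ ≠ 1 ∧ ∃ v : Fin n → K, v ≠ 0 ∧ M *ᵥ v = ζ • v := by
  set f : Module.End K (Fin n → K) := Matrix.toLin' M with hf
  have hfu : f ^ u = 1 := by
    rw [hf, ← Matrix.toLin'_pow, hM, Matrix.toLin'_one]
    rfl
  set N : Module.End K (Fin n → K) := ∑ i ∈ Finset.range u, f ^ i with hNd
  have hfN : f * N = N * f := by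
    rw [hNd, Finset.mul_sum, Finset.sum_mul]
    refine Finset.sum_congr rfl fun i _ => ?_
    rw [← pow_succ, ← pow_succ']
  have hN1 : N * (f - 1) = 0 := by
    rw [hNd, geom_sum_mul, hfu, sub_self]
  set W := LinearMap.ker N with hW
  have hfW : ∀ w ∈ W, f w ∈ W := by
    intro w hw
    rw [hW, LinearMap.mem_ker] at hw ⊢
    have h1 : (N * f) w = (f * N) w := by rw [hfN]
    have h2 : N (f w) = f (N w) := h1
    rw [h2, hw, map_zero]
  have hnt : Nontrivial W := by
    have h1 : ∃ v, f v ≠ v := by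
      by_contra h
      push Not at h
      apply hM1
      apply Matrix.toLin'.injective
      rw [Matrix.toLin'_one]
      ext1 v
      exact LinearMap.ext fun w => h _ 
    obtain ⟨v, hv⟩ := h1
    refine ⟨⟨⟨f v - v, ?_⟩, 0, ?_⟩⟩
    · rw [hW, LinearMap.mem_ker]
      exact congrArg (fun g : Module.End K (Fin n → K) => g v) hN1
    · intro h
      apply hv
      exact sub_eq_zero.1 (congrArg Subtype.val h)
  obtain ⟨ζ, hζ⟩ := Module.End.exists_eigenvalue (f.restrict hfW)
  obtain ⟨w, hw⟩ := hζ.exists_hasEigenvector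
  have hw0 : (w : Fin n → K) ≠ 0 := fun h => hw.2 (Subtype.ext h)
  have hfw : f w = ζ • (w : Fin n → K) := congrArg Subtype.val hw.apply_eq_smul
  have hpow : ∀ i : ℕ, (f ^ i) w = ζ ^ i • (w : Fin n → K) := by
    intro i
    induction i with
    | zero => simp
    | succ i ih => rw [pow_succ', Module.End.mul_apply, ih, map_smul, hfw, smul_smul, pow_succ]
  refine ⟨ζ, ?_, ?_, w, hw0, ?_⟩
  · have h1 := hpow u
    rw [hfu, Module.End.one_apply] at h1
    have h2 : (ζ ^ u - 1) • (w : Fin n → K) = 0 := by rw [sub_smul, one_smul, ← h1, sub_self]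
    exact sub_eq_zero.1 ((smul_eq_zero.1 h2).resolve_right hw0)
  · rintro rfl
    have h1 : N w = 0 := w.2
    rw [hNd, LinearMap.sum_apply, Finset.sum_congr rfl (fun i _ => hpow i)] at h1
    simp only [one_pow, one_smul, Finset.sum_const, Finset.card_range] at h1
    rw [← Nat.cast_smul_eq_nsmul K, smul_eq_zero] at h1
    exact h1.elim hu hw0
  · rw [← hfw, hf, Matrix.toLin'_apply]

/-- a lift of order `u` -/
theorem exists_lift {Γ D : Type*} [Group Γ] [Finite Γ] [Group D] (π : Γ →* D) (hπ : Function.Surjective π)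
    {u : ℕ} (hu : u.Prime) (hcop : ¬ u ∣ Nat.card π.ker) {x : D} (hx : x ^ u = 1) :
    ∃ y : Γ, π y = x ∧ y ^ u = 1 := by
  obtain ⟨g, rfl⟩ := hπ x
  have hc : Nat.Coprime u (Nat.card π.ker) := (Nat.Prime.coprime_iff_not_dvd hu).2 hcop
  obtain ⟨m, hm1, hm2⟩ := Nat.chineseRemainder hc 1 0
  have hk : g ^ u ∈ π.ker := by rw [MonoidHom.mem_ker, map_pow, hx]
  refine ⟨g ^ m, ?_, ?_⟩
  · rw [map_pow]
    have h1 : orderOf (π g) ∣ u := orderOf_dvd_of_pow_eq_one hx
    have h2 : m ≡ 1 [MOD orderOf (π g)] := hm1.of_dvd h1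
    rw [pow_eq_pow_iff_modEq.2 h2, pow_one]
  · rw [← pow_mul, mul_comm, pow_mul]
    obtain ⟨c, hc⟩ := (Nat.modEq_zero_iff_dvd).1 hm2
    rw [hc, pow_mul]
    have h3 : (⟨g ^ u, hk⟩ : π.ker) ^ Nat.card π.ker = 1 := pow_card_eq_one'
    have h4 : (g ^ u) ^ Nat.card π.ker = 1 := congrArg Subtype.val h3
    rw [h4, one_pow]

open Matrix in
/-- **Automizers by eigenvalues.** -/
theorem aut_le {Γ D : Type*} [Group Γ] [Finite Γ] [Group D] [Finite D] {n u : ℕ} (hu : u.Prime) (π : Γ →* D)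
    (hπ : Function.Surjective π) (hker : π.ker ≤ center Γ) (hcop : ¬ u ∣ Nat.card π.ker)
    {F : Type*} [Field F] (huF : (u : F) ≠ 0) (ι : Γ →* Matrix.GeneralLinearGroup (Fin n) F)
    (hι : Function.Injective ι) {x : D} (hx : orderOf x = u) :
    (centralizer ({x} : Set D)).relIndex (normalizer (zpowers x : Set D)) ≤ n := by
  classical
  have hxu : x ^ u = 1 := by rw [← hx, pow_orderOf_eq_one]
  obtain ⟨y, rfl, hy⟩ := exists_lift π hπ hu hcop hxu
  let K := AlgebraicClosure F
  let ρ : Γ →* Matrix (Fin n) (Fin n) K :=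
    ((algebraMap F K).mapMatrix.toMonoidHom.comp (Units.coeHom _)).comp ι
  have hρ : Function.Injective ρ := by
    intro a b hab
    apply hι
    apply Units.ext
    exact Matrix.map_injective (algebraMap F K).injective hab
  have hy1 : y ≠ 1 := by
    rintro rfl
    rw [map_one, orderOf_one] at hx
    exact hu.one_lt.ne hx
  have huK : (u : K) ≠ 0 := by
    rw [← map_natCast (algebraMap F K)]
    exact fun h => huF ((map_eq_zero _).1 h)
  obtain ⟨ζ, hζ, hζ1, v, hv, hyv⟩ := exists_eig huK (M := ρ y) (by rw [← map_pow, hy, map_one])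
    (fun h => hy1 (hρ (by rw [h, map_one])))
  have hpow : ∀ k : ℕ, ρ (y ^ k) *ᵥ v = ζ ^ k • v := by
    intro k
    induction k with
    | zero => rw [pow_zero, pow_zero, map_one, Matrix.one_mulVec, one_smul]
    | succ k ih => rw [pow_succ', map_mul, ← Matrix.mulVec_mulVec, ih, Matrix.mulVec_smul, hyv, smul_smul, pow_succ]
  refine (relIndex_le (fun k => ζ ^ k) (ρ y).charpoly.roots.toFinset ?_ ?_).trans ?_
  · intro g k hg
    obtain ⟨h, rfl⟩ := hπ g
    -- the lift
    have h1 : h * y * h⁻¹ = y ^ k := by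
      have h2 : (y ^ k)⁻¹ * (h * y * h⁻¹) ∈ π.ker := by
        rw [MonoidHom.mem_ker, map_mul, map_inv, map_mul, map_mul, map_inv, hg, map_pow, inv_mul_cancel]
      set z := (y ^ k)⁻¹ * (h * y * h⁻¹) with hz
      have hzc : ∀ g : Γ, g * z = z * g := mem_center_iff.1 (hker h2)
      have h3 : h * y * h⁻¹ = y ^ k * z := by rw [hz, mul_inv_cancel_left]
      have h4 : z ^ u = 1 := by
        have h5 : (h * y * h⁻¹) ^ u = 1 := by rw [conj_pow, hy, mul_one, mul_inv_cancel]
        rw [h3, (show Commute (y ^ k) z from hzc _).mul_pow, ← pow_mul, mul_comm k u, pow_mul, hy, one_pow, one_mul] at h5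
        exact h5
      have h5 : z = 1 := by
        have h6 : orderOf z ∣ u := orderOf_dvd_of_pow_eq_one h4
        have h7 : orderOf z ∣ Nat.card π.ker := by
          rw [← Subgroup.orderOf_mk z h2]
          exact _root_.orderOf_dvd_natCard _
        rcases (Nat.dvd_prime hu).1 h6 with h8 | h8
        · exact orderOf_eq_one_iff.1 h8
        · rw [h8] at h7
          exact absurd h7 hcop
      rw [h3, h5, mul_one]
    rw [Multiset.mem_toFinset, Polynomial.mem_roots (Matrix.charpoly_monic _).ne_zero]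
    -- the eigenvector
    have h2 : ρ y *ᵥ (ρ h⁻¹ *ᵥ v) = ζ ^ k • (ρ h⁻¹ *ᵥ v) := by
      have h3 : y * h⁻¹ = h⁻¹ * y ^ k := by rw [← h1]; group
      rw [Matrix.mulVec_mulVec, ← map_mul, h3, map_mul, ← Matrix.mulVec_mulVec, hpow, Matrix.mulVec_smul]
    have h3 : ρ h⁻¹ *ᵥ v ≠ 0 := by
      intro h4
      apply hv
      have h5 : ρ h *ᵥ (ρ h⁻¹ *ᵥ v) = v := by
        rw [Matrix.mulVec_mulVec, ← map_mul, mul_inv_cancel, map_one, Matrix.one_mulVec]
      rw [← h5, h4, Matrix.mulVec_zero]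
    have h4 : Module.End.HasEigenvalue (Matrix.toLin' (ρ y)) (ζ ^ k) :=
      Module.End.hasEigenvalue_of_hasEigenvector (x := ρ h⁻¹ *ᵥ v)
        ⟨Module.End.mem_eigenspace_iff.2 (by rw [Matrix.toLin'_apply, h2]), h3⟩
    rw [Module.End.hasEigenvalue_iff_isRoot_charpoly, Matrix.charpoly_toLin'] at h4
    exact h4
  · intro k k' hkk
    have h1 : orderOf ζ = u := by
      have := Fact.mk hu
      exact orderOf_eq_prime hζ hζ1
    have h2 : k ≡ k' [MOD u] := by
      have hz : ζ ≠ 0 := by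
        rintro rfl
        rw [zero_pow hu.ne_zero] at hζ
        exact zero_ne_one hζ
      have h3 : (Units.mk0 ζ hz) ^ k = (Units.mk0 ζ hz) ^ k' := Units.ext hkk
      rw [pow_eq_pow_iff_modEq] at h3
      rwa [← orderOf_units, Units.val_mk0, h1] at h3
    exact pow_eq_pow_iff_modEq.2 (by rw [hx]; exact h2)
  · refine (Multiset.toFinset_card_le _).trans ((Polynomial.card_roots' _).trans ?_)
    rw [Matrix.charpoly_natDegree_eq_dim, Fintype.card_fin]

/-- **Good primes of central quotients of linear groups.** -/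
theorem good_range {Γ A : Type*} [Group Γ] [Finite Γ] [Group A] [Finite A] {n u : ℕ} (hu : u.Prime) (π : Γ →* A)
    (hker : π.ker ≤ center Γ) (hcop : ¬ u ∣ Nat.card π.ker) (hdvd : u ∣ Nat.card Γ)
    (hcyc : ∀ Q : Subgroup Γ, IsPGroup u Q → IsCyclic Q)
    {F : Type*} [Field F] (huF : (u : F) ≠ 0) (ι : Γ →* Matrix.GeneralLinearGroup (Fin n) F)
    (hι : Function.Injective ι) : GoodP π.range u n where
  prime := hu
  cyc P := by
    have := Fact.mk hu
    obtain ⟨Q⟩ : Nonempty (Sylow u Γ) := inferInstance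
    have hπ := π.rangeRestrict_surjective
    have hQ : IsCyclic Q := hcyc Q Q.isPGroup'
    have h1 : IsCyclic (Q.mapSurjective hπ : Subgroup π.range) := by
      have h2 : ((Q.mapSurjective hπ : Sylow u π.range) : Subgroup π.range) = (Q : Subgroup Γ).map π.rangeRestrict := rfl
      rw [h2]
      exact isCyclic_of_surjective (π.rangeRestrict.subgroupMap (Q : Subgroup Γ))
        (π.rangeRestrict.subgroupMap_surjective _)
    exact isCyclic_of_surjective ((Q.mapSurjective hπ).equiv P).toMonoidHom ((Q.mapSurjective hπ).equiv P).surjective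
  dvd := by
    have h1 := π.ker.card_mul_index
    rw [Subgroup.index_ker] at h1
    rw [← h1] at hdvd
    exact (hu.dvd_mul.1 hdvd).resolve_left hcop
  aut x hx := by
    have hk : π.rangeRestrict.ker = π.ker := MonoidHom.ker_rangeRestrict π
    exact aut_le hu π.rangeRestrict π.rangeRestrict_surjective (by rw [hk]; exact hker) (by rw [hk]; exact hcop) huF ι hι hx

end aut

/-! ### Counting -/

section count

/-- `u` is good for the simple group itself -/
theorem good_of_inn {T : Type*} [Group T] [Finite T] [IsSimpleGroup T] {u w : ℕ} {D : Subgroup (MulAut T)}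
    (hD : GoodP D u w) (hInn : (MulAut.conj : T →* MulAut T).range ≤ D)
    (hidx : ¬ u ∣ (MulAut.conj : T →* MulAut T).range.relIndex D) : GoodP T u w := by
  have hu := hD.prime
  have hT : Finite (MulAut T) := inferInstance
  set I := (MulAut.conj : T →* MulAut T).range with hI
  have hcard : Nat.card D = I.relIndex D * Nat.card I := by
    rw [mul_comm, ← Nat.card_congr (Subgroup.subgroupOfEquivOfLe hInn).toEquiv]
    exact (Subgroup.card_mul_index (I.subgroupOf D)).symm
  have huI : u ∣ Nat.card I := by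
    have h1 := hD.dvd
    rw [hcard] at h1
    exact (hu.dvd_mul.1 h1).resolve_left hidx
  have hinj : Function.Injective (MulAut.conj : T →* MulAut T) := by
    rw [← MonoidHom.ker_eq_bot_iff]
    rcases (MonoidHom.normal_ker (MulAut.conj : T →* MulAut T)).eq_bot_or_eq_top with h | h
    · exact h
    · exfalso
      have h1 : I = ⊥ := by
        rw [hI, MonoidHom.range_eq_bot_iff, ← MonoidHom.ker_eq_top_iff]
        exact h
      rw [h1, Subgroup.card_bot] at huI
      exact hu.one_lt.ne' (Nat.dvd_one.1 huI)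
  have h1 : Nat.card (I.subgroupOf D) = Nat.card I := Nat.card_congr (Subgroup.subgroupOfEquivOfLe hInn).toEquiv
  exact GoodP.congr ((MonoidHom.ofInjective hinj).trans (Subgroup.subgroupOfEquivOfLe hInn).symm)
    (GoodP.sub hD _ (by rw [h1]; exact huI))

end count

end Cfsg.Agent.H491.Dp
end
end

-- part: H819/Dg/Core
section
prune_inst 0x2
set_option linter.all false
open scoped Cfsg.Agent.FastGrp

/-!
# S5734, exceptional groups: the common core (helper819)

* `TorG T N m` : `m ∣ |T|`, the centralisers of the elements of prime order `u ∣ m` are cyclic of order dividing `N`;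
* `TorG.dvd_of_not_missC` : `m ∣ |R|` unless a power of a prime with cyclic Sylow subgroups is missing;
* `rad` : no solvable normal subgroups;
* `char_of` : then `R` is almost simple with socle alternating or of Lie type in the characteristic `p`.
-/

set_option autoImplicit false

namespace Cfsg.Agent.H819.Dg

open Cfsg Cfsg.Agent.OrdDiv Cfsg.Agent.H902 Cfsg.Agent.H902.Names
open Cfsg.Agent.H290.ElReg Cfsg.Agent.H290.ElTab Cfsg.Agent.H290.ElCross Cfsg.Agent.H290.ElEng
  Cfsg.Agent.H290.ElRich Cfsg.Agent.H290.ElMain Cfsg.Agent.H290.ElWt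
open Cfsg.Agent.H436 (IsNamed Cond)
open Cfsg.Agent.H915.GN (HasChar)
open Cfsg.Agent.H264.FKS (exists_lie)
open Cfsg.Agent.H851.Dg (CycP MissC)
open Cfsg.Agent.H912.Bd

/-! ### cyclic tori -/

/-- `m ∣ |T|` and the centralisers of the elements of prime order `u ∣ m` are cyclic of order dividing `N` -/
structure TorG (T : Type*) [Group T] (N m : ℕ) : Prop where
  dvd : m ∣ Nat.card T
  cyc : ∀ u : ℕ, u.Prime → u ∣ m → ∀ x : T, orderOf x = u →
    IsCyclic (Subgroup.centralizer ({x} : Set T)) ∧ Nat.card (Subgroup.centralizer ({x} : Set T)) ∣ N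

variable {T : Type*} [Group T]

theorem TorG.congr {T' : Type*} [Group T'] (e : T ≃* T') {N m : ℕ} (h : TorG T N m) : TorG T' N m := by
  refine ⟨by rw [← Nat.card_congr e.toEquiv]; exact h.dvd, fun u hu hd x hx => ?_⟩
  have h1 := h.cyc u hu hd (e.symm x)
    (by rw [← hx]; exact orderOf_injective e.symm.toMonoidHom e.symm.injective x)
  have h3 : (Subgroup.centralizer ({e.symm x} : Set T)).map e.toMonoidHom = Subgroup.centralizer ({x} : Set T') := by
    ext y
    constructor
    · rintro ⟨z, hz, rfl⟩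
      have hz' := Subgroup.mem_centralizer_singleton_iff.1 hz
      rw [Subgroup.mem_centralizer_singleton_iff]
      have := congrArg e hz'
      simpa using this
    · intro hy
      rw [Subgroup.mem_centralizer_singleton_iff] at hy
      refine ⟨e.symm y, ?_, by simp⟩
      show e.symm y ∈ Subgroup.centralizer ({e.symm x} : Set T)
      rw [Subgroup.mem_centralizer_singleton_iff, ← map_mul, ← map_mul, hy]
  have e' := (Subgroup.centralizer ({e.symm x} : Set T)).equivMapOfInjective e.toMonoidHom e.injective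
  rw [h3] at e'
  refine ⟨?_, by rw [← Nat.card_congr e'.toEquiv]; exact h1.2⟩
  have := h1.1
  exact isCyclic_of_surjective e'.toMonoidHom e'.surjective

theorem TorG.mono {N N' m m' : ℕ} (h : TorG T N m) (hN : N ∣ N') (hm : m' ∣ m) : TorG T N' m' :=
  ⟨hm.trans h.dvd, fun u hu hd x hx =>
    ⟨(h.cyc u hu (hd.trans hm) x hx).1, (h.cyc u hu (hd.trans hm) x hx).2.trans hN⟩⟩

variable [Finite T]

theorem TorG.cycP {N m : ℕ} (h : TorG T N m) {u : ℕ} (hu : u.Prime) (hd : u ∣ m) : CycP u T := by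
  intro P hP
  have := Fact.mk hu
  by_cases hP1 : P = ⊥
  · subst hP1
    infer_instance
  · have hnt : Nontrivial P := (Subgroup.nontrivial_iff_ne_bot P).2 hP1
    have hZ := hP.center_nontrivial
    have hZp : IsPGroup u ↥(Subgroup.center P) := hP.to_subgroup _
    obtain ⟨z, hz⟩ : ∃ z : ↥(Subgroup.center P), orderOf z = u := by
      refine exists_prime_orderOf_dvd_card' u ?_
      obtain ⟨n, hn0, hn⟩ := (hZp.nontrivial_iff_card).1 hZ
      rw [hn]
      exact dvd_pow_self u hn0.ne'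
    have hzu : orderOf ((z : P) : T) = u := by rw [Subgroup.orderOf_coe, Subgroup.orderOf_coe, hz]
    have h1 := (h.cyc u hu hd _ hzu).1
    have hle : P ≤ Subgroup.centralizer ({((z : P) : T)} : Set T) := by
      intro y hy
      rw [Subgroup.mem_centralizer_singleton_iff]
      exact congrArg Subtype.val (Subgroup.mem_center_iff.1 z.2 ⟨y, hy⟩)
    exact isCyclic_of_injective (Subgroup.inclusion hle) (Subgroup.inclusion_injective hle)

theorem TorG.dvd_of_not_missC {N m : ℕ} (h : TorG T N m) {R : Subgroup T} (hR : ¬ MissC R) : m ∣ Nat.card R := by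
  refine (Nat.dvd_iff_prime_pow_dvd_dvd _ _).2 fun u k hu hk => ?_
  rcases Nat.eq_zero_or_pos k with rfl | h0
  · rw [pow_zero]; exact one_dvd _
  by_contra hnd
  exact hR ⟨u, k, hu, h0, hk.trans h.dvd, hnd, h.cycP hu ((dvd_pow_self u (by omega)).trans hk)⟩

omit [Finite T] in
theorem TorG.ab {N m : ℕ} (h : TorG T N m) {u : ℕ} (hu : u.Prime) (hd : u ∣ m) : Ab T u := by
  refine ⟨hu, hd.trans h.dvd, fun x hx a b ha hb => ?_⟩
  have hc := (h.cyc u hu hd x hx).1
  have h1 := (IsCyclic.commGroup (α := Subgroup.centralizer ({x} : Set T))).mul_comm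
    ⟨a, Subgroup.mem_centralizer_singleton_iff.2 ha⟩ ⟨b, Subgroup.mem_centralizer_singleton_iff.2 hb⟩
  exact congrArg Subtype.val h1

omit [Finite T] in
theorem TorG.tc {N m : ℕ} (h : TorG T N m) {u : ℕ} (hu : u.Prime) (hd : u ∣ m) : Tc T u N :=
  ⟨h.ab hu hd, fun x hx => (h.cyc u hu hd x hx).2⟩

/-! ### the radical -/

section Rad

variable {F : Type*} [Field F] {ι : Type*} [Fintype ι] [DecidableEq ι] {G : Type*} [Group G] [Finite G]

/-- an element of prime order acting trivially on the nontrivial weights centralises `A` -/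
theorem dvd_factorial {p : ℕ} [CharP F p] {τ : G →* GL ι F} (hτ : Function.Injective τ) {A : Subgroup G}
    [hAn : A.Normal] (hA : ∀ a ∈ A, ∀ b ∈ A, a * b = b * a) (hp : ¬ p ∣ Nat.card A) (hne : A ≠ ⊥) {u k : ℕ}
    (hu : u.Prime) (hfree : ∀ x : G, orderOf x = u → ∀ a ∈ A, x * a = a * x → a = 1) (hk : u ^ k ∣ Nat.card G) :
    u ^ k ∣ (Fintype.card ι).factorial := by
  have := Fact.mk hu
  have : CharP (AlgebraicClosure F) p := charP_of_injective_algebraMap (algebraMap F _).injective p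
  have hN : ((Nat.card A : ℕ) : AlgebraicClosure F) ≠ 0 := by
    intro h
    exact hp ((CharP.cast_eq_zero_iff (AlgebraicClosure F) p _).1 h)
  have hAN : ∀ a ∈ A, a ^ Nat.card A = 1 := by
    intro a ha
    have := pow_card_eq_one' (x := (⟨a, ha⟩ : A))
    exact congrArg Subtype.val this
  obtain ⟨hfin, hle⟩ := finite_wts (cl τ) hA hN hAN
  set φ : G →* Equiv.Perm (Wts (cl τ) A) := MulAction.toPermHom G (Wts (cl τ) A) with hφ
  have hker : ¬ u ∣ Nat.card φ.ker := by
    intro hd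
    obtain ⟨⟨x, hx⟩, hxu⟩ := exists_prime_orderOf_dvd_card' u hd
    rw [Subgroup.orderOf_mk] at hxu
    have h3 : φ x = 1 := hx
    have h4 : ∀ χ : Wts (cl τ) A, x • χ = χ := fun χ => by
      have := DFunLike.congr_fun h3 χ
      exact this
    apply hne
    rw [eq_bot_iff]
    intro a ha
    rw [Subgroup.mem_bot]
    refine hfree x hxu a ha ?_
    have hxa : x⁻¹ * a * x ∈ A := by simpa using hAn.conj_mem a ha x⁻¹
    have hc : (x⁻¹ * a * x) * a⁻¹ ∈ A := mul_mem hxa (inv_mem ha)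
    have key : (x⁻¹ * a * x) * a⁻¹ = 1 := by
      by_contra hne'
      obtain ⟨χ, hχ, hχa⟩ := exists_wt (cl τ) hA hN hAN (c := ⟨_, hc⟩) (fun h => hne' (cl_injective hτ h))
      have h5 := congrFun (congrArg Subtype.val (h4 ⟨χ, hχ, ⟨_, hχa⟩⟩)) ⟨a, ha⟩
      have h6 : χ ⟨x⁻¹ * a * x, hxa⟩ = χ ⟨a, ha⟩ := h5
      apply hχa
      have h7 : (⟨(x⁻¹ * a * x) * a⁻¹, hc⟩ : A) = ⟨x⁻¹ * a * x, hxa⟩ * (⟨a, ha⟩ : A)⁻¹ := rfl
      rw [h7, wt_mul (cl τ) hχ, h6, ← wt_mul (cl τ) hχ, mul_inv_cancel, wt_one (cl τ) hχ]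
    have h8 : x⁻¹ * a * x = a := mul_inv_eq_one.1 key
    calc x * a = x * (x⁻¹ * a * x) := by rw [h8]
      _ = a * x := by group
  have h1 : Nat.card G = Nat.card φ.ker * Nat.card φ.range := by
    rw [← Subgroup.index_ker, Subgroup.card_mul_index]
  have h2 : u ^ k ∣ Nat.card φ.range := by
    rw [h1] at hk
    exact (Nat.Coprime.pow_left k ((Nat.Prime.coprime_iff_not_dvd hu).2 hker)).dvd_of_dvd_mul_left hk
  have h3 : Nat.card φ.range ∣ (Nat.card (Wts (cl τ) A)).factorial := by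
    rw [← Nat.card_perm]
    exact Subgroup.card_subgroup_dvd_card _
  refine (h2.trans h3).trans (Nat.factorial_dvd_factorial ?_)
  simpa using hle

end Rad

/-- **The radical.** -/
theorem rad {p : ℕ} [hpF : Fact p.Prime] {F : Type*} [Field F] [CharP F p] {ι : Type*} [Fintype ι] [DecidableEq ι]
    {τ : T →* GL ι F} (hτ : Function.Injective τ) {R : Subgroup T}
    (hcore : ∀ Q : Subgroup R, Q.Normal → IsPGroup p Q → Q = ⊥)
    (hfree : ∀ t : ℕ, t.Prime → t ≠ p → (∃ a : R, orderOf a = t) → (∃ A : Subgroup R, A.Normal ∧ A ≠ ⊥ ∧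
        (∀ a ∈ A, ∀ b ∈ A, a * b = b * a) ∧ ∀ a ∈ A, a ^ t = 1) →
      ∃ N m, TorG T N m ∧ m ∣ Nat.card R ∧ ¬ t ∣ N ∧ (Fintype.card ι).factorial < m) :
    ∀ S : Subgroup R, S.Normal → Group.IsSolvable S → S = ⊥ := by
  intro S hS hs
  by_contra hne
  obtain ⟨t, ht, A, hAn, hA0, hAc, hAt⟩ := exists_elem hS hs hne
  have hPt : IsPGroup t A := fun a => ⟨1, by rw [pow_one]; exact Subtype.ext (hAt a a.2)⟩
  by_cases htp : t = p
  · subst htp
    exact hA0 (hcore A hAn hPt)
  · have := Fact.mk ht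
    obtain ⟨k, hk⟩ := IsPGroup.iff_card.1 hPt
    have h3 : k ≠ 0 := by
      rintro rfl
      rw [pow_zero, Subgroup.card_eq_one] at hk
      exact hA0 hk
    have h1 : ¬ p ∣ Nat.card A := by
      intro h
      rw [hk] at h
      exact htp ((Nat.prime_dvd_prime_iff_eq hpF.out ht).1 (hpF.out.dvd_of_dvd_pow h)).symm
    obtain ⟨a, ha⟩ := exists_prime_orderOf_dvd_card' t (hk ▸ dvd_pow_self t h3)
    obtain ⟨N, m, hT, hm, htN, hlt⟩ := hfree t ht htp ⟨a, by rw [Subgroup.orderOf_coe, ha]⟩ ⟨A, hAn, hA0, hAc, hAt⟩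
    have h4 : m ∣ (Fintype.card ι).factorial := by
      refine (Nat.dvd_iff_prime_pow_dvd_dvd _ _).2 fun u j hu hj => ?_
      rcases Nat.eq_zero_or_pos j with rfl | h0
      · rw [pow_zero]; exact one_dvd _
      refine dvd_factorial (τ := τ.comp R.subtype) (hτ.comp R.subtype_injective) hAc h1 hA0 hu (fun x hx b hb hxb => ?_)
        (hj.trans hm)
      exact (hT.tc hu ((dvd_pow_self u (by omega)).trans hj)).free ht htN R.subtype R.subtype_injective hx (hAt b hb) hxb
    exact absurd (Nat.le_of_dvd (Nat.factorial_pos _) h4) (by omega)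

/-! ### bounded socles -/

/-- the characteristics of the names -/
theorem char_cases {g : Grp} (hc : Cond g) :
    (∃ m, 5 ≤ m ∧ g = .alt m) ∨ g ∈ spor.map (fun x => x.1) ∨ ∃ l, l.Prime ∧ HasChar l g := by
  have key : ∀ {q : ℕ}, IsPrimePow q → ∃ l, l.Prime ∧ ∃ f, q = l ^ f := fun h => by
    obtain ⟨l, f, hl, -, h⟩ := (isPrimePow_nat_iff _).1 h
    exact ⟨l, hl, f, h.symm⟩
  cases g with
  | alt n => exact Or.inl ⟨n, hc, rfl⟩
  | psl n q => exact Or.inr (Or.inr (key hc.2.2))
  | psp n q => exact Or.inr (Or.inr (key hc.2.2))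
  | psu n q => exact Or.inr (Or.inr (key hc.2.2))
  | oodd n q => exact Or.inr (Or.inr (key hc.2.2))
  | oplus n q => exact Or.inr (Or.inr (key hc.2))
  | ominus n q => exact Or.inr (Or.inr (key hc.2))
  | g2 q => exact Or.inr (Or.inr (key hc.2))
  | f4 q => exact Or.inr (Or.inr (key hc))
  | e6 q => exact Or.inr (Or.inr (key hc))
  | e7 q => exact Or.inr (Or.inr (key hc))
  | e8 q => exact Or.inr (Or.inr (key hc))
  | te6 q => exact Or.inr (Or.inr (key hc))
  | td4 q => exact Or.inr (Or.inr (key hc))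
  | sz q =>
    obtain ⟨m, -, h⟩ := hc
    exact Or.inr (Or.inr ⟨2, Nat.prime_two, _, h⟩)
  | ree q =>
    obtain ⟨m, -, h⟩ := hc
    exact Or.inr (Or.inr ⟨3, Nat.prime_three, _, h⟩)
  | tf4 q =>
    obtain ⟨m, -, h⟩ := hc
    exact Or.inr (Or.inr ⟨2, Nat.prime_two, _, h⟩)
  | _ => exact Or.inr (Or.inl (by decide))

/-- a bound for the order of a group of shape `X` -/
def bdX (x : Art.Sh × ℕ × ℕ) : ℕ := (x.2.1 ^ x.2.2) ^ Art.NN x.1 * Art.num x.1 (x.2.1 ^ x.2.2)

/-- the bound for the orders -/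
def KB₀ : ℕ := ((reg 248).map bdX).sum + (spor.map fun x => x.2).sum

theorem exists_KB₀ : ∃ n : ℕ, n = KB₀ := ⟨_, rfl⟩

/-- the bound for the orders (opaque) -/
noncomputable def KB : ℕ := exists_KB₀.choose

theorem KB_eq : KB = KB₀ := exists_KB₀.choose_spec

theorem le_KB {p n : ℕ} (hp : p.Prime) (hn : n ≤ 248) {F : Type} [Field F] [CharP F p] {S : Type} [Group S] [Finite S]
    [IsSimpleGroup S] (hna : ¬ IsMulCommutative S) (hF : Fth n F S) {g : Grp} (hg : IsNamed g S) :
    (∃ m, 5 ≤ m ∧ g = .alt m) ∨ HasChar p g ∨ Nat.card S ≤ KB := by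
  rcases char_cases hg.cond with h | h | ⟨l, hl, h⟩
  · exact Or.inl h
  · right; right
    obtain ⟨x, hx, rfl⟩ := List.mem_map.1 h
    have hc : Nat.card S = x.2 := hg.ord.trans (spor_ord x hx)
    rw [hc]
    have := List.le_sum_of_mem (List.mem_map_of_mem (f := fun x : Grp × ℕ => x.2) hx)
    rw [KB_eq]
    unfold KB₀
    omega
  · by_cases hlp : l = p
    · exact Or.inr (Or.inl (hlp ▸ h))
    · right; right
      obtain ⟨X, a, h1, h2, -⟩ := exists_lie hl hg h
      have h3 : lb X (l ^ a) ≤ n := by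
        refine lb_le (fun hcc => hna ⟨⟨hcc⟩⟩) hn hF h1 hg.real h2 (fun h0 => hlp ?_)
        exact ((Nat.prime_dvd_prime_iff_eq hp hl).1 ((CharP.cast_eq_zero_iff F p l).1 h0)).symm
      have h4 := mem_reg (n := 248) le_rfl hl h2.hf h2.ok (h3.trans hn)
      have h5 := List.le_sum_of_mem (List.mem_map_of_mem (f := bdX) h4)
      have h6 : Nat.card S ≤ bdX (X, (l, a)) := by
        unfold bdX
        rw [← h2.eq]
        exact Nat.le_mul_of_pos_left _ (Nat.pos_of_ne_zero h2.dd_ne)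
      rw [KB_eq]
      unfold KB₀
      omega

theorem card_mulAut_le {S : Type*} [Group S] [Finite S] : Nat.card (MulAut S) ≤ Nat.card S ^ Nat.card S := by
  rw [← Nat.card_fun]
  exact Nat.card_le_card_of_injective (fun f : MulAut S => (f : S → S)) DFunLike.coe_injective

theorem KB_pos : 1 ≤ KB := by
  have h : (7920 : ℕ) ∈ spor.map fun x => x.2 := by decide
  have := List.le_sum_of_mem h
  rw [KB_eq]
  unfold KB₀
  omega

/-- **The socle.** -/
theorem char_of (has : ASThm.{0}) (hrf : RichFix.{0})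
    (hft : ∀ (X : Type) [Group X] [Finite X], ¬ Group.IsSolvable X → 2 ∣ Nat.card X)
    (hnm : ∀ (S : Type) [Group S] [Finite S] [IsSimpleGroup S], ¬ IsMulCommutative S → ∃ g, IsNamed g S)
    {p n : ℕ} (hp : p.Prime) (hn : n ≤ 248) {F : Type} [Field F] [CharP F p] {T : Type} [Group T] [Finite T]
    (hF : Fth n F T) {R : Subgroup T} (hrad : ∀ S : Subgroup R, S.Normal → Group.IsSolvable S → S = ⊥)
    {N m : ℕ} (hT : TorG T N m) (hmR : m ∣ Nat.card R) (hm : KB ^ KB < m) (hodd : ¬ 2 ∣ N) :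
    ∃ S : Subgroup R, S.Normal ∧ IsSimpleGroup S ∧ ¬ IsMulCommutative S ∧
      Subgroup.centralizer (S : Set R) = ⊥ ∧ (∀ u, Ab T u → u ∣ Nat.card R → u ∣ Nat.card S) ∧
        ∃ g, IsNamed g S ∧ (HasChar p g ∨ ∃ k, 5 ≤ k ∧ g = .alt k) := by
  classical
  have h1 : 1 ≤ KB ^ KB := Nat.one_le_pow _ _ KB_pos
  have hns : ¬ Group.IsSolvable R := by
    intro hs
    have h3 := hrad ⊤ inferInstance inferInstance
    have h4 : Nat.card (⊤ : Subgroup R) = 1 := by rw [h3]; simp
    rw [Subgroup.card_top] at h4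
    have := Nat.le_of_dvd Nat.card_pos hmR
    omega
  obtain ⟨r, hr, hrm⟩ := Nat.exists_prime_and_dvd (n := m) (by omega)
  have htc := hT.tc hr hrm
  have hr2 : r ≠ 2 := by
    rintro rfl
    exact hodd htc.dvd_m
  obtain ⟨S, hSn, hSs, hSna, hSc⟩ := exists_socle has hrad (hft R hns) hr hr2 (hrm.trans hmR) (by
      intro g hg
      have h5 : orderOf (g ^ 2) = r := by
        rw [orderOf_pow' g (by norm_num), hg, Nat.gcd_mul_right_left, Nat.mul_div_cancel_left _ (by norm_num)]
      have h6 := htc.free Nat.prime_two hodd R.subtype R.subtype_injective (x := g ^ 2) (a := g ^ r) h5 (by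
        rw [← pow_mul, mul_comm, ← hg, pow_orderOf_eq_one]) (by rw [← pow_add, ← pow_add, add_comm])
      have h7 := orderOf_dvd_of_pow_eq_one h6
      rw [hg] at h7
      have := Nat.le_of_dvd hr.pos h7
      have := hr.pos
      omega)
  refine ⟨S, hSn, hSs, hSna, hSc, fun u hu huR => dvd_socle_rich hrf hSn hSs hSna hu.prime huR
    (fun x hx => hu.nilp R.subtype R.subtype_injective x hx), ?_⟩
  obtain ⟨g, hg⟩ := hnm S hSna
  refine ⟨g, hg, ?_⟩
  rcases le_KB hp hn hSna ((hF.sub R.subtype R.subtype_injective).sub S.subtype S.subtype_injective) hg with h | h | h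
  · exact Or.inr h
  · exact Or.inl h
  · exfalso
    have h2 := Nat.le_of_dvd Nat.card_pos (card_dvd_aut hSc)
    have h3 := card_mulAut_le (S := S)
    have h4 : Nat.card S ^ Nat.card S ≤ KB ^ KB :=
      (Nat.pow_le_pow_left h _).trans (Nat.pow_le_pow_right KB_pos h)
    have h5 := Nat.le_of_dvd Nat.card_pos hmR
    omega

end Cfsg.Agent.H819.Dg
end

-- part: H819/Dg/Tor
section
prune_inst 0x2
set_option linter.all false
open scoped Cfsg.Agent.FastGrp

/-!
# S5734, exceptional groups: the cyclic tori of `G₂`, `F₄`, `³D₄`, `²F₄` (helper819)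
-/

set_option autoImplicit false

namespace Cfsg.Agent.H819.Dg

open Cfsg Cfsg.Agent.OrdDiv
open Cfsg.Agent.H129.CycT Cfsg.Agent.H129.CycCard Cfsg.Agent.H946.Num
open Cfsg.Agent.H436 (Prim IsNamed)

theorem torG_of {T : Type*} [Group T] [Finite T] {N m : ℕ} (hm : m ∣ N)
    (h : ∀ u : ℕ, u.Prime → u ∣ m → CycCard T u N 1) : TorG T N m := by
  refine ⟨?_, fun u hu hd x hx => ?_⟩
  · by_cases h1 : m = 1
    · rw [h1]; exact one_dvd _
    · obtain ⟨u, hu, hd⟩ := Nat.exists_prime_and_dvd h1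
      obtain ⟨C, -, -, hC2, -, -⟩ := h u hu hd
      rw [one_mul] at hC2
      exact hm.trans (hC2.trans (Subgroup.card_subgroup_dvd_card C))
  · obtain ⟨C, hc, hC1, -, hC3, hC4⟩ := h u hu hd
    obtain ⟨f, hf⟩ := exists_hom hc hu hC3 hC4 hx
    exact ⟨isCyclic_of_injective f hf.1, by rw [Nat.card_congr (Equiv.ofBijective f hf)]; exact hC1⟩

/-- a cyclic torus of order `N` up to the prime `b` -/
def TorD (T : Type*) [Group T] (N b : ℕ) : Prop :=
  ∃ m, TorG T N m ∧ N ≤ b * m ∧ (∀ u, u.Prime → u ∣ m → u ∣ N ∧ u ≠ b) ∧ ∀ u, u.Prime → u ≠ b → u ∣ N → u ∣ m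

theorem TorD.congr {T T' : Type*} [Group T] [Group T'] (e : T ≃* T') {N b : ℕ} (h : TorD T N b) : TorD T' N b := by
  obtain ⟨m, h1, h2⟩ := h
  exact ⟨m, h1.congr e, h2⟩

theorem torD_of {T : Type*} [Group T] [Finite T] {N b : ℕ} (hb : b.Prime) (hbb : ¬ b * b ∣ N)
    (h : ∀ u : ℕ, u.Prime → u ∣ N → u ≠ b → CycCard T u N 1) : TorD T N b := by
  have hN : N ≠ 0 := by rintro rfl; exact hbb (dvd_zero _)
  by_cases hbN : b ∣ N
  · obtain ⟨m, rfl⟩ := hbN
    have h1 : ∀ u, u.Prime → u ∣ m → u ∣ b * m ∧ u ≠ b := by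
      rintro u hu hd
      refine ⟨hd.mul_left _, ?_⟩
      rintro rfl
      exact hbb (Nat.mul_dvd_mul_left _ hd)
    refine ⟨m, torG_of (Dvd.intro_left _ rfl) fun u hu hd => h u hu (h1 u hu hd).1 (h1 u hu hd).2, le_rfl, h1, ?_⟩
    intro u hu hne hd
    rcases hu.dvd_mul.1 hd with h | h
    · exact absurd ((Nat.prime_dvd_prime_iff_eq hu hb).1 h) hne
    · exact h
  · have h1 : ∀ u, u.Prime → u ∣ N → u ∣ N ∧ u ≠ b := by
      rintro u hu hd
      refine ⟨hd, ?_⟩
      rintro rfl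
      exact hbN hd
    exact ⟨N, torG_of dvd_rfl fun u hu hd => h u hu hd (h1 u hu hd).2, Nat.le_mul_of_pos_left _ hb.pos, h1,
      fun _ _ _ h => h⟩

/-! ### numbers -/

theorem nine_N3 (q : ℕ) : ¬ 3 * 3 ∣ N3 q := by
  intro h
  have h1 : ((N3 q : ℕ) : ZMod 9) = 0 := (ZMod.natCast_eq_zero_iff _ _).2 h
  unfold N3 at h1
  push_cast at h1
  generalize (q : ZMod 9) = x at h1
  revert h1; revert x; decide

theorem nine_N6 (q : ℕ) : ¬ 3 * 3 ∣ N6 q := by
  intro h
  have h1 : ((N6 q : ℕ) : ZMod 9) = 0 := (ZMod.natCast_eq_zero_iff _ _).2 h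
  have h2 : (((N6 q : ℕ) : ℤ) : ZMod 9) = 0 := by exact_mod_cast h1
  rw [cast_N6] at h2
  push_cast at h2
  generalize (q : ZMod 9) = x at h2
  revert h2; revert x; decide

theorem four_N8 (q : ℕ) : ¬ 2 * 2 ∣ N8 q := by
  intro h
  have h1 : ((N8 q : ℕ) : ZMod 4) = 0 := (ZMod.natCast_eq_zero_iff _ _).2 h
  unfold N8 at h1
  push_cast at h1
  generalize (q : ZMod 4) = x at h1
  revert h1; revert x; decide

theorem two_N12 (q : ℕ) : ¬ 2 ∣ N12 q := by
  intro h
  have h1 := zm_N12 Nat.prime_two h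
  generalize (q : ZMod 2) = x at h1
  revert h1; revert x; decide

theorem two_N3 (q : ℕ) : ¬ 2 ∣ N3 q := by
  intro h
  have h1 := zm_N3 Nat.prime_two h
  generalize (q : ZMod 2) = x at h1
  revert h1; revert x; decide

theorem le_N3 (q : ℕ) : q ≤ N3 q := by unfold N3; omega

theorem le_N6 (q : ℕ) : q ≤ N6 q := by
  have h := cast_N6 q
  zify
  rw [h]
  nlinarith [sq_nonneg ((q : ℤ) - 1)]

theorem le_N8 (q : ℕ) : q ≤ N8 q := by
  unfold N8
  exact (Nat.le_self_pow (by norm_num) q).trans (Nat.le_succ _)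

theorem le_N12 (q : ℕ) : q ≤ N12 q := by
  have h := cast_N12 q
  zify
  rw [h]
  have h1 : (q : ℤ) ≤ (q : ℤ) ^ 2 := by exact_mod_cast le_sq (q := q)
  nlinarith [sq_nonneg ((q : ℤ) ^ 2 - 1)]

/-- no common prime factors of `N₃` and `N₆` -/
theorem not_N3_N6 {q t : ℕ} (ht : t.Prime) (h3 : t ∣ N3 q) (h6 : t ∣ N6 q) : False := by
  have := Fact.mk ht
  have h0 := zm_N3 ht h3
  have h1 := zm_N6 ht h6
  have h2 : t ≠ 2 := by rintro rfl; exact two_N3 q h3
  have h4 : (2 : ZMod t) * (q : ZMod t) = 0 := by linear_combination h0 - h1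
  rcases mul_eq_zero.1 h4 with h5 | h5
  · exact h2 (small_ne ht Nat.prime_two (by exact_mod_cast h5))
  · rw [h5] at h0
    norm_num at h0

theorem not_N8_N12 {q t : ℕ} (ht : t.Prime) (h3 : t ∣ N8 q) (h6 : t ∣ N12 q) : False := by
  have := Fact.mk ht
  have h0 := zm_N8 ht h3
  have h1 := zm_N12 ht h6
  have h4 : (q : ZMod t) ^ 2 = 0 := by linear_combination h0 - h1
  have h5 : (q : ZMod t) = 0 := pow_eq_zero_iff (by norm_num) |>.1 h4
  rw [h5] at h0
  norm_num at h0

/-! ### the tori of `²F₄` -/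

/-- `q² + √(2q³) + q + √(2q) + 1`, `q = 2 x²` -/
def Np (x : ℕ) : ℕ := 4 * x ^ 4 + 4 * x ^ 3 + 2 * x ^ 2 + 2 * x + 1

/-- `q² - √(2q³) + q - √(2q) + 1`, `q = 2 x²` -/
def Nm (x : ℕ) : ℕ := (4 * x ^ 4 + 2 * x ^ 2 + 1) - (4 * x ^ 3 + 2 * x)

theorem Nm_le {x : ℕ} : 4 * x ^ 3 + 2 * x ≤ 4 * x ^ 4 + 2 * x ^ 2 + 1 := by
  rcases Nat.eq_zero_or_pos x with rfl | h
  · norm_num
  · have h1 : x ^ 3 ≤ x ^ 4 := Nat.pow_le_pow_right h (by norm_num)
    have h2 : x ≤ x ^ 2 := le_sq
    omega

theorem cast_Nm (x : ℕ) : ((Nm x : ℕ) : ℤ) = 1 - 2 * x + 2 * x ^ 2 - 4 * x ^ 3 + 4 * x ^ 4 := by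
  unfold Nm
  rw [Nat.cast_sub Nm_le]; push_cast; ring

theorem cast_Np (x : ℕ) : ((Np x : ℕ) : ℤ) = 1 + 2 * x + 2 * x ^ 2 + 4 * x ^ 3 + 4 * x ^ 4 := by
  unfold Np
  push_cast; ring

theorem Np_mul_Nm (x : ℕ) : Np x * Nm x = N12 (2 * x ^ 2) := by
  zify
  rw [cast_Np, cast_Nm, cast_N12]
  push_cast; ring

theorem not_Np_Nm {x t : ℕ} (ht : t.Prime) (h3 : t ∣ Np x) (h6 : t ∣ Nm x) : False := by
  have := Fact.mk ht
  have h2 : t ≠ 2 := by
    rintro rfl
    exact two_N12 _ ((h3.mul_right _).trans (Np_mul_Nm x).dvd)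
  have h0 : ((Np x : ℤ) : ZMod t) = 0 := by
    have := (ZMod.natCast_eq_zero_iff (Np x) t).2 h3
    exact_mod_cast this
  have h1 : ((Nm x : ℤ) : ZMod t) = 0 := by
    have := (ZMod.natCast_eq_zero_iff (Nm x) t).2 h6
    exact_mod_cast this
  rw [cast_Np] at h0
  rw [cast_Nm] at h1
  push_cast at h0 h1
  have h20 : (2 : ZMod t) ≠ 0 := fun h => h2 (small_ne ht Nat.prime_two (by exact_mod_cast h))
  generalize (x : ZMod t) = y at h0 h1
  have h4 : (2 : ZMod t) * (2 * (y * (1 + 2 * y ^ 2))) = 0 := by linear_combination h0 - h1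
  have h5 := (mul_eq_zero.1 ((mul_eq_zero.1 h4).resolve_left h20)).resolve_left h20
  rcases mul_eq_zero.1 h5 with h6 | h6
  · rw [h6] at h0
    norm_num at h0
  · have h7 : (1 : ZMod t) = 0 := by linear_combination h0 - (1 + 2 * y ^ 2 + 2 * y - 1) * h6
    exact one_ne_zero h7

theorem le_Np (x : ℕ) : 2 * x ^ 2 ≤ Np x := by unfold Np; omega

theorem le_Nm {x : ℕ} (hx : 2 ≤ x) : 2 * x ^ 2 ≤ Nm x := by
  have h := cast_Nm x
  zify
  rw [h]
  have h1 : (2 : ℤ) ≤ x := by exact_mod_cast hx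
  have h3 : (x : ℤ) ≤ (x : ℤ) ^ 3 := by
    exact_mod_cast Nat.le_self_pow (by norm_num) x
  nlinarith [mul_nonneg (pow_nonneg (by omega : (0 : ℤ) ≤ x) 3) (by omega : (0 : ℤ) ≤ (x : ℤ) - 2)]

/-! ### the families -/

theorem tor_g2 {T : Type} [Group T] [Finite T] {q : ℕ} (hT : IsNamed (.g2 q) T) :
    TorD T (N3 q) 3 ∧ TorD T (N6 q) 3 := by
  obtain ⟨F, _, _, hF, ⟨e⟩⟩ := hT.real
  have h3 : ((N3 q : ℕ) : ℤ) = 1 + (q : ℤ) + (q : ℤ) ^ 2 := by unfold N3; push_cast; ring
  have h6 : ((N6 q : ℕ) : ℤ) = 1 - (q : ℤ) + (q : ℤ) ^ 2 := by rw [cast_N6]; ring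
  exact ⟨(torD_of Nat.prime_three (nine_N3 q) fun u hu hd hne =>
      card_G2_3 hF h3 hu (h3 ▸ Int.natCast_dvd_natCast.2 hd) hne).congr e.symm,
    (torD_of Nat.prime_three (nine_N6 q) fun u hu hd hne =>
      card_G2_6 hF h6 hu (h6 ▸ Int.natCast_dvd_natCast.2 hd) hne).congr e.symm⟩

theorem tor_f4 {T : Type} [Group T] [Finite T] {q : ℕ} (hT : IsNamed (.f4 q) T) :
    TorD T (N8 q) 2 ∧ TorD T (N12 q) 2 := by
  obtain ⟨F, _, _, hF, ⟨e⟩⟩ := hT.real
  have h8 : ((N8 q : ℕ) : ℤ) = 1 + (q : ℤ) ^ 4 := by unfold N8; push_cast; ring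
  have h12 : ((N12 q : ℕ) : ℤ) = 1 - (q : ℤ) ^ 2 + (q : ℤ) ^ 4 := by rw [cast_N12]; ring
  exact ⟨(torD_of Nat.prime_two (four_N8 q) fun u hu hd hne =>
      card_F4_8 hF h8 hu (h8 ▸ Int.natCast_dvd_natCast.2 hd) hne).congr e.symm,
    (torD_of Nat.prime_two (fun h => two_N12 q ((Dvd.intro _ rfl).trans h)) fun u hu hd _ =>
      card_F4_12 hF h12 hu (h12 ▸ Int.natCast_dvd_natCast.2 hd)).congr e.symm⟩

theorem tor_td4 {T : Type} [Group T] [Finite T] {q : ℕ} (hT : IsNamed (.td4 q) T) : TorG T (N12 q) (N12 q) := by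
  obtain ⟨F, _, _, hF, ⟨e⟩⟩ := hT.real
  have h12 : ((N12 q : ℕ) : ℤ) = 1 - (q : ℤ) ^ 2 + (q : ℤ) ^ 4 := by rw [cast_N12]; ring
  have hq : IsPrimePow q := hT.cond
  exact (torG_of dvd_rfl fun u hu hd => card_tD4_12 hq hF h12 hu (h12 ▸ Int.natCast_dvd_natCast.2 hd)).congr e.symm

theorem card_eq_td4 {T : Type} [Group T] [Finite T] {q : ℕ} (hT : IsNamed (.td4 q) T) {u : ℕ} (hu : u.Prime)
    (hd : u ∣ N12 q) {x : T} (hx : orderOf x = u) : Nat.card (Subgroup.centralizer ({x} : Set T)) = N12 q := by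
  obtain ⟨F, _, _, hF, ⟨e⟩⟩ := hT.real
  have h12 : ((N12 q : ℕ) : ℤ) = 1 - (q : ℤ) ^ 2 + (q : ℤ) ^ 4 := by rw [cast_N12]; ring
  have hq : IsPrimePow q := hT.cond
  obtain ⟨C, hc, hC1, hC2, hC3, hC4⟩ :=
    (card_tD4_12 hq hF h12 hu (h12 ▸ Int.natCast_dvd_natCast.2 hd)).congr e.symm
  rw [one_mul] at hC2
  obtain ⟨f, hf⟩ := exists_hom hc hu hC3 hC4 hx
  rw [Nat.card_congr (Equiv.ofBijective f hf)]
  exact Nat.dvd_antisymm hC1 hC2

theorem tor_tf4 {T : Type} [Group T] [Finite T] {q : ℕ} (hT : IsNamed (.tf4 q) T) :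
    ∃ x, 2 ≤ x ∧ q = 2 * x ^ 2 ∧ TorG T (Np x) (Np x) ∧ TorG T (Nm x) (Nm x) ∧ TorD T (N6 q) 3 := by
  obtain ⟨F, _, _, m, hm, hF, hq, ⟨e⟩⟩ := hT.real
  have hF' : Fintype.card F = 2 ^ (2 * m + 1) := hF.trans hq
  have hqx : q = 2 * (2 ^ m) ^ 2 := by rw [hq, ← pow_mul, pow_succ, mul_comm m 2, mul_comm]
  have hp : ((Np (2 ^ m) : ℕ) : ℤ) = 1 + 2 * (2 ^ m) + 2 * (2 ^ m) ^ 2 + 4 * (2 ^ m) ^ 3 + 4 * (2 ^ m) ^ 4 := by
    rw [cast_Np]; push_cast; ring
  have hmn : ((Nm (2 ^ m) : ℕ) : ℤ) = 1 - 2 * (2 ^ m) + 2 * (2 ^ m) ^ 2 - 4 * (2 ^ m) ^ 3 + 4 * (2 ^ m) ^ 4 := by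
    rw [cast_Nm]; push_cast; ring
  have h6 : ((N6 q : ℕ) : ℤ) = 1 - 2 * (2 ^ m) ^ 2 + 4 * (2 ^ m) ^ 4 := by rw [cast_N6, hqx]; push_cast; ring
  refine ⟨2 ^ m, ?_, hqx, ?_, ?_, ?_⟩
  · exact Nat.le_self_pow (by omega) 2
  · exact (torG_of dvd_rfl fun u hu hd => card_tF4_plus hF' hp hu (hp ▸ Int.natCast_dvd_natCast.2 hd)).congr e.symm
  · exact (torG_of dvd_rfl fun u hu hd => card_tF4_minus hF' hmn hu (hmn ▸ Int.natCast_dvd_natCast.2 hd)).congr e.symm
  · exact (torD_of Nat.prime_three (nine_N6 q) fun u hu hd hne =>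
      card_tF4_6 hF' h6 hu (h6 ▸ Int.natCast_dvd_natCast.2 hd) hne).congr e.symm

/-! ### growth -/

theorem card_g2_le {T : Type} [Group T] {q : ℕ} (hT : IsNamed (.g2 q) T) : Nat.card T ≤ q ^ 14 := by
  have h : 1 * Nat.card T = q ^ 6 * ((q ^ 2 - 1) * (q ^ 6 - 1)) := hT.eq
  rw [one_mul] at h
  rw [h]
  calc q ^ 6 * ((q ^ 2 - 1) * (q ^ 6 - 1)) ≤ q ^ 6 * (q ^ 2 * q ^ 6) :=
        Nat.mul_le_mul_left _ (Nat.mul_le_mul (Nat.sub_le _ _) (Nat.sub_le _ _))
    _ = q ^ 14 := by ring

theorem card_f4_le {T : Type} [Group T] {q : ℕ} (hT : IsNamed (.f4 q) T) : Nat.card T ≤ q ^ 52 := by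
  have h : 1 * Nat.card T = q ^ 24 * ((q ^ 2 - 1) * (q ^ 6 - 1) * (q ^ 8 - 1) * (q ^ 12 - 1)) := hT.eq
  rw [one_mul] at h
  rw [h]
  calc q ^ 24 * ((q ^ 2 - 1) * (q ^ 6 - 1) * (q ^ 8 - 1) * (q ^ 12 - 1)) ≤ q ^ 24 * (q ^ 2 * q ^ 6 * q ^ 8 * q ^ 12) :=
        Nat.mul_le_mul_left _ (Nat.mul_le_mul (Nat.mul_le_mul (Nat.mul_le_mul (Nat.sub_le _ _) (Nat.sub_le _ _))
          (Nat.sub_le _ _)) (Nat.sub_le _ _))
    _ = q ^ 52 := by ring

theorem card_td4_le {T : Type} [Group T] {q : ℕ} (hT : IsNamed (.td4 q) T) : Nat.card T ≤ q ^ 30 := by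
  have h : 1 * Nat.card T = q ^ 12 * ((q ^ 2 - 1) * (q ^ 6 - 1) * (q ^ 8 + q ^ 4 + 1)) := hT.eq
  have hq : 2 ≤ q := IsPrimePow.two_le (n := q) hT.cond
  have h1 : q ^ 8 + q ^ 4 + 1 ≤ q ^ 10 := by
    have h2 : q ^ 4 + 1 ≤ q ^ 8 := by
      have h3 : 16 ≤ q ^ 4 := by simpa using Nat.pow_le_pow_left hq 4
      have h4 : q ^ 8 = q ^ 4 * q ^ 4 := by ring
      nlinarith
    have h5 : q ^ 10 = q ^ 8 * q ^ 2 := by ring
    have h6 : 4 ≤ q ^ 2 := by simpa using Nat.pow_le_pow_left hq 2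
    have h7 : q ^ 8 * 4 ≤ q ^ 8 * q ^ 2 := Nat.mul_le_mul_left _ h6
    omega
  rw [one_mul] at h
  rw [h]
  calc q ^ 12 * ((q ^ 2 - 1) * (q ^ 6 - 1) * (q ^ 8 + q ^ 4 + 1)) ≤ q ^ 12 * (q ^ 2 * q ^ 6 * q ^ 10) :=
        Nat.mul_le_mul_left _ (Nat.mul_le_mul (Nat.mul_le_mul (Nat.sub_le _ _) (Nat.sub_le _ _)) h1)
    _ = q ^ 30 := by ring

theorem card_tf4_le {T : Type} [Group T] {q : ℕ} (hq : 2 ≤ q) (hT : IsNamed (.tf4 q) T) : Nat.card T ≤ q ^ 28 := by
  have h : 1 * Nat.card T = q ^ 12 * ((q - 1) * (q ^ 3 + 1) * (q ^ 4 - 1) * (q ^ 6 + 1)) := hT.eq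
  have h1 : ∀ k, 1 ≤ k → q ^ k + 1 ≤ q ^ (k + 1) := by
    intro k hk
    have h2 : 1 ≤ q ^ k := Nat.one_le_pow _ _ (by omega)
    rw [pow_succ]
    nlinarith
  rw [one_mul] at h
  rw [h]
  calc q ^ 12 * ((q - 1) * (q ^ 3 + 1) * (q ^ 4 - 1) * (q ^ 6 + 1)) ≤ q ^ 12 * (q * q ^ 4 * q ^ 4 * q ^ 7) :=
        Nat.mul_le_mul_left _ (Nat.mul_le_mul (Nat.mul_le_mul (Nat.mul_le_mul (Nat.sub_le _ _) (h1 3 (by norm_num)))
          (Nat.sub_le _ _)) (h1 6 (by norm_num)))
    _ = q ^ 28 := by ring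

end Cfsg.Agent.H819.Dg
end

-- part: H819/Dg/ExcF
section
prune_inst 0x2
set_option linter.all false
open scoped Cfsg.Agent.FastGrp

/-!
# S5734, exceptional groups: `G₂(q)`, `F₄(q)`, `²F₄(q)` (helper819)

* `engine` : the subgroups `R` of `T` whose order is divisible by the orders of two cyclic tori (up to a prime) are
  almost simple with socle of Lie type in the characteristic of `T`;
* `exc_g2`, `exc_f4`, `exc_tf4` : for large `T` each proper subgroup misses a power of a prime with cyclic Sylow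
  subgroups.
-/

set_option autoImplicit false

namespace Cfsg.Agent.H819.Dg

open Cfsg Cfsg.Lie Cfsg.Agent.OrdDiv
open Cfsg.Agent.H290.ElReg Cfsg.Agent.H290.ElEng Cfsg.Agent.H290.ElRich Cfsg.Agent.H290.ElMain
open Cfsg.Agent.H946.Num
open Cfsg.Agent.H436 (Prim IsNamed Cond exists_prim)
open Cfsg.Agent.H915.GN (HasChar)
open Cfsg.Agent.H325.Loc (PIso)
open Cfsg.Agent.H325.Same Cfsg.Agent.H264.FKS
open Cfsg.Agent.H851.Dg (CycP MissC)

theorem pair {T : Type*} [Group T] {R : Subgroup T} {a b : ℕ} (ha : Ab T a) (hb : Ab T b) (ra : a ∣ Nat.card R)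
    (rb : b ∣ Nat.card R) {d : ℕ} (h4 : 4 ≤ d) (hda : d ∣ a - 1) (hdb : d ∣ b - 1) (hne : a ≠ b) :
    ∃ r s, Ab T r ∧ Ab T s ∧ r ∣ Nat.card R ∧ s ∣ Nat.card R ∧ 5 ≤ r ∧ r + 4 ≤ s := by
  have ha2 := ha.prime.two_le
  have hb2 := hb.prime.two_le
  have h1 := Nat.le_of_dvd (by omega) hda
  have h2 := Nat.le_of_dvd (by omega) hdb
  rcases Nat.lt_or_gt_of_ne hne with h | h
  · have h3 : d ∣ (b - 1) - (a - 1) := Nat.dvd_sub hdb hda
    have h5 := Nat.le_of_dvd (by omega) h3
    exact ⟨a, b, ha, hb, ra, rb, by omega, by omega⟩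
  · have h3 : d ∣ (a - 1) - (b - 1) := Nat.dvd_sub hda hdb
    have h5 := Nat.le_of_dvd (by omega) h3
    exact ⟨b, a, hb, ha, rb, ra, by omega, by omega⟩

theorem six_dvd {u : ℕ} (hu : u.Prime) (h2 : u ≠ 2) (h3 : 3 ∣ u - 1) : 6 ∣ u - 1 := by
  have := hu.two_le
  rcases hu.eq_two_or_odd with h | h
  · exact absurd h h2
  · omega

/-- **The engine.** -/
theorem engine (has : ASThm.{0}) (hrf : RichFix.{0})
    (hft : ∀ (X : Type) [Group X] [Finite X], ¬ Group.IsSolvable X → 2 ∣ Nat.card X)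
    (hnm : ∀ (S : Type) [Group S] [Finite S] [IsSimpleGroup S], ¬ IsMulCommutative S → ∃ g, IsNamed g S)
    {p n : ℕ} (hp : p.Prime) (hn : n ≤ 248) {F : Type} [Field F] [CharP F p] {T : Type} [Group T] [Finite T]
    (hF : Fth n F T) {R : Subgroup T} {N₁ m₁ N₂ m₂ : ℕ} (h₁ : TorG T N₁ m₁) (h₂ : TorG T N₂ m₂)
    (d₁ : m₁ ∣ Nat.card R) (d₂ : m₂ ∣ Nat.card R) (hco : ∀ t : ℕ, t.Prime → t ∣ N₁ → t ∣ N₂ → False)
    (k₁ : n.factorial < m₁) (k₂ : n.factorial < m₂) (K₁ : KB ^ KB < m₁) (hodd : ¬ 2 ∣ N₁) {w : ℕ}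
    (hw : w ∣ Nat.card R) (hiso : PIso p w T)
    (hpair : ∃ r s, Ab T r ∧ Ab T s ∧ r ∣ Nat.card R ∧ s ∣ Nat.card R ∧ 5 ≤ r ∧ r + 4 ≤ s) :
    ∃ S : Subgroup R, S.Normal ∧ IsSimpleGroup S ∧ ¬ IsMulCommutative S ∧
      Subgroup.centralizer (S : Set R) = ⊥ ∧ ∃ g, IsNamed g S ∧ HasChar p g := by
  have hpF := Fact.mk hp
  obtain ⟨τ, hτ⟩ := hF
  have hrad := rad (R := R) (p := p) hτ (H946.Rad.core_eq_bot hiso hw) (fun t ht _ _ _ => by
    rw [Fintype.card_fin]
    by_cases h : t ∣ N₁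
    · exact ⟨N₂, m₂, h₂, d₂, fun h' => hco t ht h h', k₂⟩
    · exact ⟨N₁, m₁, h₁, d₁, h, k₁⟩)
  obtain ⟨S, c1, c2, c3, c4, c5, g, c6, c7⟩ := char_of has hrf hft hnm hp hn ⟨τ, hτ⟩ hrad h₁ d₁ K₁ hodd
  rcases c7 with c7 | ⟨k, hk, rfl⟩
  · exact ⟨S, c1, c2, c3, c4, g, c6, c7⟩
  · exfalso
    obtain ⟨r, s, hr, hs, hrR, hsR, h5, h6⟩ := hpair
    obtain ⟨e⟩ := c6.real
    refine not_alt hr.prime hs.prime h5 h6 (m := k) (by omega) e (c5 r hr hrR) (c5 s hs hsR) fun x hx =>
      hr.nilp (R.subtype.comp S.subtype) (R.subtype_injective.comp S.subtype_injective) x hx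

/-- the bound for the orders of the tori -/
noncomputable def K0 (n : ℕ) : ℕ := n.factorial + KB ^ KB

theorem lt_of_card {T : Type} [Group T] {q e c m n N : ℕ} (h1 : Nat.card T ≤ q ^ e)
    (h2 : (c * K0 n) ^ e + 1 ≤ Nat.card T) (h3 : q ≤ N) (h4 : N ≤ c * m) : n.factorial < m ∧ KB ^ KB < m := by
  have h5 : c * K0 n < q := by
    by_contra hcon
    have := Nat.pow_le_pow_left (not_lt.1 hcon) e
    omega
  have h6 : c * K0 n < c * m := by omega
  have h7 : K0 n < m := lt_of_mul_lt_mul_left h6 (Nat.zero_le c)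
  unfold K0 at h7
  constructor <;> omega

theorem exists_dvd {m k : ℕ} (h : k < m) (hk : 1 ≤ k) : ∃ u, u.Prime ∧ u ∣ m := by
  obtain ⟨u, h1, h2⟩ := Nat.exists_prime_and_dvd (n := m) (by omega)
  exact ⟨u, h1, h2⟩

section

variable (has : ASThm.{0}) (hrf : RichFix.{0})
    (hft : ∀ (X : Type) [Group X] [Finite X], ¬ Group.IsSolvable X → 2 ∣ Nat.card X)
    (hnm : ∀ (S : Type) [Group S] [Finite S] [IsSimpleGroup S], ¬ IsMulCommutative S → ∃ g, IsNamed g S)

include has hrf hft hnm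

/-- **`G₂(q)`.** -/
theorem exc_g2 : ∃ B : ℕ, ∀ {T : Type} [Group T] [Finite T] {q : ℕ}, IsNamed (.g2 q) T → B ≤ Nat.card T →
    ∀ R : Subgroup T, R ≠ ⊤ → MissC R := by
  refine ⟨(3 * K0 14) ^ 14 + 1, fun {T} _ _ {q} hT hB R hR => ?_⟩
  by_contra hmiss
  apply hR
  obtain ⟨p, f, hp, hf, rfl⟩ := (isPrimePow_nat_iff _).1 hT.cond.2
  have hpF := Fact.mk hp
  have h3q : 3 ≤ p ^ f := hT.cond.1
  have hq : 2 ≤ p ^ f := by omega
  have h21 : ¬ (p = 2 ∧ f = 1) := by
    rintro ⟨rfl, rfl⟩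
    norm_num at h3q
  obtain ⟨⟨m₁, t₁, l₁, a₁, b₁⟩, ⟨m₂, t₂, l₂, a₂, b₂⟩⟩ := tor_g2 hT
  obtain ⟨k₁, K₁⟩ := lt_of_card (card_g2_le hT) hB (le_N3 _) l₁
  obtain ⟨k₂, K₂⟩ := lt_of_card (card_g2_le hT) hB (le_N6 _) l₂
  have d₁ := t₁.dvd_of_not_missC hmiss
  have d₂ := t₂.dvd_of_not_missC hmiss
  have hd3 : ∀ s, Prim (p ^ f) 3 s → s ∣ Nat.card R := fun s hs =>
    (b₁ s hs.prime (prim_lt (by omega) (by norm_num) hs).ne' (prim_N3 (by omega) hs)).trans d₁
  have hd6 : ∀ s, Prim (p ^ f) 6 s → s ∣ Nat.card R := fun s hs =>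
    (b₂ s hs.prime (by have := prim_lt (by omega) (by norm_num) hs; omega) (prim_N6 (by omega) hs)).trans d₂
  obtain ⟨w, hw⟩ := exists_prim (q := p ^ f) (e := 3) hq le_rfl (by omega)
  obtain ⟨r, hr, hrm⟩ := exists_dvd k₁ (Nat.factorial_pos _)
  obtain ⟨s, hs, hsm⟩ := exists_dvd k₂ (Nat.factorial_pos _)
  obtain ⟨F, _, _, hF, ⟨e⟩⟩ := hT.real
  have hch : CharP F p := charP_of_pow hp hF
  have hidx : Fintype.card chevG2.Idx = 14 := by decide +kernel
  have hfth : Fth 14 F T := ((hidx ▸ Fth.of (ι := chevG2.Idx) (F := F)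
    (ρ := (chevG2.group F).subtype) (Subgroup.subtype_injective _)) : Fth 14 F ↥(chevG2.group F)).congr e.symm
  obtain ⟨S, c1, c2, c3, c4, g, c6, c7⟩ := engine has hrf hft hnm hp (by norm_num) hfth t₁ t₂ d₁ d₂
    (fun t ht h h' => not_N3_N6 ht h h') k₁ k₂ K₁ (two_N3 _) (hd3 w hw)
    (piso_g2_named hT hp (Or.inl rfl) hw)
    (pair (t₁.ab hr hrm) (t₂.ab hs hsm) (hrm.trans d₁) (hsm.trans d₂) (d := 6) (by norm_num)
      (six_dvd hr (by rintro rfl; exact two_N3 _ (a₁ _ hr hrm).1)
        (mod_of_order hr (by norm_num) (od_N3 hr (a₁ _ hr hrm).1 (a₁ _ hr hrm).2)))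
      (mod_of_order hs (by norm_num) (od_N6 hs (a₂ _ hs hsm).1 (a₂ _ hs hsm).2))
      (by rintro rfl; exact not_N3_N6 hr (a₁ _ hr hrm).1 (a₂ _ hs hsm).1))
  have hiso : ∀ {s : ℕ}, Prim (p ^ f) 3 s → PIso p s S := fun hs =>
    ((piso_g2_named hT hp (Or.inl rfl) hs).sub R).sub S
  rcases charp_g2 hp hf h21 c6.cond c7 c6.eq (IsNamed.card_dvd hT S)
    (HT.of S c3 c4 hp c6 c7 le_rfl hd3) (HT.of S c3 c4 hp c6 c7 (by norm_num) hd6) with h | h | h
  · subst h
    exact eq_top_of_name hT c6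
  · exfalso
    subst h
    exact kill_psl2 hp c6 hw (hiso hw)
  · exfalso
    obtain ⟨rfl, rfl, rfl⟩ := h
    have h7 : w = 7 := by
      have h8 : w ∣ 3 ^ 2 * 7 := hw.dvd dvd_rfl
      rcases hw.prime.dvd_mul.1 h8 with h9 | h9
      · exfalso
        have h10 := (Nat.prime_dvd_prime_iff_eq hw.prime Nat.prime_three).1 (hw.prime.dvd_of_dvd_pow h9)
        have := prim_lt (by omega) (by norm_num) hw
        omega
      · exact (Nat.prime_dvd_prime_iff_eq hw.prime (by norm_num)).1 h9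
    have h9 := hiso hw
    rw [h7] at h9
    exact kill_sz8 c6 h9

/-- **`F₄(q)`.** -/
theorem exc_f4 : ∃ B : ℕ, ∀ {T : Type} [Group T] [Finite T] {q : ℕ}, IsNamed (.f4 q) T → B ≤ Nat.card T →
    ∀ R : Subgroup T, R ≠ ⊤ → MissC R := by
  refine ⟨(2 * K0 52) ^ 52 + 1, fun {T} _ _ {q} hT hB R hR => ?_⟩
  by_contra hmiss
  apply hR
  obtain ⟨p, f, hp, hf, rfl⟩ := (isPrimePow_nat_iff _).1 (show IsPrimePow q from hT.cond)
  have hpF := Fact.mk hp
  have hq : 2 ≤ p ^ f := hp.two_le.trans (Nat.le_self_pow (by omega) _)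
  obtain ⟨⟨m₂, t₂, l₂, a₂, b₂⟩, ⟨m₁, t₁, l₁, a₁, b₁⟩⟩ := tor_f4 hT
  obtain ⟨k₁, K₁⟩ := lt_of_card (card_f4_le hT) hB (le_N12 _) l₁
  obtain ⟨k₂, K₂⟩ := lt_of_card (card_f4_le hT) hB (le_N8 _) l₂
  have d₁ := t₁.dvd_of_not_missC hmiss
  have d₂ := t₂.dvd_of_not_missC hmiss
  have hd12 : ∀ s, Prim (p ^ f) 12 s → s ∣ Nat.card R := fun s hs =>
    (b₁ s hs.prime (by have := prim_lt (by omega) (by norm_num) hs; omega) (prim_N12 (by omega) hs)).trans d₁
  have hd8 : ∀ s, Prim (p ^ f) 8 s → s ∣ Nat.card R := fun s hs =>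
    (b₂ s hs.prime (by have := prim_lt (by omega) (by norm_num) hs; omega) (prim_N8 (by omega) hs)).trans d₂
  obtain ⟨w, hw⟩ := exists_prim (q := p ^ f) (e := 8) hq (by norm_num) (by omega)
  obtain ⟨r, hr, hrm⟩ := exists_dvd k₁ (Nat.factorial_pos _)
  obtain ⟨s, hs, hsm⟩ := exists_dvd k₂ (Nat.factorial_pos _)
  obtain ⟨F, _, _, hF, ⟨e⟩⟩ := hT.real
  have hch : CharP F p := charP_of_pow hp hF
  have hidx : Fintype.card chevF4.Idx = 52 := by decide +kernel
  have hfth : Fth 52 F T := ((hidx ▸ Fth.of (ι := chevF4.Idx) (F := F)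
    (ρ := (chevF4.group F).subtype) (Subgroup.subtype_injective _)) : Fth 52 F ↥(chevF4.group F)).congr e.symm
  obtain ⟨S, c1, c2, c3, c4, g, c6, c7⟩ := engine has hrf hft hnm hp (by norm_num) hfth t₁ t₂ d₁ d₂
    (fun t ht h h' => not_N8_N12 ht h' h) k₁ k₂ K₁ (two_N12 _) (hd8 w hw)
    (piso_f4_named hT hp (Or.inl rfl) hw)
    (pair (t₁.ab hr hrm) (t₂.ab hs hsm) (hrm.trans d₁) (hsm.trans d₂) (d := 4) (by norm_num)
      ((by norm_num : 4 ∣ 12).trans (mod_of_order hr (by norm_num) (od_N12 hr (a₁ _ hr hrm).1)))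
      ((by norm_num : 4 ∣ 8).trans (mod_of_order hs (by norm_num) (od_N8 hs (a₂ _ hs hsm).1 (a₂ _ hs hsm).2)))
      (by rintro rfl; exact not_N8_N12 hr (a₂ _ hs hsm).1 (a₁ _ hr hrm).1))
  rcases charp_f4 hp hf c6.cond c7 c6.eq (IsNamed.card_dvd hT S)
    (HT.of S c3 c4 hp c6 c7 (by norm_num) hd8) (HT.of S c3 c4 hp c6 c7 (by norm_num) hd12) with h | h
  · subst h
    exact eq_top_of_name hT c6
  · exfalso
    subst h
    exact kill_psl3 hp c6 hw (((piso_f4_named hT hp (Or.inl rfl) hw).sub R).sub S)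

/-- **`²F₄(q)`.** -/
theorem exc_tf4 : ∃ B : ℕ, ∀ {T : Type} [Group T] [Finite T] {q : ℕ}, IsNamed (.tf4 q) T → B ≤ Nat.card T →
    ∀ R : Subgroup T, R ≠ ⊤ → MissC R := by
  refine ⟨(1 * K0 52) ^ 28 + (3 * K0 52) ^ 28 + 1, fun {T} _ _ {q} hT hB R hR => ?_⟩
  by_contra hmiss
  apply hR
  obtain ⟨x, hx, hqx, t₁, t₂, ⟨m₃, t₃, l₃, a₃, b₃⟩⟩ := tor_tf4 hT
  obtain ⟨m, hm, rfl⟩ : ∃ m, 1 ≤ m ∧ q = 2 ^ (2 * m + 1) := hT.cond
  set f := 2 * m + 1 with hfdef
  have hf : 1 ≤ f := by omega
  have hpF := Fact.mk Nat.prime_two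
  have hq : 2 ≤ 2 ^ f := Nat.le_self_pow (by omega) _
  have hqx' : ∀ u, u ∣ Np x ∨ u ∣ Nm x → u ∣ N12 (2 ^ f) := by
    intro u hu
    rw [hqx, ← Np_mul_Nm]
    rcases hu with h | h
    · exact h.mul_right _
    · exact h.mul_left _
  obtain ⟨k₁, K₁⟩ := lt_of_card (c := 1) (n := 52) (N := Np x) (card_tf4_le hq hT) (by omega)
    (by rw [hqx]; exact le_Np x) (by rw [one_mul])
  obtain ⟨k₂, K₂⟩ := lt_of_card (c := 1) (n := 52) (N := Nm x) (card_tf4_le hq hT) (by omega)
    (by rw [hqx]; exact le_Nm hx) (by rw [one_mul])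
  obtain ⟨k₃, K₃⟩ := lt_of_card (c := 3) (n := 52) (card_tf4_le hq hT) (by omega) (le_N6 _) l₃
  have d₁ := t₁.dvd_of_not_missC hmiss
  have d₂ := t₂.dvd_of_not_missC hmiss
  have d₃ := t₃.dvd_of_not_missC hmiss
  have hd12 : ∀ s, Prim (2 ^ f) 12 s → s ∣ Nat.card R := fun s hs => by
    have h1 := prim_N12 (by omega) hs
    rw [hqx, ← Np_mul_Nm] at h1
    rcases hs.prime.dvd_mul.1 h1 with h | h
    · exact h.trans d₁
    · exact h.trans d₂
  have hd6 : ∀ s, Prim (2 ^ f) 6 s → s ∣ Nat.card R := fun s hs =>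
    (b₃ s hs.prime (by have := prim_lt (by omega) (by norm_num) hs; omega) (prim_N6 (by omega) hs)).trans d₃
  obtain ⟨w, hw⟩ := exists_prim (q := 2) (e := 12 * f) le_rfl (by omega) (by omega)
  have hw' : Prim (2 ^ f) 12 w := H946.Num.prim_pow (by omega) hw
  obtain ⟨r, hr, hrm⟩ := exists_dvd k₁ (Nat.factorial_pos _)
  obtain ⟨s, hs, hsm⟩ := exists_dvd k₃ (Nat.factorial_pos _)
  obtain ⟨F, _, _, m', hm', hF, hqm, ⟨e⟩⟩ := hT.real
  have hmm : m' = m := by
    have := Nat.pow_right_injective le_rfl hqm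
    omega
  subst hmm
  have hch : CharP F 2 := charP_of_pow Nat.prime_two hF
  have hidx : Fintype.card chevF4.Idx = 52 := by decide +kernel
  have hfth : Fth 52 F T := ((hidx ▸ Fth.of (ι := chevF4.Idx) (F := F)
    (ρ := (twistedF4 F (2 ^ m')).subtype) (Subgroup.subtype_injective _)) :
      Fth 52 F ↥(twistedF4 F (2 ^ m'))).congr e.symm
  obtain ⟨S, c1, c2, c3, c4, g, c6, c7⟩ := engine has hrf hft hnm Nat.prime_two (by norm_num) hfth t₁ t₂ d₁ d₂
    (fun t ht h h' => not_Np_Nm ht h h') k₁ k₂ K₁ (fun h => two_N12 _ (hqx' _ (Or.inl h))) (hd12 w hw')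
    ((H325.IsoTwF4.piso_twF4 hm' hF hw).congr e.symm)
    (pair (t₁.ab hr hrm) (t₃.ab hs hsm) (hrm.trans d₁) (hsm.trans d₃) (d := 6) (by norm_num)
      ((by norm_num : 6 ∣ 12).trans (mod_of_order hr (by norm_num) (od_N12 hr (hqx' _ (Or.inl hrm)))))
      (mod_of_order hs (by norm_num) (od_N6 hs (a₃ _ hs hsm).1 (a₃ _ hs hsm).2))
      (by
        rintro rfl
        have h1 := od_N12 hr (hqx' _ (Or.inl hrm))
        have h2 := od_N6 hs (a₃ _ hs hsm).1 (a₃ _ hs hsm).2
        omega))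
  have h := charp_tf4 Nat.prime_two hf hT.cond c6.cond c7 c6.eq (IsNamed.card_dvd hT S)
    (HT.of S c3 c4 Nat.prime_two c6 c7 (by norm_num) hd6) (HT.of S c3 c4 Nat.prime_two c6 c7 (by norm_num) hd12)
  subst h
  exact eq_top_of_name hT c6

end

end Cfsg.Agent.H819.Dg
end

-- part: H819/Dg/ExcD4
section
prune_inst 0x2
set_option linter.all false
open scoped Cfsg.Agent.FastGrp

/-!
# S5734, exceptional groups: `³D₄(q)` (helper819)

`exc_td4` : for large `T = ³D₄(q)` a proper subgroup `R` misses a power of a prime with cyclic Sylow subgroups, or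
`|T| ≤ 16 nd R` (this happens for the normalisers of the cyclic tori of order `q⁴ - q² + 1`).
-/

set_option autoImplicit false

namespace Cfsg.Agent.H819.Dg

open Cfsg Cfsg.Lie Cfsg.Agent.OrdDiv
open Cfsg.Agent.H290.ElReg Cfsg.Agent.H290.ElEng Cfsg.Agent.H290.ElRich Cfsg.Agent.H290.ElMain
open Cfsg.Agent.H946.Num
open Cfsg.Agent.H436 (Prim IsNamed Cond exists_prim)
open Cfsg.Agent.H915.GN (HasChar)
open Cfsg.Agent.H325.Loc (PIso)
open Cfsg.Agent.H325.Same Cfsg.Agent.H264.FKS
open Cfsg.Agent.H851.Dg (CycP MissC nd nd_anti)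

/-! ### the alternating groups -/

theorem pow_le_factorial {q : ℕ} (hq : 78 ≤ q) : 2 * q ^ 30 < q.factorial := by
  have h1 : (q + 1 - 40) ^ 40 ≤ q.descFactorial 40 := Nat.pow_sub_le_descFactorial q 40
  have h2 : q.descFactorial 40 ≤ q.factorial := by
    have h3 := Nat.factorial_mul_descFactorial (n := q) (k := 40) (by omega)
    calc q.descFactorial 40 ≤ (q - 40).factorial * q.descFactorial 40 :=
          Nat.le_mul_of_pos_left _ (Nat.factorial_pos _)
      _ = q.factorial := h3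
  have h4 : q ^ 40 ≤ 2 ^ 40 * (q + 1 - 40) ^ 40 := by
    rw [← mul_pow]
    exact Nat.pow_le_pow_left (by omega) 40
  have h5 : q ^ 40 = q ^ 30 * q ^ 10 := by ring
  have h6 : (64 : ℕ) ^ 10 ≤ q ^ 10 := Nat.pow_le_pow_left (by omega) 10
  have h7 : q ^ 30 * 64 ^ 10 ≤ q ^ 40 := by
    rw [h5]
    exact Nat.mul_le_mul_left _ h6
  have h8 : 0 < q ^ 30 := by positivity
  have h9 : (64 : ℕ) ^ 10 = 2 ^ 40 * 2 ^ 20 := by norm_num
  rw [h9] at h7
  have h10 : 2 ^ 40 * (q ^ 30 * 2 ^ 20) ≤ 2 ^ 40 * (q + 1 - 40) ^ 40 := by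
    calc 2 ^ 40 * (q ^ 30 * 2 ^ 20) = q ^ 30 * (2 ^ 40 * 2 ^ 20) := by ring
      _ ≤ _ := h7.trans h4
  have h11 : q ^ 30 * 2 ^ 20 ≤ (q + 1 - 40) ^ 40 := Nat.le_of_mul_le_mul_left h10 (by norm_num)
  have h12 : 2 * q ^ 30 < q ^ 30 * 2 ^ 20 := by
    rw [mul_comm 2]
    exact Nat.mul_lt_mul_of_pos_left (by norm_num) h8
  omega

theorem not_sq_dvd {r k : ℕ} (hr : r.Prime) (h4 : 4 ≤ r) (hk : k ≤ r + 3) : ¬ r * r ∣ k.factorial := by
  intro h
  have h1 : r * r ∣ (r + 3).factorial := h.trans (Nat.factorial_dvd_factorial hk)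
  have h2 : (r + 3).factorial = r * ((r + 3) * (r + 2) * (r + 1) * (r - 1).factorial) := by
    rw [Nat.factorial_succ, Nat.factorial_succ, Nat.factorial_succ, ← Nat.mul_factorial_pred (n := r) (by omega)]
    ring
  rw [h2] at h1
  have h3 := Nat.dvd_of_mul_dvd_mul_left hr.pos h1
  have key : ∀ i, 1 ≤ i → i ≤ 3 → ¬ r ∣ r + i := by
    intro i hi hi' hd
    have := Nat.le_of_dvd hi ((Nat.dvd_add_right dvd_rfl).1 hd)
    omega
  rcases hr.dvd_mul.1 h3 with h4' | h4'
  · rcases hr.dvd_mul.1 h4' with h5 | h5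
    · rcases hr.dvd_mul.1 h5 with h6 | h6
      · exact key 3 (by norm_num) le_rfl h6
      · exact key 2 (by norm_num) (by norm_num) h6
    · exact key 1 le_rfl (by norm_num) h5
  · have := (Nat.Prime.dvd_factorial hr).1 h4'
    omega

/-- alternating socles -/
theorem alt_absurd {T : Type} [Group T] [Finite T] {q : ℕ} (hq : 78 ≤ q) (hcard : Nat.card T ≤ q ^ 30)
    (h₁ : TorG T (N12 q) (N12 q)) {R : Subgroup T} (d₁ : N12 q ∣ Nat.card R) (S : Subgroup R) [S.Normal]
    (hC : Subgroup.centralizer (S : Set R) = ⊥)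
    (hdvd : ∀ u, Ab T u → u ∣ Nat.card R → u ∣ Nat.card S) {k : ℕ} (hk : 5 ≤ k)
    (e : S ≃* alternatingGroup (Fin k)) : False := by
  obtain ⟨r, hr, hrN⟩ := exists_N12 (q := q) (by omega)
  have hin : ∀ u : ℕ, u.Prime → u ∣ N12 q → u ≤ k ∧ k ≤ u + 3 := by
    intro u hu hd
    have hab := h₁.ab hu hd
    have hS := hdvd u hab (hd.trans d₁)
    have h13 := H946.Rad.thirteen_le hu hd
    exact ⟨le_of_dvd_alt hu (by omega) e hS, alt_le hu (by omega) e hS fun x hx =>
      hab.nilp (R.subtype.comp S.subtype) (R.subtype_injective.comp S.subtype_injective) x hx⟩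
  have hr13 := H946.Rad.thirteen_le hr hrN
  have huniq : ∀ {u : ℕ}, u.Prime → u ∣ N12 q → u = r := by
    intro u hu hd
    have h1 := hin u hu hd
    have h2 := hin r hr hrN
    have h3 := mod_of_order hu (by norm_num) (od_N12 hu hd)
    have h4 := mod_of_order hr (by norm_num) (od_N12 hr hrN)
    have := hu.two_le
    omega
  have hN0 : N12 q ≠ 0 := by
    intro h
    have := le_N12 q
    omega
  have hpow := Nat.eq_prime_pow_of_unique_prime_dvd hN0 huniq
  have hk6 : k ≠ 6 := by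
    have := (hin r hr hrN).1
    omega
  have haut : Nat.card (MulAut S) = k.factorial := by
    rw [Nat.card_congr (MulAut.congr e).toEquiv,
      ← Nat.card_congr (Equiv.ofBijective _ (Cfsg.Agent.S2119.result k (by omega) hk6)), Nat.card_perm,
      Nat.card_eq_fintype_card, Fintype.card_fin]
  have hRk : N12 q ∣ k.factorial := by
    rw [← haut]
    exact d₁.trans (card_dvd_aut hC)
  have hNr : N12 q = r := by
    set j := (N12 q).primeFactorsList.length with hj
    have h1 : j ≤ 1 := by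
      by_contra hcon
      refine not_sq_dvd hr (by omega) (hin r hr hrN).2 (dvd_trans ?_ hRk)
      rw [hpow, ← pow_two]
      exact pow_dvd_pow r (by omega)
    have h2 : j ≠ 0 := by
      intro h0
      rw [h0, pow_zero] at hpow
      rw [hpow] at hrN
      exact hr.one_lt.ne' (Nat.dvd_one.1 hrN)
    have h3 : j = 1 := by omega
    rw [hpow, h3, pow_one]
  have hqk : q ≤ k := by
    have h1 := le_N12 q
    have h2 := (hin r hr hrN).1
    omega
  have h1 : Nat.card S ≤ q ^ 30 :=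
    ((Nat.le_of_dvd Nat.card_pos (Subgroup.card_subgroup_dvd_card S)).trans
      (Nat.le_of_dvd Nat.card_pos (Subgroup.card_subgroup_dvd_card R))).trans hcard
  have h2 : 2 * Nat.card S = k.factorial := by
    have : Nontrivial (Fin k) := Fin.nontrivial_iff_two_le.2 (by omega)
    rw [Nat.card_congr e.toEquiv, Nat.card_eq_fintype_card, two_mul_card_alternatingGroup, Fintype.card_perm,
      Fintype.card_fin]
  have h3 := Nat.factorial_le hqk
  have h4 := pow_le_factorial hq
  omega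

/-- **`³D₄(q)`.** -/
theorem exc_td4 (has : ASThm.{0}) (hrf : RichFix.{0})
    (hft : ∀ (X : Type) [Group X] [Finite X], ¬ Group.IsSolvable X → 2 ∣ Nat.card X)
    (hnm : ∀ (S : Type) [Group S] [Finite S] [IsSimpleGroup S], ¬ IsMulCommutative S → ∃ g, IsNamed g S) :
    ∃ B : ℕ, ∀ {T : Type} [Group T] [Finite T] {q : ℕ}, IsNamed (.td4 q) T → B ≤ Nat.card T →
      ∀ R : Subgroup T, R ≠ ⊤ → MissC R ∨ Nat.card T ≤ 16 * nd R := by
  obtain ⟨c98, h98⟩ : ∃ n, ∀ m, m ≤ 98 → Nat.factorial m ≤ n := ⟨_, fun m hm => Nat.factorial_le hm⟩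
  obtain ⟨c78, h78⟩ : ∃ n, n = 78 ^ 30 := ⟨_, rfl⟩
  refine ⟨(1 * K0 28) ^ 30 + c78 + c98 + 1, fun {T} _ _ {q} hT hB R hR => ?_⟩
  by_contra hcon
  push Not at hcon
  obtain ⟨hmiss, hnd⟩ := hcon
  apply hR
  obtain ⟨p, f, hp, hf, rfl⟩ := (isPrimePow_nat_iff _).1 (show IsPrimePow q from hT.cond)
  have hpF := Fact.mk hp
  have hq : 2 ≤ p ^ f := hp.two_le.trans (Nat.le_self_pow (by omega) _)
  have hq78 : 78 ≤ p ^ f := by
    by_contra h
    have h1 : (p ^ f) ^ 30 ≤ c78 := by
      rw [h78]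
      exact Nat.pow_le_pow_left (not_le.1 h).le 30
    have h2 := card_td4_le hT
    omega
  have t₁ := tor_td4 hT
  obtain ⟨k₁, K₁⟩ := lt_of_card (c := 1) (n := 28) (card_td4_le hT) (by omega) (le_N12 _) (by rw [one_mul])
  have d₁ := t₁.dvd_of_not_missC hmiss
  have hd12 : ∀ s, Prim (p ^ f) 12 s → s ∣ Nat.card R := fun s hs => (prim_N12 (by omega) hs).trans d₁
  obtain ⟨w, hw⟩ := exists_prim (q := p ^ f) (e := 12) hq (by norm_num) (by omega)
  obtain ⟨F, _, _, hF, ⟨e⟩⟩ := hT.real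
  have hch : CharP F p := charP_of_pow hp (a := f * 3) (by rw [hF, pow_mul])
  have hpiso : PIso p w T := (H325.IsoExc.piso_twD4 hT.cond hF hw).congr e.symm
  have hsimp : IsSimpleGroup T := by
    have := (Cfsg.Agent.S1071.result hT.cond hF).1
    exact e.isSimpleGroup
  have hinv : ∀ z : T, orderOf z = 2 → 8 ≤ Nat.card (Subgroup.centralizer ({z} : Set T)) := by
    intro z hz
    by_contra h
    have h1 := Cfsg.Agent.S0212.result z hz
    have h2 : 2 * (Nat.card (Subgroup.centralizer ({z} : Set T))) ^ 2 ≤ 98 := by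
      have h3 : Nat.card (Subgroup.centralizer ({z} : Set T)) ≤ 7 := by omega
      have h4 := Nat.pow_le_pow_left h3 2
      omega
    have h3 := h98 _ h2
    omega
  have hidx : Fintype.card chevD4.Idx = 28 := by decide +kernel
  have hfth : Fth 28 F T := ((hidx ▸ Fth.of (ι := chevD4.Idx) (F := F)
    (ρ := (twistedD4 F (p ^ f)).subtype) (Subgroup.subtype_injective _)) :
      Fth 28 F ↥(twistedD4 F (p ^ f))).congr e.symm
  have hrad : ∀ S : Subgroup R, S.Normal → Group.IsSolvable S → S = ⊥ := by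
    obtain ⟨τ, hτ⟩ := hfth
    refine rad (R := R) (p := p) hτ (H946.Rad.core_eq_bot hpiso (hd12 w hw)) fun t ht _ _ hA => ?_
    rw [Fintype.card_fin]
    refine ⟨_, _, t₁, d₁, fun htN => ?_, k₁⟩
    obtain ⟨A, hAn, hA0, hAc, hAt⟩ := hA
    obtain ⟨⟨a, haA⟩, ha1⟩ := (Subgroup.ne_bot_iff_exists_ne_one (H := A)).1 hA0
    have htF := Fact.mk ht
    have hat : orderOf a = t := orderOf_eq_prime (hAt a haA) fun h => ha1 (Subtype.ext h)
    have haT : orderOf (a : T) = t := by rw [Subgroup.orderOf_coe, hat]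
    have hcyc := (t₁.cyc t ht htN (a : T) haT).1
    have hcd := card_eq_td4 hT ht htN haT
    have hcT : Nat.card T = N12 (p ^ f) * ((p ^ f) ^ 12 * (N3 (p ^ f) * N6 (p ^ f)) * ((p ^ f) ^ 6 - 1) *
        ((p ^ f) ^ 2 - 1)) := by
      have h : 1 * Nat.card T = (p ^ f) ^ 12 * (((p ^ f) ^ 2 - 1) * ((p ^ f) ^ 6 - 1) *
        ((p ^ f) ^ 8 + (p ^ f) ^ 4 + 1)) := hT.eq
      rw [one_mul] at h
      rw [h, ← H946.Rad.d4_card]
      ring
    have h13 := H946.Rad.thirteen_le ht htN
    have hmod := H946.Rad.d4_mod (q := p ^ f) (by omega) ht htN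
    have hnt : ¬ t ∣ (p ^ f) ^ 12 * (N3 (p ^ f) * N6 (p ^ f)) * ((p ^ f) ^ 6 - 1) * ((p ^ f) ^ 2 - 1) := by
      intro h
      have h1 : 4 ≡ 0 [MOD t] := hmod.symm.trans ((Nat.modEq_zero_iff_dvd).2 h)
      have := Nat.le_of_dvd (by norm_num) ((Nat.modEq_zero_iff_dvd).1 h1)
      omega
    have hN := Cfsg.Agent.H946.Rad.card_normalizer ht haT hcyc hcd hcT hnt hmod (by norm_num) (by omega)
    have h1 := nd_norm (a := (a : T)) (two_N12 _) hcyc hcd hN (fun y hy hd => (t₁.cyc _ hy hd y rfl).2) hinv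
    -- `R` normalises `⟨a⟩`
    have h2 : A.map R.subtype = Subgroup.zpowers (a : T) := by
      apply le_antisymm
      · rintro _ ⟨x, hx, rfl⟩
        refine H946.Rad.mem_zpowers_of_cyclic hcyc (Subgroup.mem_centralizer_singleton_iff.2 rfl)
          (Subgroup.mem_centralizer_singleton_iff.2 (congrArg Subtype.val (hAc x hx a haA))) ?_
        rw [haT]
        exact congrArg Subtype.val (hAt x hx)
      · rw [Subgroup.zpowers_le]
        exact ⟨a, haA, rfl⟩
    have h3 : R ≤ Subgroup.normalizer (Subgroup.zpowers (a : T) : Set T) := by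
      rw [← h2]
      exact H946.Rad.le_normalizer_map hAn
    have h4 := nd_anti h3
    omega
  obtain ⟨S, c1, c2, c3, c4, c5, g, c6, c7⟩ := char_of has hrf hft hnm hp (by norm_num) hfth hrad t₁ d₁ K₁ (two_N12 _)
  rcases c7 with c7 | ⟨k, hk, rfl⟩
  · have h := charp_td4 hp hf c6.cond c7 c6.eq (IsNamed.card_dvd hT S)
      (HT.of S c3 c4 hp c6 c7 (by norm_num) hd12)
    subst h
    exact eq_top_of_name hT c6
  · exfalso
    obtain ⟨e⟩ := c6.real
    exact alt_absurd hq78 (card_td4_le hT) t₁ d₁ S c4 c5 hk e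

end Cfsg.Agent.H819.Dg
end

-- part: H951/Two/Row
section
prune_inst 0x1410510043220200000080024000183202000020000b80000000000000890c0000820e00b02001000008000400340020020000000000000000000000011c00800000000040810000800088000000000000000000000000000000000000000004000000002
set_option linter.all false
open scoped Cfsg.Agent.FastGrp

-- part: H951/Two/Count
section
/-!
# Double counting of conjugates (helper951, S5734)
-/

set_option autoImplicit false
set_option linter.unusedSectionVars false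

namespace Cfsg.Agent.H951.Two

open Subgroup

section

variable {X : Type*} [Group X] [Finite X]

/-- the size of a conjugacy class -/
theorem card_class (s : X) : Nat.card {x : X // IsConj s x} * Nat.card (centralizer ({s} : Set X)) = Nat.card X := by
  have h1 : Nat.card {x : X // IsConj s x} = (centralizer ({s} : Set X)).index := by
    refine (Nat.card_congr (Equiv.ofBijective (fun q : X ⧸ centralizer ({s} : Set X) =>
      (Quotient.liftOn' q (fun h : X => (⟨h * s * h⁻¹, isConj_iff.2 ⟨h, rfl⟩⟩ : {x : X // IsConj s x})) ?_)) ?_)).symm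
    · intro a b hab
      rw [QuotientGroup.leftRel_apply, mem_centralizer_singleton_iff] at hab
      apply Subtype.ext
      change a * s * a⁻¹ = b * s * b⁻¹
      calc a * s * a⁻¹ = a * (s * (a⁻¹ * b)) * b⁻¹ := by group
        _ = a * ((a⁻¹ * b) * s) * b⁻¹ := by rw [hab]
        _ = b * s * b⁻¹ := by group
    · constructor
      · intro q q'
        induction q using Quotient.inductionOn' with | h a => ?_
        induction q' using Quotient.inductionOn' with | h b => ?_
        intro hab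
        have h2 : a * s * a⁻¹ = b * s * b⁻¹ := congrArg Subtype.val hab
        apply Quotient.sound'
        rw [QuotientGroup.leftRel_apply, mem_centralizer_singleton_iff]
        calc a⁻¹ * b * s = a⁻¹ * (b * s * b⁻¹) * b := by group
          _ = a⁻¹ * (a * s * a⁻¹) * b := by rw [h2]
          _ = s * (a⁻¹ * b) := by group
      · rintro ⟨x, hx⟩
        obtain ⟨h, hh⟩ := isConj_iff.1 hx
        refine ⟨QuotientGroup.mk h, Subtype.ext ?_⟩
        exact hh
  rw [h1, mul_comm]
  exact card_mul_index _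

/-- **Double counting**: pairs `(x, y)`, `x` conjugate to `s`. -/
theorem double_count (P : X → X → Prop) (hP : ∀ h x y, P x y → P (h * x * h⁻¹) (h * y * h⁻¹)) (Q : X → Prop) (s : X)
    {M : ℕ} (hQ : ∀ x y, IsConj s x → P x y → Q y) (hM : ∀ y, Q y → Nat.card {x : X // IsConj s x ∧ P x y} ≤ M) :
    Nat.card X * Nat.card {y : X // P s y} ≤
      Nat.card (centralizer ({s} : Set X)) * (M * Nat.card {y : X // Q y}) := by
  classical
  have := Fintype.ofFinite X
  have h1 : ∀ x : {x : X // IsConj s x}, Nat.card {y : X // P x y} = Nat.card {y : X // P s y} := by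
    rintro ⟨x, hx⟩
    obtain ⟨h, rfl⟩ := isConj_iff.1 hx
    refine Nat.card_congr ((MulAut.conj h).toEquiv.subtypeEquiv fun y => ?_).symm
    constructor
    · intro h2
      exact hP h s y h2
    · intro h2
      have h3 := hP h⁻¹ _ _ h2
      have h4 : h⁻¹ * (h * s * h⁻¹) * h⁻¹⁻¹ = s := by group
      have h5 : h⁻¹ * ((MulAut.conj h).toEquiv y) * h⁻¹⁻¹ = y := by
        change h⁻¹ * (h * y * h⁻¹) * h⁻¹⁻¹ = y
        group
      rwa [h4, h5] at h3
  have h2 : Nat.card (Σ x : {x : X // IsConj s x}, {y : X // P x y}) =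
      Nat.card {x : X // IsConj s x} * Nat.card {y : X // P s y} := by
    rw [Nat.card_sigma, Finset.sum_congr rfl (fun x _ => h1 x), Finset.sum_const, Finset.card_univ, smul_eq_mul,
      Nat.card_eq_fintype_card (α := {x : X // IsConj s x})]
  have h3 : Nat.card (Σ x : {x : X // IsConj s x}, {y : X // P x y}) =
      Nat.card (Σ y : {y : X // Q y}, {x : X // IsConj s x ∧ P x y}) := by
    refine Nat.card_congr
      { toFun := fun a => ⟨⟨a.2.1, hQ _ _ a.1.2 a.2.2⟩, ⟨a.1.1, a.1.2, a.2.2⟩⟩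
        invFun := fun a => ⟨⟨a.2.1, a.2.2.1⟩, ⟨a.1.1, a.2.2.2⟩⟩
        left_inv := fun _ => rfl
        right_inv := fun _ => rfl }
  have h4 : Nat.card (Σ y : {y : X // Q y}, {x : X // IsConj s x ∧ P x y}) ≤ M * Nat.card {y : X // Q y} := by
    rw [Nat.card_sigma]
    refine (Finset.sum_le_sum fun y _ => hM y.1 y.2).trans ?_
    rw [Finset.sum_const, Finset.card_univ, smul_eq_mul, mul_comm, Nat.card_eq_fintype_card (α := {y : X // Q y})]
  rw [← h3, h2] at h4
  calc Nat.card X * Nat.card {y : X // P s y} =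
        Nat.card (centralizer ({s} : Set X)) * (Nat.card {x : X // IsConj s x} * Nat.card {y : X // P s y}) := by
        rw [← card_class s]; ring
    _ ≤ _ := Nat.mul_le_mul_left _ h4

/-- **Double counting**: conjugates of the elements of a set with centralisers of the same order. -/
theorem double_count' (E : X → Prop) {c M : ℕ} (hc : ∀ x, E x → Nat.card (centralizer ({x} : Set X)) = c) (Q : X → Prop)
    (hQ : ∀ x y, E x → IsConj x y → Q y) (hM : ∀ y, Q y → Nat.card {x : X // E x ∧ IsConj x y} ≤ M) :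
    Nat.card X * Nat.card {x : X // E x} ≤ c * (M * Nat.card {y : X // Q y}) := by
  classical
  have := Fintype.ofFinite X
  have h3 : Nat.card (Σ x : {x : X // E x}, {y : X // IsConj x.1 y}) =
      Nat.card (Σ y : {y : X // Q y}, {x : X // E x ∧ IsConj x y}) := by
    refine Nat.card_congr
      { toFun := fun a => ⟨⟨a.2.1, hQ _ _ a.1.2 a.2.2⟩, ⟨a.1.1, a.1.2, a.2.2⟩⟩
        invFun := fun a => ⟨⟨a.2.1, a.2.2.1⟩, ⟨a.1.1, a.2.2.2⟩⟩
        left_inv := fun _ => rfl
        right_inv := fun _ => rfl }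
  have h4 : Nat.card (Σ y : {y : X // Q y}, {x : X // E x ∧ IsConj x y}) ≤ M * Nat.card {y : X // Q y} := by
    rw [Nat.card_sigma]
    refine (Finset.sum_le_sum fun y _ => hM y.1 y.2).trans ?_
    rw [Finset.sum_const, Finset.card_univ, smul_eq_mul, mul_comm, Nat.card_eq_fintype_card (α := {y : X // Q y})]
  rw [← h3] at h4
  have h5 : Nat.card X * Nat.card {x : X // E x} = c * Nat.card (Σ x : {x : X // E x}, {y : X // IsConj x.1 y}) := by
    rw [Nat.card_sigma, Finset.mul_sum]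
    have h6 : ∀ x : {x : X // E x}, c * Nat.card {y : X // IsConj x.1 y} = Nat.card X := by
      intro x
      rw [← hc x.1 x.2, mul_comm]
      exact card_class x.1
    rw [Finset.sum_congr rfl (fun x _ => h6 x), Finset.sum_const, Finset.card_univ, smul_eq_mul, mul_comm,
      Nat.card_eq_fintype_card (α := {x : X // E x})]
  rw [h5]
  exact Nat.mul_le_mul_left _ h4

end

end Cfsg.Agent.H951.Two
end

-- part: H951/Two/TypeOne
section
/-!
# Elements with a power of type one (helper951, S5734)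

`type_one`: `X` a finite group of isometries of `V`, `dim V ≤ 2 e + 1`, `e` the order of `q` modulo `u`, `s` of order `u`
with `dim [V, s] = e`, commuting with an element of order `p`: the proportion of the elements with a power of
order `u` of this kind is at least `2 / (5 dim V)`.
-/

set_option autoImplicit false
set_option linter.unusedSectionVars false

namespace Cfsg.Agent.H951.Two

open Module Subgroup Cfsg.Agent.H200.LinFix

/-- `y` has a power of order `u` whose commutator space has dimension `n` -/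
def HasType {F V : Type*} [Field F] [AddCommGroup V] [Module F V] {X : Type*} [Group X] (ρ : X →* Module.End F V)
    (u n : ℕ) (y : X) : Prop := u ∣ orderOf y ∧ finrank F (R (ρ (y ^ (orderOf y / u)))) = n

section

variable {C H : Type*} [Group C] [Finite C] [Group H] [Finite H] {u : ℕ} [hu : Fact u.Prime]

/-- counting: `s` central of order `u` in the kernel of `f`; elements singular, with regular image -/
theorem card_sing_fibre (h5 : 5 ≤ u) (f : C →* H) (hf : Function.Surjective f) (hsing : 2 * sing u H ≤ Nat.card H)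
    {s : C} (hs : orderOf s = u) (hc : ∀ y, Commute y s) (hsf : f s = 1) :
    2 * Nat.card C ≤ 5 * Nat.card {y : C // u ∣ orderOf y ∧ f (y ^ (orderOf y / u)) = 1} := by
  classical
  have := Fintype.ofFinite C
  have := Fintype.ofFinite H
  have hsu : s ^ u = 1 := by rw [← hs]; exact pow_orderOf_eq_one s
  -- elements with regular image
  have hR0 : Nat.card {y : C // ¬ u ∣ orderOf (f y)} = Nat.card f.ker * Nat.card {h : H // ¬ u ∣ orderOf h} := by
    have h1 : Nat.card (Σ h : {h : H // ¬ u ∣ orderOf h}, f ⁻¹' {h.1}) = Nat.card {y : C // ¬ u ∣ orderOf (f y)} := by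
      refine Nat.card_congr
        { toFun := fun a => ⟨a.2.1, by rw [show f a.2.1 = a.1.1 from a.2.2]; exact a.1.2⟩
          invFun := fun y => ⟨⟨f y.1, y.2⟩, ⟨y.1, rfl⟩⟩
          left_inv := ?_
          right_inv := fun _ => rfl }
      rintro ⟨⟨h, hh⟩, ⟨y, hy⟩⟩
      have hy' : f y = h := hy
      subst hy'
      rfl
    rw [← h1, Nat.card_sigma, Finset.sum_congr rfl (fun h _ => Nat.card_congr (MonoidHom.fiberEquivKerOfSurjective hf h.1)),
      Finset.sum_const, Finset.card_univ, smul_eq_mul, mul_comm, Nat.card_eq_fintype_card (α := {h : H // ¬ u ∣ orderOf h})]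
  have hCH : Nat.card C = Nat.card f.ker * Nat.card H := by
    rw [← f.ker.card_mul_index, Subgroup.index_ker, MonoidHom.range_eq_top.2 hf, Subgroup.card_top]
  have hsplitH : sing u H + Nat.card {h : H // ¬ u ∣ orderOf h} = Nat.card H := by
    unfold sing
    rw [Nat.card_eq_fintype_card, Nat.card_eq_fintype_card, Nat.card_eq_fintype_card, Fintype.card_subtype_compl]
    have := Fintype.card_subtype_le (fun h : H => u ∣ orderOf h)
    omega
  have h2 : Nat.card C ≤ 2 * Nat.card {y : C // ¬ u ∣ orderOf (f y)} := by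
    rw [hR0, hCH]
    calc Nat.card f.ker * Nat.card H ≤ Nat.card f.ker * (2 * Nat.card {h : H // ¬ u ∣ orderOf h}) :=
          Nat.mul_le_mul_left _ (by omega)
      _ = _ := by ring
  -- regular elements
  have h3 : Nat.card {y : C // ¬ u ∣ orderOf y} * u ≤ Nat.card {y : C // ¬ u ∣ orderOf (f y)} := by
    have h4 : Nat.card ({y : C // ¬ u ∣ orderOf y} × Fin u) = Nat.card {y : C // ¬ u ∣ orderOf y} * u := by
      rw [Nat.card_prod, Nat.card_eq_fintype_card (α := Fin u), Fintype.card_fin]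
    rw [← h4]
    refine Nat.card_le_card_of_injective (fun a => ⟨a.1.1 * s ^ (a.2 : ℕ), ?_⟩) ?_
    · rw [map_mul, map_pow, hsf, one_pow, mul_one]
      exact fun h => a.1.2 (h.trans (orderOf_map_dvd f a.1.1))
    · rintro ⟨⟨y, hy⟩, j⟩ ⟨⟨y', hy'⟩, j'⟩ h
      have h5 : y * s ^ (j : ℕ) = y' * s ^ (j' : ℕ) := congrArg Subtype.val h
      have h6 : y' = y * s ^ ((j : ℤ) - j') := by
        rw [zpow_sub, zpow_natCast, zpow_natCast, ← mul_assoc, h5]; group
      have h7 : s ^ ((j : ℤ) - j') = 1 := by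
        by_contra h8
        have h9 : orderOf (s ^ ((j : ℤ) - j')) = u :=
          orderOf_eq_prime (by rw [← zpow_natCast, ← zpow_mul, mul_comm, zpow_mul, zpow_natCast, hsu, one_zpow]) h8
        apply hy'
        rw [h6, ((hc y).zpow_right _).orderOf_mul_eq_mul_orderOf_of_coprime (by
          rw [h9]
          exact ((Nat.Prime.coprime_iff_not_dvd hu.out).2 hy).symm), h9]
        exact dvd_mul_left _ _
      have h8 : y' = y := by rw [h6, h7, mul_one]
      have h9 : (j : ℤ) - j' = 0 := by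
        have h10 := orderOf_dvd_iff_zpow_eq_one.2 h7
        rw [hs] at h10
        have h11 : |(j : ℤ) - j'| < u := by
          rw [abs_lt]
          have := j.2
          have := j'.2
          constructor <;> omega
        exact Int.eq_zero_of_abs_lt_dvd h10 h11
      have h10 : j = j' := Fin.ext (by omega)
      subst h8 h10
      rfl
  -- the wanted elements
  have h4 : Nat.card {y : C // ¬ u ∣ orderOf (f y)} ≤
      Nat.card {y : C // ¬ u ∣ orderOf y} + Nat.card {y : C // u ∣ orderOf y ∧ f (y ^ (orderOf y / u)) = 1} := by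
    rw [← Nat.card_sum]
    refine Nat.card_le_card_of_injective (fun y : {y : C // ¬ u ∣ orderOf (f y)} =>
      if h : u ∣ orderOf y.1 then Sum.inr ⟨y.1, h, ?_⟩ else Sum.inl ⟨y.1, h⟩) ?_
    · rw [map_pow, ← orderOf_dvd_iff_pow_eq_one]
      have h5 : orderOf (f y.1) ∣ orderOf y.1 := orderOf_map_dvd f y.1
      have h6 : Nat.Coprime (orderOf (f y.1)) u := ((Nat.Prime.coprime_iff_not_dvd hu.out).2 y.2).symm
      obtain ⟨k, hk⟩ := h
      rw [hk, Nat.mul_div_cancel_left _ hu.out.pos]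
      rw [hk] at h5
      exact h6.dvd_of_dvd_mul_left h5
    · intro y y' hyy
      dsimp only at hyy
      split_ifs at hyy with h6 h7 h7
      · exact Subtype.ext (Subtype.mk.inj (Sum.inr.inj hyy))
      · exact Subtype.ext (Subtype.mk.inj (Sum.inl.inj hyy))
  have h5' : Nat.card {y : C // ¬ u ∣ orderOf y} * 5 ≤ Nat.card {y : C // ¬ u ∣ orderOf y} * u :=
    Nat.mul_le_mul_left _ h5
  omega

end

section

variable {F V : Type*} [Field F] [Finite F] [AddCommGroup V] [Module F V] [Finite V] {X : Type*} [Group X] [Finite X]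
  (ρ : X →* Module.End F V)

theorem finrank_R_conj (h y : X) : finrank F (R (ρ (h * y * h⁻¹))) = finrank F (R (ρ y)) := by
  have key : ∀ h y : X, finrank F (R (ρ y)) ≤ finrank F (R (ρ (h * y * h⁻¹))) := fun h y => by
    have h1 : ∀ v ∈ R (ρ y), ρ h v ∈ R (ρ (h * y * h⁻¹)) := by
      rintro _ ⟨w, rfl⟩
      refine ⟨ρ h w, ?_⟩
      change ρ (h * y * h⁻¹) (ρ h w) - ρ h w = ρ h (ρ y w - w)
      rw [map_mul, map_mul, Module.End.mul_apply, Module.End.mul_apply, inv_apply, map_sub]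
    exact LinearMap.finrank_le_finrank_of_injective (f := (ρ h).restrict h1) (fun v w hvw => by
      have h2 : ρ h v = ρ h w := congrArg Subtype.val hvw
      have h3 := congrArg (ρ h⁻¹) h2
      rw [inv_apply, inv_apply] at h3
      exact Subtype.ext h3)
  apply le_antisymm
  · have h1 := key h⁻¹ (h * y * h⁻¹)
    rwa [show h⁻¹ * (h * y * h⁻¹) * h⁻¹⁻¹ = y by group] at h1
  · exact key h y

theorem HasType.conj {u n : ℕ} {y : X} (h : X) (hy : HasType ρ u n y) : HasType ρ u n (h * y * h⁻¹) := by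
  have h1 : orderOf (h * y * h⁻¹) = orderOf y :=
    orderOf_injective (MulAut.conj h).toMonoidHom (MulAut.conj h).injective y
  refine ⟨by rw [h1]; exact hy.1, ?_⟩
  rw [h1, conj_pow, finrank_R_conj]
  exact hy.2

theorem K_conj (h x : X) {v : V} : v ∈ K (ρ (h * x * h⁻¹)) ↔ ρ h⁻¹ v ∈ K (ρ x) := by
  rw [mem_K, mem_K, map_mul, map_mul, Module.End.mul_apply, Module.End.mul_apply]
  constructor
  · intro h1
    have h2 := congrArg (ρ h⁻¹) h1
    rwa [inv_apply] at h2
  · intro h1
    rw [h1, apply_inv]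

theorem aeval_conj (h s : X) (f : Polynomial F) :
    Polynomial.aeval (ρ (h * s * h⁻¹)) f = ρ h * Polynomial.aeval (ρ s) f * ρ h⁻¹ := by
  induction f using Polynomial.induction_on' with
  | add P Q hP hQ => rw [map_add, map_add, hP, hQ, mul_add, add_mul]
  | monomial n c =>
    have h1 : ρ (h * s * h⁻¹) ^ n = ρ h * ρ s ^ n * ρ h⁻¹ := by
      rw [← map_pow, conj_pow, map_mul, map_mul, map_pow]
    rw [Polynomial.aeval_monomial, Polynomial.aeval_monomial, h1, ← mul_assoc, ← mul_assoc, ← mul_assoc,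
      Algebra.commutes c (ρ h)]

/-- **Elements with a power of type one.** -/
theorem type_one {p u e : ℕ} [hp : Fact p.Prime] [hu : Fact u.Prime] [CharP F p] (hd : Ordd u (Nat.card F) e)
    (he : 2 ≤ e) (h5 : 5 ≤ u) (huF : (u : F) ≠ 0) (hρ : Function.Injective ρ) (hdim : finrank F V ≤ 2 * e + 1)
    (b : LinearMap.BilinForm F V) (hb2 : ∀ w, (∀ v, b v w = 0) → w = 0)
    (hinv : ∀ h v w, b (ρ h v) (ρ h w) = b v w) {s : X} (hs : orderOf s = u) (hse : finrank F (R (ρ s)) = e)
    (hps : p ∣ Nat.card (centralizer ({s} : Set X))) :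
    2 * Nat.card X ≤ 5 * (finrank F V * Nat.card {y : X // HasType ρ u e y}) := by
  classical
  set g := ρ s with hg
  have hgu : g ^ u = 1 := by rw [hg, ← map_pow, ← hs, pow_orderOf_eq_one, map_one]
  have hg1 : g ≠ 1 := by
    intro h
    have h1 : s = 1 := hρ (h.trans (map_one ρ).symm)
    rw [h1, orderOf_one] at hs
    exact hu.out.one_lt.ne hs
  have hirr : Irr g (R g) := irr_of_lt hd huF hgu le_rfl (fun w hw => R_inv rfl hw) (by rw [hse]; omega)
  have hsum := finrank_add (F := F) g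
  have hpu : p ≠ u := by
    rintro rfl
    exact huF (CharP.cast_eq_zero F p)
  set C := centralizer ({s} : Set X) with hC
  have hcomm : ∀ c : C, ρ c * g = g * ρ c := by
    intro c
    have h1 := mem_centralizer_singleton_iff.1 c.2
    rw [hg, ← map_mul, ← map_mul, h1]
  -- the action on `K g`
  let ρ0 : C →* Module.End F (K g) :=
    { toFun := fun c => (ρ c).restrict (fun v hv => K_inv (hcomm c) hv)
      map_one' := by ext v; simp only [_root_.OneMemClass.coe_one, _root_.map_one, _root_.LinearMap.coe_restrict_apply, _root_.Module.End.one_apply]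
      map_mul' := fun a b => by ext v; simp only [Module.End.mul_apply, _root_.Subgroup.coe_mul, _root_.map_mul, _root_.LinearMap.coe_restrict_apply] }
  have hρ0 : ∀ (c : C) (v : K g), ((ρ0 c v : K g) : V) = ρ c v := fun c v => rfl
  let f : C →* ρ0.toHomUnits.range := ρ0.toHomUnits.rangeRestrict
  have hf : Function.Surjective f := ρ0.toHomUnits.rangeRestrict_surjective
  have hfK : ∀ c : C, f c = 1 ↔ ∀ v ∈ K g, ρ c v = v := by
    intro c
    constructor
    · intro h v hv
      have h1 : ρ0.toHomUnits c = 1 := congrArg Subtype.val h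
      have h2 : ρ0 c = 1 := congrArg Units.val h1
      have h3 := hρ0 c ⟨v, hv⟩
      rw [h2] at h3
      exact h3.symm
    · intro h
      apply Subtype.ext
      apply Units.ext
      refine LinearMap.ext fun v => Subtype.ext ?_
      exact h v v.2
  set! τ : ρ0.toHomUnits.range →* Module.End F (K g) := (Units.coeHom _).comp ρ0.toHomUnits.range.subtype with hτd
  have hτ : Function.Injective τ := fun a b hab => Subtype.ext (Units.ext hab)
  have hτf : ∀ c : C, τ (f c) = ρ0 c := fun c => rfl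
  have hfin : Finite ρ0.toHomUnits.range := Finite.of_surjective f hf
  -- the form on `K g`
  have hKR : ∀ k ∈ K g, ∀ r ∈ R g, b r k = 0 := by
    rintro k hk _ ⟨w, rfl⟩
    rw [mem_K] at hk
    have h2 := hinv s w k
    rw [← hg, hk] at h2
    change b (g w - w) k = 0
    rw [map_sub, LinearMap.sub_apply, h2, sub_self]
  -- cyclic `u`-subgroups
  have hcyc : ∀ P : Subgroup ρ0.toHomUnits.range, IsPGroup u P → IsCyclic P := fun P hP =>
    isCyclic_of hP (τ.comp P.subtype) (hτ.comp P.subtype_injective) hd huF (by omega)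
  -- `p` divides the order of the image
  have hker : ¬ p ∣ Nat.card f.ker := by
    intro h
    obtain ⟨⟨a, ha⟩, hap⟩ := exists_prime_orderOf_dvd_card' p h
    rw [Subgroup.orderOf_mk] at hap
    have ha' := (hfK a).1 (MonoidHom.mem_ker.1 ha)
    have hap1 : a ^ p = 1 := by rw [← hap]; exact pow_orderOf_eq_one a
    have hnt : Nontrivial (R g) := Submodule.nontrivial_iff_ne_bot.2 (R_ne_bot hg1)
    have hgR : ∀ w ∈ R g, g w ∈ R g := fun w hw => R_inv rfl hw
    have haR : ∀ w ∈ R g, ρ a w ∈ R g := fun w hw => R_inv (hcomm a) hw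
    set! a' : Module.End F (R g) := (ρ a).restrict haR with ha'd
    have hpow : ∀ (n : ℕ) (w : R g), ((a' ^ n) w : V) = (ρ a ^ n) w := by
      intro n
      induction n with
      | zero => intro w; rfl
      | succ n ih =>
        intro w
        rw [pow_succ, pow_succ, Module.End.mul_apply, Module.End.mul_apply, ih]
        rfl
    have h1 : a' ^ p = 1 := by
      refine LinearMap.ext fun w => Subtype.ext ?_
      rw [hpow, ← map_pow, ← Subgroup.coe_pow, hap1, Subgroup.coe_one, map_one]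
      rfl
    have h0 : a' ≠ 0 := by
      intro h0
      rw [h0, zero_pow hp.out.ne_zero] at h1
      have hnt' : Nontrivial (Module.End F (R g)) := Module.End.instNontrivial
      exact zero_ne_one h1
    have h2 := pow_card_sub_one (hirr.restrict hgR) (s := a') (by
      ext w
      exact LinearMap.congr_fun (hcomm a) w) h0
    have h3 : a' = 1 := by
      have h4 : Nat.Coprime p (Nat.card (R g) - 1) := by
        rw [Nat.Prime.coprime_iff_not_dvd hp.out]
        intro h5
        have h6 : p ∣ Nat.card (R g) := by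
          have h2 : Nat.card (R g) = Nat.card F ^ finrank F (R g) := Module.natCard_eq_pow_finrank
          have h4 : 0 < finrank F (R g) := Module.finrank_pos
          rw [h2]
          have : Fintype F := Fintype.ofFinite F
          obtain ⟨n, -, hn⟩ := FiniteField.card F p
          rw [Nat.card_eq_fintype_card, hn]
          exact dvd_pow (dvd_pow_self p n.ne_zero) h4.ne'
        have h7 : 0 < Nat.card (R g) := Nat.card_pos
        have h8 := Nat.dvd_sub h6 h5
        rw [Nat.sub_sub_self h7] at h8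
        exact hp.out.one_lt.ne' (Nat.dvd_one.1 h8)
      have h5 := Nat.dvd_gcd (orderOf_dvd_of_pow_eq_one h1) (orderOf_dvd_of_pow_eq_one h2)
      rw [h4.gcd_eq_one, Nat.dvd_one, orderOf_eq_one_iff] at h5
      exact h5
    have h4 : ρ a = 1 := by
      refine LinearMap.ext fun v => ?_
      obtain ⟨k, hk, r, hr, rfl⟩ := decomp hgu huF v
      have h5 : ρ a r = r := by
        have h6 := congrArg Subtype.val (LinearMap.congr_fun h3 ⟨r, hr⟩)
        exact h6
      rw [map_add, ha' k hk, h5]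
      rfl
    have h5 : (a : X) = 1 := hρ (h4.trans (map_one ρ).symm)
    have h6 : a = 1 := Subtype.ext h5
    rw [h6, orderOf_one] at hap
    exact hp.out.one_lt.ne hap
  have hpH : p ∣ Nat.card ρ0.toHomUnits.range := by
    have h1 : Nat.card C = Nat.card f.ker * Nat.card ρ0.toHomUnits.range := by
      rw [← f.ker.card_mul_index, Subgroup.index_ker, MonoidHom.range_eq_top.2 hf, Subgroup.card_top]
    rw [h1] at hps
    exact (hp.out.dvd_mul.1 hps).resolve_left hker
  -- half of the elements are regular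
  have hhalf : 2 * sing u ρ0.toHomUnits.range ≤ Nat.card ρ0.toHomUnits.range := by
    refine sing_half hcyc hp.out hpu hpH fun S hS hS1 y hy hyS => ?_
    refine no_normaliser τ hd he huF hτ (by omega) (b.restrict (K g)) ?_ ?_ hS hS1 hy hyS
    · intro w hw
      apply Subtype.ext
      apply hb2
      intro v
      obtain ⟨k, hk, r, hr, rfl⟩ := decomp hgu huF v
      rw [map_add, LinearMap.add_apply, hKR w w.2 r hr, add_zero]
      exact hw ⟨k, hk⟩
    · intro h v w
      obtain ⟨c, rfl⟩ := hf h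
      rw [hτf]
      exact hinv c v w
  -- counting in `C`
  have hsC : s ∈ C := mem_centralizer_singleton_iff.2 rfl
  have h1 := card_sing_fibre (s := (⟨s, hsC⟩ : C)) h5 f hf hhalf (by rw [Subgroup.orderOf_mk, hs]) (fun y => by
    apply Subtype.ext
    exact mem_centralizer_singleton_iff.1 y.2) ((hfK _).2 fun v hv => mem_K.1 hv)
  -- the relation
  let P : X → X → Prop := fun x y => Commute y x ∧ u ∣ orderOf y ∧ K (ρ x) ≤ K (ρ (y ^ (orderOf y / u)))
  have h2 : Nat.card {y : C // u ∣ orderOf y ∧ f (y ^ (orderOf y / u)) = 1} ≤ Nat.card {y : X // P s y} := by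
    refine Nat.card_le_card_of_injective (fun y => ⟨y.1.1, ?_, ?_, ?_⟩) ?_
    · exact mem_centralizer_singleton_iff.1 y.1.2
    · rw [Subgroup.orderOf_coe]; exact y.2.1
    · intro v hv
      rw [mem_K, Subgroup.orderOf_coe, ← Subgroup.coe_pow]
      exact (hfK _).1 y.2.2 v hv
    · intro y y' h
      exact Subtype.ext (Subtype.ext (Subtype.mk.inj h))
  have hP : ∀ h x y, P x y → P (h * x * h⁻¹) (h * y * h⁻¹) := by
    rintro h x y ⟨hc, hu1, hK⟩
    have h3 : orderOf (h * y * h⁻¹) = orderOf y :=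
      orderOf_injective (MulAut.conj h).toMonoidHom (MulAut.conj h).injective y
    refine ⟨?_, by rw [h3]; exact hu1, ?_⟩
    · have h4 := hc.map (MulAut.conj h).toMonoidHom
      exact h4
    · intro v hv
      rw [h3, conj_pow, K_conj]
      exact hK ((K_conj ρ h x).1 hv)
  -- the type of the power
  have hfr : ∀ x, IsConj s x → finrank F (R (ρ x)) = e := by
    intro x hx
    obtain ⟨h, rfl⟩ := isConj_iff.1 hx
    rw [finrank_R_conj, ← hse]
  have hpow : ∀ {y : X}, u ∣ orderOf y → orderOf (y ^ (orderOf y / u)) = u := fun {y} hy =>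
    orderOf_pow_orderOf_div (orderOf_pos y).ne' hy
  have hKeq : ∀ x y, IsConj s x → P x y → finrank F (R (ρ (y ^ (orderOf y / u)))) = e ∧
      K (ρ x) = K (ρ (y ^ (orderOf y / u))) := by
    rintro x y hx ⟨hc, hu1, hK⟩
    set! z := y ^ (orderOf y / u) with hz; rewrite [← hz] at hK ⊢
    have hzu := hpow hu1
    have hzp : (ρ z) ^ u = 1 := by rw [← map_pow, ← hzu, pow_orderOf_eq_one, map_one]
    have hz1 : ρ z ≠ 1 := by
      intro h
      have h1 : z = 1 := hρ (h.trans (map_one ρ).symm)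
      rw [← hz, h1, orderOf_one] at hzu
      exact hu.out.one_lt.ne hzu
    have h3 : 0 < finrank F (R (ρ z)) := by
      have h1 : Nontrivial (R (ρ z)) := Submodule.nontrivial_iff_ne_bot.2 (R_ne_bot hz1)
      exact Module.finrank_pos
    have h4 := Nat.le_of_dvd h3 (dvd_finrank_R hd huF hzp)
    have h5 := finrank_add (F := F) (ρ z)
    have h6 := finrank_add (F := F) (ρ x)
    have h7 := Submodule.finrank_mono hK
    have h8 := hfr x hx
    exact ⟨by omega, Submodule.eq_of_le_of_finrank_le hK (by omega)⟩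
  have h3 := double_count P hP (fun y => HasType ρ u e y) s (M := finrank F V)
    (fun x y hx hxy => ⟨hxy.2.1, (hKeq x y hx hxy).1⟩) (by
    intro y hy
    by_cases hne : ∃ x, IsConj s x ∧ P x y
    · obtain ⟨x0, hx0, hP0⟩ := hne
      obtain ⟨hye, hyK⟩ := hKeq x0 y hx0 hP0
      set! z := y ^ (orderOf y / u) with hz; rewrite [← hz] at hyK hye
      have hzu := hpow hP0.2.1
      have hzp : (ρ z) ^ u = 1 := by rw [← map_pow, ← hzu, pow_orderOf_eq_one, map_one]
      have hirrz : Irr (ρ z) (R (ρ z)) := irr_of_lt hd huF hzp le_rfl (fun w hw => R_inv rfl hw) (by rw [hye]; omega)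
      have hfin : Finite {x : X // IsConj s x ∧ P x y} := inferInstance
      have := Fintype.ofFinite X
      rw [Nat.card_eq_fintype_card, Fintype.card_subtype]
      have hcz : ∀ x, P x y → ρ x * ρ z = ρ z * ρ x := by
        intro x hx
        have h1 : Commute z x := hx.1.pow_left _
        rw [← map_mul, ← map_mul, h1.eq]
      refine (card_le_natDegree (g := ρ z) (W := R (ρ z)) (fun w hw => R_inv rfl hw) hirrz ?_
        (f := (ρ s).charpoly) ((ρ s).charpoly_monic).ne_zero _ (fun x => ρ x) (k := 1) ?_ ?_ ?_ ?_).trans ?_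
      · intro h
        rw [h, finrank_bot] at hye
        omega
      · intro x hx w hw
        exact R_inv (hcz x (Finset.mem_filter.1 hx).2.2) hw
      · intro x hx w hw
        exact LinearMap.congr_fun (hcz x (Finset.mem_filter.1 hx).2.2) w
      · intro x hx w _
        obtain ⟨h, rfl⟩ := isConj_iff.1 (Finset.mem_filter.1 hx).2.1
        change (Polynomial.aeval (ρ (h * s * h⁻¹)) (ρ s).charpoly) w = 0
        rw [aeval_conj, LinearMap.aeval_self_charpoly, mul_zero, zero_mul]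
        rfl
      · intro x hx Y hY hYx
        rw [Finset.card_le_one]
        intro a ha b' hb'
        have hY' : ∀ a ∈ Y, ρ a = ρ x := by
          intro a ha
          refine LinearMap.ext fun v => ?_
          obtain ⟨k, hk, r, hr, rfl⟩ := decomp hzp huF v
          have h4 := (Finset.mem_filter.1 (hY ha)).2
          have h5 := (Finset.mem_filter.1 hx).2
          have h6 := (hKeq a y h4.1 h4.2).2
          have h7 := (hKeq x y h5.1 h5.2).2
          have h8 : ρ a k = k := mem_K.1 (by rw [h6]; exact hk)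
          have h9 : ρ x k = k := mem_K.1 (by rw [h7]; exact hk)
          rw [map_add, map_add, h8, h9, hYx a ha r hr]
        exact hρ ((hY' a ha).trans (hY' b' hb').symm)
      · rw [one_mul, LinearMap.charpoly_natDegree]
    · have hemp : IsEmpty {x : X // IsConj s x ∧ P x y} := ⟨fun x => hne ⟨x.1, x.2⟩⟩
      rw [Nat.card_of_isEmpty]
      exact Nat.zero_le _)
  -- conclusion
  have h4 : Nat.card C ≠ 0 := Nat.card_pos.ne'
  have h5 : Nat.card C * (2 * Nat.card X) ≤ Nat.card C * (5 * (finrank F V * Nat.card {y : X // HasType ρ u e y})) := by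
    calc Nat.card C * (2 * Nat.card X) = (2 * Nat.card C) * Nat.card X := by ring
      _ ≤ (5 * Nat.card {y : X // P s y}) * Nat.card X := Nat.mul_le_mul_right _ (h1.trans (Nat.mul_le_mul_left _ h2))
      _ = 5 * (Nat.card X * Nat.card {y : X // P s y}) := by ring
      _ ≤ 5 * (Nat.card C * (finrank F V * Nat.card {y : X // HasType ρ u e y})) := Nat.mul_le_mul_left _ h3
      _ = _ := by ring
  exact Nat.le_of_mul_le_mul_left h5 (Nat.pos_of_ne_zero h4)

end

end Cfsg.Agent.H951.Two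
end

-- part: H951/Two/TypeTwo
section
/-!
# Elements with a power of type two (helper951, S5734)

`type_two`: `X` a finite group of isometries of `V = W₁ ⊕ W₂ ⊕ V₀`, `W₁`, `W₂` totally isotropic of dimension `e`, `V₀` of
dimension at most one; `d ∈ X` preserves the three spaces, `u ∣ orderOf d` and `d ^ (q ^ (e / 2) + 1)` is nontrivial on `W₁`:
the proportion of the elements with a power `z` of order `u`, `dim [V, z] = 2 e`, is at least `3 / (20 dim V)`.
-/

set_option autoImplicit false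
set_option linter.unusedSectionVars false

namespace Cfsg.Agent.H951.Two

open Module Subgroup Cfsg.Agent.H200.LinFix

section

variable {F V : Type*} [Field F] [AddCommGroup V] [Module F V]

/-- the decomposition -/
structure Split (b : LinearMap.BilinForm F V) (W₁ W₂ V₀ : Submodule F V) (e : ℕ) : Prop where
  sum : ∀ v, ∃ w₁ ∈ W₁, ∃ w₂ ∈ W₂, ∃ w₀ ∈ V₀, v = w₁ + w₂ + w₀
  b11 : ∀ v ∈ W₁, ∀ w ∈ W₁, b v w = 0
  b22 : ∀ v ∈ W₂, ∀ w ∈ W₂, b v w = 0
  b10 : ∀ v ∈ W₁, ∀ w ∈ V₀, b v w = 0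
  b01 : ∀ v ∈ V₀, ∀ w ∈ W₁, b v w = 0
  b20 : ∀ v ∈ W₂, ∀ w ∈ V₀, b v w = 0
  b02 : ∀ v ∈ V₀, ∀ w ∈ W₂, b v w = 0
  f1 : finrank F W₁ = e
  f2 : finrank F W₂ = e
  f0 : finrank F V₀ ≤ 1
  nd1 : ∀ v, (∀ w, b v w = 0) → v = 0
  nd2 : ∀ w, (∀ v, b v w = 0) → w = 0

theorem Split.swap {b : LinearMap.BilinForm F V} {W₁ W₂ V₀ : Submodule F V} {e : ℕ} (h : Split b W₁ W₂ V₀ e) :
    Split b W₂ W₁ V₀ e where
  sum v := by
    obtain ⟨w₁, h1, w₂, h2, w₀, h0, rfl⟩ := h.sum v
    exact ⟨w₂, h2, w₁, h1, w₀, h0, by abel⟩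
  b11 := h.b22
  b22 := h.b11
  b10 := h.b20
  b01 := h.b02
  b20 := h.b10
  b02 := h.b01
  f1 := h.f2
  f2 := h.f1
  f0 := h.f0
  nd1 := h.nd1
  nd2 := h.nd2

/-- left test -/
theorem Split.eq_zero {b : LinearMap.BilinForm F V} {W₁ W₂ V₀ : Submodule F V} {e : ℕ} (h : Split b W₁ W₂ V₀ e) {v : V}
    (h1 : ∀ w ∈ W₁, b v w = 0) (h2 : ∀ w ∈ W₂, b v w = 0) (h0 : ∀ w ∈ V₀, b v w = 0) : v = 0 := by
  apply h.nd1
  intro w
  obtain ⟨w₁, hw1, w₂, hw2, w₀, hw0, rfl⟩ := h.sum w
  rw [map_add, map_add, h1 _ hw1, h2 _ hw2, h0 _ hw0, add_zero, add_zero]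

/-- right test -/
theorem Split.eq_zero' {b : LinearMap.BilinForm F V} {W₁ W₂ V₀ : Submodule F V} {e : ℕ} (h : Split b W₁ W₂ V₀ e) {v : V}
    (h1 : ∀ w ∈ W₁, b w v = 0) (h2 : ∀ w ∈ W₂, b w v = 0) (h0 : ∀ w ∈ V₀, b w v = 0) : v = 0 := by
  apply h.nd2
  intro w
  obtain ⟨w₁, hw1, w₂, hw2, w₀, hw0, rfl⟩ := h.sum w
  rw [map_add, map_add, LinearMap.add_apply, LinearMap.add_apply, h1 _ hw1, h2 _ hw2, h0 _ hw0, add_zero, add_zero]

variable [Finite F] [Finite V] {X : Type*} [Group X] [Finite X] (ρ : X →* Module.End F V)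

/-- the element preserves the subspace -/
def Pres (W : Submodule F V) (x : X) : Prop := ∀ w ∈ W, ρ x w ∈ W

variable {ρ}

theorem Pres.mul {W : Submodule F V} {x y : X} (hx : Pres ρ W x) (hy : Pres ρ W y) : Pres ρ W (x * y) := by
  intro w hw
  rw [map_mul, Module.End.mul_apply]
  exact hx _ (hy _ hw)

theorem Pres.pow {W : Submodule F V} {x : X} (hx : Pres ρ W x) (n : ℕ) : Pres ρ W (x ^ n) := by
  induction n with
  | zero =>
    intro w hw
    rw [pow_zero, map_one]
    exact hw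
  | succ n ih => rw [pow_succ]; exact ih.mul hx

theorem Pres.inv {W : Submodule F V} {x : X} (hx : Pres ρ W x) : Pres ρ W x⁻¹ := by
  have h1 : x⁻¹ = x ^ (orderOf x - 1) := by
    rw [inv_eq_iff_mul_eq_one, ← pow_succ', Nat.sub_add_cancel (orderOf_pos x), pow_orderOf_eq_one]
  rw [h1]
  exact hx.pow _

variable {b : LinearMap.BilinForm F V} (hinv : ∀ h v w, b (ρ h v) (ρ h w) = b v w)

include hinv

/-- duality -/
theorem Split.dual {W₁ W₂ V₀ : Submodule F V} {e : ℕ} (h : Split b W₁ W₂ V₀ e) {x : X} (hx2 : Pres ρ W₂ x)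
    (h1 : ∀ w ∈ W₁, ρ x w = w) : ∀ w ∈ W₂, ρ x w = w := by
  intro w hw
  rw [← sub_eq_zero]
  have hδ : ρ x w - w ∈ W₂ := W₂.sub_mem (hx2 w hw) hw
  refine h.eq_zero' ?_ (fun v hv => h.b22 v hv _ hδ) (fun v hv => h.b02 v hv _ hδ)
  intro v hv
  rw [map_sub]
  nth_rewrite 1 [← h1 v hv]
  rw [hinv, sub_self]

/-- elements of order `u` preserving the spaces are trivial on `V₀` -/
theorem Split.triv0 {u e : ℕ} [hu : Fact u.Prime] (hd : Ordd u (Nat.card F) e) (he : 2 ≤ e) (huF : (u : F) ≠ 0)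
    {W₁ W₂ V₀ : Submodule F V} (h : Split b W₁ W₂ V₀ e) {z : X} (hz : orderOf z = u) (hz0 : Pres ρ V₀ z) :
    ∀ w ∈ V₀, ρ z w = w := by
  have hzp : (ρ z) ^ u = 1 := by rw [← map_pow, ← hz, pow_orderOf_eq_one, map_one]
  have h1 := dvd_finrank_le hd huF hzp (W := V₀ ⊓ R (ρ z)) inf_le_right (fun w hw => ⟨hz0 w hw.1, R_inv rfl hw.2⟩)
  have h2 : finrank F (V₀ ⊓ R (ρ z) : Submodule F V) ≤ 1 := (Submodule.finrank_mono inf_le_left).trans h.f0
  have h3 : finrank F (V₀ ⊓ R (ρ z) : Submodule F V) = 0 := Nat.eq_zero_of_dvd_of_lt h1 (by omega)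
  rw [Submodule.finrank_eq_zero] at h3
  intro w hw
  have h4 : ρ z w - w ∈ V₀ ⊓ R (ρ z) := ⟨V₀.sub_mem (hz0 w hw) hw, sub_mem_R _ w⟩
  rw [h3, Submodule.mem_bot, sub_eq_zero] at h4
  exact h4

/-- elements of order `u` preserving the spaces have `W₁ ≤ R` -/
theorem Split.le_R {u e : ℕ} [hu : Fact u.Prime] (hρ : Function.Injective ρ) (hd : Ordd u (Nat.card F) e)
    (he : 2 ≤ e) (huF : (u : F) ≠ 0)
    {W₁ W₂ V₀ : Submodule F V} (h : Split b W₁ W₂ V₀ e) {z : X} (hz : orderOf z = u) (hz1 : Pres ρ W₁ z)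
    (hz2 : Pres ρ W₂ z) (hz0 : Pres ρ V₀ z) : W₁ ≤ R (ρ z) ∧ Irr (ρ z) W₁ ∧ ∃ w ∈ W₁, ρ z w ≠ w := by
  have hzp : (ρ z) ^ u = 1 := by rw [← map_pow, ← hz, pow_orderOf_eq_one, map_one]
  have h1 := dvd_finrank_le hd huF hzp (W := W₁ ⊓ R (ρ z)) inf_le_right (fun w hw => ⟨hz1 w hw.1, R_inv rfl hw.2⟩)
  have hne : ∃ w ∈ W₁, ρ z w ≠ w := by
    by_contra hcon
    push Not at hcon
    have h2 := h.dual hinv hz2 hcon
    have h3 := h.triv0 hinv hd he huF hz hz0
    have h4 : ρ z = 1 := by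
      refine LinearMap.ext fun v => ?_
      obtain ⟨w₁, hw1, w₂, hw2, w₀, hw0, rfl⟩ := h.sum v
      rw [map_add, map_add, hcon _ hw1, h2 _ hw2, h3 _ hw0]
      rfl
    have h5 : z = 1 := hρ (h4.trans (map_one ρ).symm)
    rw [h5, orderOf_one] at hz
    exact hu.out.one_lt.ne hz
  obtain ⟨w, hw, hwz⟩ := hne
  have h2 : W₁ ⊓ R (ρ z) ≠ ⊥ := by
    intro h3
    have h4 : ρ z w - w ∈ W₁ ⊓ R (ρ z) := ⟨W₁.sub_mem (hz1 w hw) hw, sub_mem_R _ w⟩
    rw [h3, Submodule.mem_bot, sub_eq_zero] at h4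
    exact hwz h4
  have h3 : 0 < finrank F (W₁ ⊓ R (ρ z) : Submodule F V) := by
    have h4 : Nontrivial (W₁ ⊓ R (ρ z) : Submodule F V) := Submodule.nontrivial_iff_ne_bot.2 h2
    exact Module.finrank_pos
  have h4 : W₁ ⊓ R (ρ z) = W₁ := Submodule.eq_of_le_of_finrank_le inf_le_left (by rw [h.f1]; exact Nat.le_of_dvd h3 h1)
  have h5 : W₁ ≤ R (ρ z) := by rw [← h4]; exact inf_le_right
  exact ⟨h5, irr_of_lt hd huF hzp h5 hz1 (by rw [h.f1]; omega), w, hw, hwz⟩

/-- the good elements -/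
structure Good (ρ : X →* Module.End F V) (W₁ W₂ V₀ : Submodule F V) (u k : ℕ) (x : X) : Prop where
  p1 : Pres ρ W₁ x
  p2 : Pres ρ W₂ x
  p0 : Pres ρ V₀ x
  dvd : u ∣ orderOf x
  ne : ∃ w ∈ W₁, ρ (x ^ k) w ≠ w

omit hinv in
theorem Good.swap {W₁ W₂ V₀ : Submodule F V} {u k e : ℕ} {x : X} (hinv : ∀ h v w, b (ρ h v) (ρ h w) = b v w)
    (h : Split b W₁ W₂ V₀ e) (hx : Good ρ W₁ W₂ V₀ u k x) : Good ρ W₂ W₁ V₀ u k x where
  p1 := hx.p2
  p2 := hx.p1
  p0 := hx.p0
  dvd := hx.dvd
  ne := by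
    by_contra hcon
    push Not at hcon
    obtain ⟨w, hw, hne⟩ := hx.ne
    exact hne (h.swap.dual hinv (hx.p1.pow k) hcon w hw)

omit hinv in
theorem irr_of_pow {x : X} {n : ℕ} {W : Submodule F V} (h : Irr (ρ (x ^ n)) W) : Irr (ρ x) W := by
  intro U hU hx
  have h1 : Pres ρ U x := hx
  exact h U hU (h1.pow n)

theorem Good.irr {u e k : ℕ} [hu : Fact u.Prime] (hρ : Function.Injective ρ) (hd : Ordd u (Nat.card F) e)
    (he : 2 ≤ e) (huF : (u : F) ≠ 0) {W₁ W₂ V₀ : Submodule F V} (h : Split b W₁ W₂ V₀ e) {x : X}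
    (hx : Good ρ W₁ W₂ V₀ u k x) : Irr (ρ x) W₁ :=
  irr_of_pow (h.le_R hinv hρ hd he huF (orderOf_pow_orderOf_div (orderOf_pos x).ne' hx.dvd) (hx.p1.pow _)
    (hx.p2.pow _) (hx.p0.pow _)).2.1

/-- **Elements commuting with a good element preserve `W₁`.** -/
theorem Good.pres {u e : ℕ} [hu : Fact u.Prime] (hρ : Function.Injective ρ) (hd : Ordd u (Nat.card F) e)
    (he : 2 ≤ e) (hu2 : u ≠ 2) (huF : (u : F) ≠ 0) {W₁ W₂ V₀ : Submodule F V} (h : Split b W₁ W₂ V₀ e) {x : X}
    (hx : Good ρ W₁ W₂ V₀ u (Nat.card F ^ (e / 2) + 1) x) {g : X} (hg : Commute g x) : Pres ρ W₁ g := by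
  have hirr := hx.irr hinv hρ hd he huF h
  have hcomm : ∀ v, ρ g (ρ x v) = ρ x (ρ g v) := by
    intro v
    rw [← Module.End.mul_apply, ← Module.End.mul_apply, ← map_mul, ← map_mul, hg.eq]
  have hnt : Nontrivial W₁ := by
    apply Module.nontrivial_of_finrank_pos (R := F)
    rw [h.f1]; omega
  -- first claim
  have c1 : ∀ w' ∈ W₁, ∀ w ∈ W₁, b (ρ g w) w' = 0 := by
    let N : Submodule F V :=
      { carrier := {w' | w' ∈ W₁ ∧ ∀ w ∈ W₁, b (ρ g w) w' = 0}
        add_mem' := fun {v w} hv hw => ⟨W₁.add_mem hv.1 hw.1, fun d hd => by rw [map_add, hv.2 d hd, hw.2 d hd, add_zero]⟩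
        zero_mem' := ⟨W₁.zero_mem, fun d _ => map_zero _⟩
        smul_mem' := fun c v hv => ⟨W₁.smul_mem c hv.1, fun d hd => by rw [map_smul, hv.2 d hd, smul_zero]⟩ }
    rcases hirr N (fun w hw => hw.1) (by
      rintro w' ⟨hw', hN⟩
      refine ⟨hx.p1 w' hw', fun w hw => ?_⟩
      have h1 := hinv x (ρ g (ρ x⁻¹ w)) w'
      rw [← hcomm, apply_inv] at h1
      rw [h1]
      exact hN _ (hx.p1.inv w hw)) with hN | hN
    · exfalso
      let β : LinearMap.BilinForm F W₁ := LinearMap.mk₂ F (fun w w' : W₁ => b (ρ g w) w')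
        (fun a c d => by simp only [_root_.Submodule.coe_add, _root_.map_add, _root_.LinearMap.add_apply]) (fun a c d => by simp only [_root_.SetLike.val_smul, _root_.map_smul, _root_.LinearMap.smul_apply, _root_.smul_eq_mul]) (fun a c d => by simp only [_root_.Submodule.coe_add, _root_.map_add]) (fun a c d => by simp only [_root_.SetLike.val_smul, _root_.map_smul, _root_.smul_eq_mul])
      have hβ : ∀ w w' : W₁, β w w' = b (ρ g w) w' := fun w w' => rfl
      set! x' : Module.End F W₁ := (ρ x).restrict hx.p1 with hx'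
      have hx'a : ∀ w : W₁, ((x' w : W₁) : V) = ρ x w := fun w => rfl
      have hpow : ∀ (n : ℕ) (w : W₁), ((x' ^ n) w : V) = ρ (x ^ n) w := by
        intro n
        induction n with
        | zero => intro w; rw [pow_zero, pow_zero, map_one]; rfl
        | succ n ih =>
          intro w
          rw [pow_succ, pow_succ, Module.End.mul_apply, ih, map_mul, Module.End.mul_apply]
          rfl
      obtain ⟨l, hl⟩ : ∃ l, orderOf x = l + 1 := ⟨orderOf x - 1, by have := orderOf_pos x; omega⟩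
      obtain ⟨m, hm, hmain⟩ := _root_.Cfsg.Agent.H200.LinFix.unitary (g := x') (hirr.restrict hx.p1) β (fun v w => by
          rw [hβ, hβ, hx'a, hx'a, hcomm, hinv]) (fun v hv => by
          have h1 : (v : V) ∈ N := ⟨v.2, fun w hw => hv ⟨w, hw⟩⟩
          rw [hN, Submodule.mem_bot] at h1
          exact Subtype.ext h1) (l := l) (by
          refine LinearMap.ext fun w => Subtype.ext ?_
          rw [hpow, ← hl, pow_orderOf_eq_one, map_one]
          rfl) (by
          -- `x'² ≠ 1`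
          intro h2
          obtain ⟨-, -, w, hw, hne⟩ := h.le_R hinv hρ hd he huF (orderOf_pow_orderOf_div (orderOf_pos x).ne' hx.dvd)
            (hx.p1.pow _) (hx.p2.pow _) (hx.p0.pow _)
          apply hne
          set n := orderOf x / u with hn
          have h3 : (x' ^ n) ^ 2 = 1 := by rw [← pow_mul, mul_comm, pow_mul, h2, one_pow]
          have h4 : (x' ^ n) ^ u = 1 := by
            rw [← pow_mul, hn, Nat.div_mul_cancel hx.dvd]
            refine LinearMap.ext fun w => Subtype.ext ?_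
            rw [hpow, pow_orderOf_eq_one, map_one]
            rfl
          have h5 : x' ^ n = 1 := by
            have h6 := Nat.dvd_gcd (orderOf_dvd_of_pow_eq_one h3) (orderOf_dvd_of_pow_eq_one h4)
            rw [((Nat.coprime_primes Nat.prime_two hu.out).2 hu2.symm).gcd_eq_one, Nat.dvd_one,
              orderOf_eq_one_iff] at h6
            exact h6
          have h6 := hpow n ⟨w, hw⟩
          rw [h5] at h6
          exact h6.symm)
      rw [h.f1] at hm
      have hm' : e / 2 = m := by omega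
      have h2 := hmain x' rfl (fun v w => by rw [hβ, hβ, hx'a, hx'a, hcomm, hinv])
      obtain ⟨w, hw, hne⟩ := hx.ne
      apply hne
      have h3 := hpow (Nat.card F ^ m + 1) ⟨w, hw⟩
      rw [h2] at h3
      rw [hm']
      exact h3.symm
    · intro w' hw' w hw
      have h1 : w' ∈ N := by rw [hN]; exact hw'
      exact h1.2 w hw
  -- second claim
  have c2 : ∀ w ∈ W₁, ∀ v ∈ V₀, b (ρ g w) v = 0 := by
    let U : Submodule F V :=
      { carrier := {w | w ∈ W₁ ∧ ∀ v ∈ V₀, b (ρ g w) v = 0}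
        add_mem' := fun {v w} hv hw => ⟨W₁.add_mem hv.1 hw.1, fun d hd => by
          rw [map_add, map_add, LinearMap.add_apply, hv.2 d hd, hw.2 d hd, add_zero]⟩
        zero_mem' := ⟨W₁.zero_mem, fun d _ => by rw [map_zero, map_zero, LinearMap.zero_apply]⟩
        smul_mem' := fun c v hv => ⟨W₁.smul_mem c hv.1, fun d hd => by
          rw [map_smul, map_smul, LinearMap.smul_apply, hv.2 d hd, smul_zero]⟩ }
    rcases hirr U (fun w hw => hw.1) (by
      rintro w ⟨hw, hU⟩
      refine ⟨hx.p1 w hw, fun v hv => ?_⟩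
      have h1 := hinv x (ρ g w) (ρ x⁻¹ v)
      rw [apply_inv] at h1
      rw [hcomm, h1]
      exact hU _ (hx.p0.inv v hv)) with hU | hU
    · exfalso
      let β : W₁ →ₗ[F] (V₀ →ₗ[F] F) := LinearMap.mk₂ F (fun (w : W₁) (v : V₀) => b (ρ g w) v)
        (fun a c d => by simp only [_root_.Submodule.coe_add, _root_.map_add, _root_.LinearMap.add_apply]) (fun a c d => by simp only [_root_.SetLike.val_smul, _root_.map_smul, _root_.LinearMap.smul_apply, _root_.smul_eq_mul]) (fun a c d => by simp only [_root_.Submodule.coe_add, _root_.map_add]) (fun a c d => by simp only [_root_.SetLike.val_smul, _root_.map_smul, _root_.smul_eq_mul])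
      have hβ : Function.Injective β := by
        rw [← LinearMap.ker_eq_bot, LinearMap.ker_eq_bot']
        intro w hw
        have h1 : (w : V) ∈ U := ⟨w.2, fun v hv => by
          have h2 := LinearMap.congr_fun hw ⟨v, hv⟩
          exact h2⟩
        rw [hU, Submodule.mem_bot] at h1
        exact Subtype.ext h1
      have h1 := LinearMap.finrank_le_finrank_of_injective hβ
      have h2 : finrank F (V₀ →ₗ[F] F) = finrank F V₀ := Subspace.dual_finrank_eq
      rw [h.f1, h2] at h1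
      have := h.f0
      omega
    · intro w hw
      have h1 : w ∈ U := by rw [hU]; exact hw
      exact h1.2
  -- conclusion
  intro w hw
  obtain ⟨a, ha, c, hc, d, hd', hsum⟩ := h.sum (ρ g w)
  have hc0 : c = 0 := by
    refine h.eq_zero ?_ (h.b22 c hc) (h.b20 c hc)
    intro v hv
    have h1 := c1 v hv w hw
    rw [hsum, map_add, map_add, LinearMap.add_apply, LinearMap.add_apply, h.b11 a ha v hv, h.b01 d hd' v hv,
      zero_add, add_zero] at h1
    exact h1
  have hd0 : d = 0 := by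
    refine h.eq_zero (h.b01 d hd') (h.b02 d hd') ?_
    intro v hv
    have h1 := c2 w hw v hv
    rw [hsum, map_add, map_add, LinearMap.add_apply, LinearMap.add_apply, h.b10 a ha v hv, h.b20 c hc v hv,
      zero_add, zero_add] at h1
    exact h1
  rw [hsum, hc0, hd0, add_zero, add_zero]
  exact ha

/-- elements commuting with a good element preserve the three spaces -/
theorem Good.pres3 {u e : ℕ} [hu : Fact u.Prime] (hρ : Function.Injective ρ) (hd : Ordd u (Nat.card F) e)
    (he : 2 ≤ e) (hu2 : u ≠ 2) (huF : (u : F) ≠ 0) {W₁ W₂ V₀ : Submodule F V} (h : Split b W₁ W₂ V₀ e) {x : X}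
    (hx : Good ρ W₁ W₂ V₀ u (Nat.card F ^ (e / 2) + 1) x) {g : X} (hg : Commute g x) :
    Pres ρ W₁ g ∧ Pres ρ W₂ g ∧ Pres ρ V₀ g := by
  have h1 := hx.pres hinv hρ hd he hu2 huF h hg
  have h2 := (hx.swap hinv h).pres hinv hρ hd he hu2 huF h.swap hg
  refine ⟨h1, h2, fun w hw => ?_⟩
  obtain ⟨a, ha, c, hc, d, hd', hsum⟩ := h.sum (ρ g w)
  have key : ∀ v, b (ρ g w) v = b w (ρ g⁻¹ v) := by
    intro v
    have h3 := hinv g w (ρ g⁻¹ v)
    rwa [apply_inv] at h3
  have hc0 : c = 0 := by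
    refine h.eq_zero ?_ (h.b22 c hc) (h.b20 c hc)
    intro v hv
    have h4 := key v
    rw [h.b01 w hw _ (h1.inv v hv), hsum, map_add, map_add, LinearMap.add_apply, LinearMap.add_apply, h.b11 a ha v hv,
      h.b01 d hd' v hv, zero_add, add_zero] at h4
    exact h4
  have ha0 : a = 0 := by
    refine h.eq_zero (h.b11 a ha) ?_ (h.b10 a ha)
    intro v hv
    have h4 := key v
    rw [h.b02 w hw _ (h2.inv v hv), hsum, map_add, map_add, LinearMap.add_apply, LinearMap.add_apply, h.b22 c hc v hv,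
      h.b02 d hd' v hv, add_zero, add_zero] at h4
    exact h4
  rw [hsum, hc0, ha0, add_zero, zero_add]
  exact hd'

omit hinv in
/-- commuting on a space of dimension at most one -/
theorem comm_of_le_one {V₀ : Submodule F V} (h0 : finrank F V₀ ≤ 1) {g k : X} (hg : Pres ρ V₀ g) (hk : Pres ρ V₀ k)
    {v : V} (hv : v ∈ V₀) : ρ g (ρ k v) = ρ k (ρ g v) := by
  obtain ⟨v₀, hv₀⟩ := finrank_le_one_iff.1 h0
  have h1 : ∀ w ∈ V₀, ∃ c : F, c • (v₀ : V) = w := fun w hw => by
    obtain ⟨c, hc⟩ := hv₀ ⟨w, hw⟩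
    exact ⟨c, congrArg Subtype.val hc⟩
  obtain ⟨c, rfl⟩ := h1 v hv
  obtain ⟨a, ha⟩ := h1 _ (hg v₀ v₀.2)
  obtain ⟨a', ha'⟩ := h1 _ (hk v₀ v₀.2)
  rw [map_smul, map_smul, map_smul, map_smul, ← ha, ← ha', map_smul, map_smul, ← ha, ← ha', smul_smul, smul_smul,
    smul_smul, smul_smul]
  congr 1
  ring

/-- **The centraliser of a good element is abelian.** -/
theorem Good.comm {u e : ℕ} [hu : Fact u.Prime] (hρ : Function.Injective ρ) (hd : Ordd u (Nat.card F) e)
    (he : 2 ≤ e) (hu2 : u ≠ 2) (huF : (u : F) ≠ 0) {W₁ W₂ V₀ : Submodule F V} (h : Split b W₁ W₂ V₀ e) {x : X}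
    (hx : Good ρ W₁ W₂ V₀ u (Nat.card F ^ (e / 2) + 1) x) {g k : X} (hg : Commute g x) (hk : Commute k x) :
    Commute g k := by
  obtain ⟨g1, g2, g0⟩ := hx.pres3 hinv hρ hd he hu2 huF h hg
  obtain ⟨k1, k2, k0⟩ := hx.pres3 hinv hρ hd he hu2 huF h hk
  have hi1 := hx.irr hinv hρ hd he huF h
  have hi2 := (hx.swap hinv h).irr hinv hρ hd he huF h.swap
  have hc : ∀ {a : X}, Commute a x → ∀ v, ρ a (ρ x v) = ρ x (ρ a v) := by
    intro a ha v
    rw [← Module.End.mul_apply, ← Module.End.mul_apply, ← map_mul, ← map_mul, ha.eq]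
  have h1 : ∀ w ∈ W₁, ρ g (ρ k w) = ρ k (ρ g w) := fun w hw =>
    schur hi1 hx.p1 g1 k1 (fun v _ => hc hg v) (fun v _ => hc hk v) hw
  have h2 : ∀ w ∈ W₂, ρ g (ρ k w) = ρ k (ρ g w) := fun w hw =>
    schur hi2 hx.p2 g2 k2 (fun v _ => hc hg v) (fun v _ => hc hk v) hw
  apply hρ
  refine LinearMap.ext fun v => ?_
  obtain ⟨w₁, hw1, w₂, hw2, w₀, hw0, rfl⟩ := h.sum v
  rw [map_mul, map_mul, Module.End.mul_apply, Module.End.mul_apply]
  simp only [map_add]
  rw [h1 _ hw1, h2 _ hw2, comm_of_le_one h.f0 g0 k0 hw0]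

omit hinv in
/-- the regular elements of a group with a central element of order `u` -/
theorem card_reg_mul_le {C : Type*} [Group C] [Finite C] {u : ℕ} [hu : Fact u.Prime] {s : C} (hs : orderOf s = u)
    (hc : ∀ y, Commute y s) : Nat.card {y : C // ¬ u ∣ orderOf y} * u ≤ Nat.card C := by
  have hsu : s ^ u = 1 := by rw [← hs]; exact pow_orderOf_eq_one s
  have h4 : Nat.card ({y : C // ¬ u ∣ orderOf y} × Fin u) = Nat.card {y : C // ¬ u ∣ orderOf y} * u := by
    rw [Nat.card_prod, Nat.card_eq_fintype_card (α := Fin u), Fintype.card_fin]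
  rw [← h4]
  refine Nat.card_le_card_of_injective (fun a : {y : C // ¬ u ∣ orderOf y} × Fin u => a.1.1 * s ^ (a.2 : ℕ)) ?_
  rintro ⟨⟨y, hy⟩, j⟩ ⟨⟨y', hy'⟩, j'⟩ h
  have h5 : y * s ^ (j : ℕ) = y' * s ^ (j' : ℕ) := h
  have h6 : y' = y * s ^ ((j : ℤ) - j') := by
    rw [zpow_sub, zpow_natCast, zpow_natCast, ← mul_assoc, h5]; group
  have h7 : s ^ ((j : ℤ) - j') = 1 := by
    by_contra h8
    have h9 : orderOf (s ^ ((j : ℤ) - j')) = u :=
      orderOf_eq_prime (by rw [← zpow_natCast, ← zpow_mul, mul_comm, zpow_mul, zpow_natCast, hsu, one_zpow]) h8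
    apply hy'
    rw [h6, ((hc y).zpow_right _).orderOf_mul_eq_mul_orderOf_of_coprime (by
      rw [h9]
      exact ((Nat.Prime.coprime_iff_not_dvd hu.out).2 hy).symm), h9]
    exact dvd_mul_left _ _
  have h8 : y' = y := by rw [h6, h7, mul_one]
  have h9 : (j : ℤ) - j' = 0 := by
    have h10 := orderOf_dvd_iff_zpow_eq_one.2 h7
    rw [hs] at h10
    have h11 : |(j : ℤ) - j'| < u := by
      rw [abs_lt]
      have := j.2
      have := j'.2
      constructor <;> omega
    exact Int.eq_zero_of_abs_lt_dvd h10 h11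
  have h10 : j = j' := Fin.ext (by omega)
  subst h8 h10
  rfl

/-- the type of a power of a good element -/
theorem Good.hasType {u e k : ℕ} [hu : Fact u.Prime] (hρ : Function.Injective ρ) (hd : Ordd u (Nat.card F) e)
    (he : 2 ≤ e) (huF : (u : F) ≠ 0) (hdim : finrank F V ≤ 2 * e + 1) {W₁ W₂ V₀ : Submodule F V}
    (h : Split b W₁ W₂ V₀ e) {x : X} (hx : Good ρ W₁ W₂ V₀ u k x) : HasType ρ u (2 * e) x := by
  refine ⟨hx.dvd, ?_⟩
  set z := x ^ (orderOf x / u) with hz
  have hzu : orderOf z = u := orderOf_pow_orderOf_div (orderOf_pos x).ne' hx.dvd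
  have h1 := (h.le_R hinv hρ hd he huF hzu (hx.p1.pow _) (hx.p2.pow _) (hx.p0.pow _)).1
  have h2 := (h.swap.le_R hinv hρ hd he huF hzu (hx.p2.pow _) (hx.p1.pow _) (hx.p0.pow _)).1
  have h3 : W₁ ⊓ W₂ = ⊥ := by
    rw [eq_bot_iff]
    rintro w ⟨hw1, hw2⟩
    rw [Submodule.mem_bot]
    exact h.eq_zero (h.b11 w hw1) (h.b22 w hw2) (h.b10 w hw1)
  have h4 := Submodule.finrank_sup_add_finrank_inf_eq W₁ W₂
  rw [h3, finrank_bot, add_zero, h.f1, h.f2] at h4
  have h5 : finrank F (W₁ ⊔ W₂ : Submodule F V) ≤ finrank F (R (ρ z)) := Submodule.finrank_mono (sup_le h1 h2)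
  have hzp : (ρ z) ^ u = 1 := by rw [← map_pow, ← hzu, pow_orderOf_eq_one, map_one]
  obtain ⟨c, hc⟩ := dvd_finrank_R hd huF hzp
  have h6 : finrank F (R (ρ z)) ≤ finrank F V := Submodule.finrank_le _
  have h7 : c < 3 := by
    by_contra h8
    have : e * 3 ≤ e * c := Nat.mul_le_mul_left _ (by omega)
    omega
  have h8 : 2 ≤ c := by
    by_contra h8
    have : e * c ≤ e * 1 := Nat.mul_le_mul_left _ (by omega)
    omega
  obtain rfl : c = 2 := by omega
  rw [hc]; ring

/-- the number of elements of the abelian group `C(d)` conjugate to a given element -/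
theorem Good.card_conj_le {u e : ℕ} [hu : Fact u.Prime] (hρ : Function.Injective ρ) (hd : Ordd u (Nat.card F) e)
    (he : 2 ≤ e) (hu2 : u ≠ 2) (huF : (u : F) ≠ 0) {W₁ W₂ V₀ : Submodule F V} (h : Split b W₁ W₂ V₀ e) {x : X}
    (hx : Good ρ W₁ W₂ V₀ u (Nat.card F ^ (e / 2) + 1) x) (y : X) (E : X → Prop) (hE : ∀ z, E z → Commute z x) :
    Nat.card {z : X // E z ∧ IsConj z y} ≤ 2 * finrank F V := by
  classical
  have := Fintype.ofFinite X
  rw [Nat.card_eq_fintype_card, Fintype.card_subtype]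
  have hc : ∀ {a : X}, Commute a x → ∀ v, ρ a (ρ x v) = ρ x (ρ a v) := by
    intro a ha v
    rw [← Module.End.mul_apply, ← Module.End.mul_apply, ← map_mul, ← map_mul, ha.eq]
  refine (card_le_natDegree (g := ρ x) (W := W₁) hx.p1 (hx.irr hinv hρ hd he huF h) ?_
    (f := (ρ y).charpoly) ((ρ y).charpoly_monic).ne_zero _ (fun z => ρ z) (k := 2) ?_ ?_ ?_ ?_).trans ?_
  · intro h1
    have h2 := h.f1
    rw [h1, finrank_bot] at h2
    omega
  · intro z hz
    exact (hx.pres3 hinv hρ hd he hu2 huF h (hE z (Finset.mem_filter.1 hz).2.1)).1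
  · intro z hz w _
    exact hc (hE z (Finset.mem_filter.1 hz).2.1) w
  · intro z hz w _
    obtain ⟨g, rfl⟩ := isConj_iff.1 (Finset.mem_filter.1 hz).2.2.symm
    rw [aeval_conj, LinearMap.aeval_self_charpoly, mul_zero, zero_mul]
    rfl
  · intro z hz Y hY hYz
    have hzc := hE z (Finset.mem_filter.1 hz).2.1
    obtain ⟨z1, z2, z0⟩ := hx.pres3 hinv hρ hd he hu2 huF h hzc
    -- the elements of `Y` agree with `z` on `W₁`, `W₂`
    have hY2 : ∀ a ∈ Y, ∀ w ∈ W₂, ρ a w = ρ z w := by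
      intro a ha w hw
      have hac := hE a (Finset.mem_filter.1 (hY ha)).2.1
      obtain ⟨a1, a2, a0⟩ := hx.pres3 hinv hρ hd he hu2 huF h hac
      have h1 := h.dual hinv (x := z⁻¹ * a) (z2.inv.mul a2) (fun w hw => by
        rw [map_mul, Module.End.mul_apply, hYz a ha w hw, inv_apply]) w hw
      rw [map_mul, Module.End.mul_apply] at h1
      have h2 := congrArg (ρ z) h1
      rwa [apply_inv] at h2
    have hY0 : ∀ a ∈ Y, ∀ a' ∈ Y, (∀ w ∈ V₀, ρ a w = ρ a' w) → a = a' := by
      intro a ha a' ha' h0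
      apply hρ
      refine LinearMap.ext fun v => ?_
      obtain ⟨w₁, hw1, w₂, hw2, w₀, hw0, rfl⟩ := h.sum v
      rw [map_add, map_add, map_add, map_add, hYz a ha _ hw1, hYz a' ha' _ hw1, hY2 a ha _ hw2, hY2 a' ha' _ hw2,
        h0 _ hw0]
    obtain ⟨v₀, hv₀⟩ := finrank_le_one_iff.1 h.f0
    have h1 : ∀ w ∈ V₀, ∃ c : F, w = c • (v₀ : V) := fun w hw => by
      obtain ⟨c, hc⟩ := hv₀ ⟨w, hw⟩
      exact ⟨c, (congrArg Subtype.val hc).symm⟩
    by_cases hv0 : (v₀ : V) = 0
    · refine (Finset.card_le_one.2 fun a ha a' ha' => hY0 a ha a' ha' fun w hw => ?_).trans (by norm_num)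
      obtain ⟨c, rfl⟩ := h1 w hw
      rw [hv0, smul_zero, map_zero, map_zero]
    · have hb0 : b v₀ v₀ ≠ 0 := by
        intro hb0
        apply hv0
        refine h.eq_zero (h.b01 _ v₀.2) (h.b02 _ v₀.2) fun w hw => ?_
        obtain ⟨c, rfl⟩ := h1 w hw
        rw [map_smul, hb0, smul_zero]
      have h2 : ∀ a ∈ Y, ∃ c : F, ρ a v₀ = c • (v₀ : V) ∧ (c = 1 ∨ c = -1) := by
        intro a ha
        have hac := hE a (Finset.mem_filter.1 (hY ha)).2.1
        obtain ⟨a1, a2, a0⟩ := hx.pres3 hinv hρ hd he hu2 huF h hac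
        obtain ⟨c, hcv⟩ := h1 _ (a0 v₀ v₀.2)
        refine ⟨c, hcv, ?_⟩
        have h3 := hinv a v₀ v₀
        rw [hcv] at h3
        simp only [map_smul, LinearMap.smul_apply, smul_eq_mul] at h3
        rw [← mul_assoc] at h3
        have h4 : c * c = 1 := mul_right_cancel₀ hb0 (by rw [h3, one_mul])
        exact mul_self_eq_one_iff.1 h4
      choose! c hc1 hc2 using h2
      have h3 : Y.card ≤ ({1, -1} : Finset F).card := by
        refine Finset.card_le_card_of_injOn c (fun a ha => ?_) (fun a ha a' ha' haa => ?_)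
        · have := hc2 a ha
          simp only [Finset.coe_insert, Finset.coe_singleton, Set.mem_insert_iff, Set.mem_singleton_iff]
          exact this
        · refine hY0 a ha a' ha' fun w hw => ?_
          obtain ⟨t, rfl⟩ := h1 w hw
          rw [map_smul, map_smul, hc1 a ha, hc1 a' ha', haa]
      exact h3.trans (Finset.card_le_two)
  · rw [LinearMap.charpoly_natDegree]

/-- **Elements with a power of type two.** -/
theorem type_two {u e : ℕ} [hu : Fact u.Prime] (hρ : Function.Injective ρ) (hd : Ordd u (Nat.card F) e)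
    (he : 2 ≤ e) (h5 : 5 ≤ u) (huF : (u : F) ≠ 0) (hdim : finrank F V ≤ 2 * e + 1) {W₁ W₂ V₀ : Submodule F V}
    (h : Split b W₁ W₂ V₀ e) {d : X} (hdg : Good ρ W₁ W₂ V₀ u (Nat.card F ^ (e / 2) + 1) d) :
    3 * Nat.card X ≤ 20 * (finrank F V * Nat.card {y : X // HasType ρ u (2 * e) y}) := by
  classical
  have := Fintype.ofFinite X
  have hu2 : u ≠ 2 := by omega
  set k := Nat.card F ^ (e / 2) + 1 with hk
  set! C := centralizer ({d} : Set X) with hC
  have hCm : ∀ {x : X}, x ∈ C ↔ Commute x d := fun {x} => by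
    rw [hC, mem_centralizer_singleton_iff]
    rfl
  have hCc : ∀ {x y : X}, x ∈ C → y ∈ C → Commute x y := fun hx hy =>
    hdg.comm hinv hρ hd he hu2 huF h (hCm.1 hx) (hCm.1 hy)
  let E : X → Prop := fun x => x ∈ C ∧ u ∣ orderOf x ∧ ∃ w ∈ W₁, ρ (x ^ k) w ≠ w
  have hEg : ∀ x, E x → Good ρ W₁ W₂ V₀ u k x := by
    rintro x ⟨hx, h1, h2⟩
    obtain ⟨x1, x2, x0⟩ := hdg.pres3 hinv hρ hd he hu2 huF h (hCm.1 hx)
    exact ⟨x1, x2, x0, h1, h2⟩
  have hEc : ∀ x, E x → Nat.card (centralizer ({x} : Set X)) = Nat.card C := by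
    intro x hx
    have h1 : centralizer ({x} : Set X) = C := by
      apply le_antisymm
      · intro g hg
        have hg' : Commute g x := mem_centralizer_singleton_iff.1 hg
        exact hCm.2 ((hEg x hx).comm hinv hρ hd he hu2 huF h hg' (hCm.1 hx.1).symm)
      · intro g hg
        exact mem_centralizer_singleton_iff.2 (hCc hg hx.1).eq
    rw [h1]
  have h1 := double_count' E hEc (fun y => HasType ρ u (2 * e) y) (M := 2 * finrank F V) (by
      intro x y hx hxy
      obtain ⟨g, rfl⟩ := isConj_iff.1 hxy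
      exact ((hEg x hx).hasType hinv hρ hd he huF hdim h).conj ρ g)
    (fun y _ => hdg.card_conj_le hinv hρ hd he hu2 huF h y E (fun z hz => hCm.1 hz.1))
  -- the number of good elements
  have hdC : d ∈ C := hCm.2 (Commute.refl d)
  have hreg : Nat.card {y : C // ¬ u ∣ orderOf y} * u ≤ Nat.card C := by
    refine card_reg_mul_le (s := (⟨d ^ (orderOf d / u), pow_mem hdC _⟩ : C)) ?_ fun y => ?_
    · rw [Subgroup.orderOf_mk]
      exact orderOf_pow_orderOf_div (orderOf_pos d).ne' hdg.dvd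
    · exact Subtype.ext (hCc y.2 (pow_mem hdC _)).eq
  have hbad : 2 * Nat.card {y : C // ∀ w ∈ W₁, ρ ((y : X) ^ k) w = w} ≤ Nat.card C := by
    let B : Subgroup C :=
      { carrier := {y | ∀ w ∈ W₁, ρ ((y : X) ^ k) w = w}
        mul_mem' := fun {a c} ha hc w hw => by
          rw [Subgroup.coe_mul, (hCc a.2 c.2).mul_pow, map_mul, Module.End.mul_apply, hc w hw, ha w hw]
        one_mem' := fun w _ => by rw [Subgroup.coe_one, one_pow, map_one]; rfl
        inv_mem' := fun {a} ha w hw => by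
          have h2 := ha w hw
          have h3 := congrArg (ρ ((a : X) ^ k)⁻¹) h2
          rw [inv_apply] at h3
          rw [Subgroup.coe_inv, inv_pow]
          exact h3.symm }
    have hB : B.index ≠ 1 := by
      intro hB
      rw [Subgroup.index_eq_one] at hB
      obtain ⟨w, hw, hne⟩ := hdg.ne
      have h2 : (⟨d, hdC⟩ : C) ∈ B := by rw [hB]; exact mem_top _
      exact hne (h2 w hw)
    have hB0 : B.index ≠ 0 := Subgroup.index_ne_zero_of_finite
    have hB1 := B.card_mul_index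
    have hB2 : Nat.card B = Nat.card {y : C // ∀ w ∈ W₁, ρ ((y : X) ^ k) w = w} := rfl
    rw [← hB2]
    calc 2 * Nat.card B = Nat.card B * 2 := mul_comm _ _
      _ ≤ Nat.card B * B.index := Nat.mul_le_mul_left _ (by omega)
      _ = Nat.card C := hB1
  have hcov : Nat.card C ≤ Nat.card {x : X // E x} + (Nat.card {y : C // ¬ u ∣ orderOf y} +
      Nat.card {y : C // ∀ w ∈ W₁, ρ ((y : X) ^ k) w = w}) := by
    rw [← Nat.card_sum, ← Nat.card_sum]
    refine Nat.card_le_card_of_injective (fun y : C =>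
      if h1 : u ∣ orderOf y then
        if h2 : ∀ w ∈ W₁, ρ ((y : X) ^ k) w = w then Sum.inr (Sum.inr ⟨y, h2⟩)
        else Sum.inl ⟨y.1, y.2, by rw [Subgroup.orderOf_coe]; exact h1, by push Not at h2; exact h2⟩
      else Sum.inr (Sum.inl ⟨y, h1⟩)) ?_
    intro y y' hyy
    dsimp only at hyy
    split_ifs at hyy
    all_goals first
      | exact Subtype.mk.inj (Sum.inr.inj (Sum.inr.inj hyy))
      | exact Subtype.ext (Subtype.mk.inj (Sum.inl.inj hyy))
      | exact Subtype.mk.inj (Sum.inl.inj (Sum.inr.inj hyy))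
      | cases (Sum.inr.inj hyy)
  have hreg' : Nat.card {y : C // ¬ u ∣ orderOf y} * 5 ≤ Nat.card {y : C // ¬ u ∣ orderOf y} * u :=
    Nat.mul_le_mul_left _ h5
  have hE3 : 3 * Nat.card C ≤ 10 * Nat.card {x : X // E x} := by omega
  have h4 : Nat.card C ≠ 0 := Nat.card_pos.ne'
  have h6 : Nat.card C * (3 * Nat.card X) ≤
      Nat.card C * (20 * (finrank F V * Nat.card {y : X // HasType ρ u (2 * e) y})) := by
    calc Nat.card C * (3 * Nat.card X) = (3 * Nat.card C) * Nat.card X := by ring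
      _ ≤ (10 * Nat.card {x : X // E x}) * Nat.card X := Nat.mul_le_mul_right _ hE3
      _ = 10 * (Nat.card X * Nat.card {x : X // E x}) := by ring
      _ ≤ 10 * (Nat.card C * (2 * finrank F V * Nat.card {y : X // HasType ρ u (2 * e) y})) := Nat.mul_le_mul_left _ h1
      _ = _ := by ring
  exact Nat.le_of_mul_le_mul_left h6 (Nat.pos_of_ne_zero h4)

end

end Cfsg.Agent.H951.Two
end

-- part: H951/Two/Asm
section
/-!
# From the two types of elements to `nd` (helper951, S5734)

`assemble`: `T = X / Z`, `X` a linear group over `F`, `Z` scalar, `R ≤ T` with cyclic Sylow `u`-subgroups: the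
elements with a power of order `u` of one of the two types have no conjugate in `R`.
-/

set_option autoImplicit false

namespace Cfsg.Agent.H951.Two

open Module Subgroup Cfsg.Agent.H200.LinFix Cfsg.Agent.H264.FKS Cfsg.Agent.H436

section

variable {F : Type*} [Field F] [Finite F] {ι : Type*} [Fintype ι] [DecidableEq ι] {X T : Type*} [Group X] [Finite X]
  [Group T]

/-- two elements of order `r` of the preimage of a group with cyclic Sylow `r`-subgroups have fixed spaces of the same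
dimension -/
theorem finrank_K_eq (σ : X →* Matrix.GeneralLinearGroup ι F) (hσ : Function.Injective σ) (π : X →* T)
    (hπ : Function.Surjective π) (hker : ∀ k : X, π k = 1 → ∃ a : F, (σ k : Matrix ι ι F) = a • 1) {r e : ℕ}
    (hr : Prim (Nat.card F) e r) (he : 2 ≤ e) {y₁ y₂ : X} (h1 : orderOf y₁ = r) (h2 : orderOf y₂ = r)
    (R : Subgroup T) (hR : Cyc r R) (hy₁ : π y₁ ∈ R) (hy₂ : π y₂ ∈ R) :
    finrank F (K (lin σ y₁)) = finrank F (K (lin σ y₂)) := by
  have : Fact r.Prime := ⟨hr.prime⟩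
  have : Finite T := Finite.of_surjective π hπ
  -- kernel elements of order dividing `r`
  have hk1 : ∀ k : X, π k = 1 → k ^ r = 1 → k = 1 := fun k hk hkr => by
    obtain ⟨a, ha⟩ := hker k hk
    apply hσ
    apply Units.ext
    rw [map_one, ha]
    rcases isEmpty_or_nonempty ι with hι | ⟨⟨i⟩⟩
    · ext i; exact (hι.false i).elim
    · have h3 : (a • (1 : Matrix ι ι F)) ^ r = 1 := by
        rw [← ha, ← Units.val_pow_eq_pow_val, ← map_pow, hkr, map_one, Units.val_one]
      rw [smul_pow, one_pow] at h3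
      have h4 := congrFun (congrFun h3 i) i
      rw [Matrix.smul_apply, Matrix.one_apply_eq, smul_eq_mul, mul_one] at h4
      rw [scalar_eq_one hr he h4, one_smul, Units.val_one]
  have hord : ∀ {y : X}, orderOf y = r → orderOf (π y) = r := fun {y} hy => by
    refine orderOf_eq_prime ?_ ?_
    · rw [← map_pow, ← hy, pow_orderOf_eq_one, map_one]
    · intro h
      have := hk1 y h (by rw [← hy]; exact pow_orderOf_eq_one y)
      rw [this, orderOf_one] at hy
      exact hr.prime.one_lt.ne hy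
  obtain ⟨c, j, hc⟩ := hR.exists_conj (a := (⟨π y₁, hy₁⟩ : R)) (b := (⟨π y₂, hy₂⟩ : R))
    (by rw [Subgroup.orderOf_mk, hord h1]) (by rw [Subgroup.orderOf_mk, hord h2])
  have hc' : π y₂ = (c : T) * (π y₁) ^ j * (c : T)⁻¹ := congrArg Subtype.val hc
  obtain ⟨h, hh⟩ := hπ (c : T)
  have h3 : π y₂ = π (h * y₁ ^ j * h⁻¹) := by
    rw [map_mul, map_mul, map_inv, map_zpow, hh]
    exact hc'
  -- the difference is a scalar
  set y := h * y₁ ^ j * h⁻¹ with hy
  have h4 : π (y₂ * y⁻¹) = 1 := by rw [map_mul, map_inv, ← h3, mul_inv_cancel]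
  have hyr : y ^ r = 1 := by
    rw [hy, conj_pow, ← zpow_natCast, ← zpow_mul, mul_comm, zpow_mul, zpow_natCast, ← h1, pow_orderOf_eq_one, one_zpow,
      mul_one, mul_inv_cancel]
  have h5 : y₂ * y⁻¹ = 1 := by
    refine hk1 _ h4 ?_
    obtain ⟨a, ha⟩ := hker _ h4
    have hcomm : Commute (y₂ * y⁻¹) y := by
      have h6 : σ (y₂ * y⁻¹) * σ y = σ y * σ (y₂ * y⁻¹) := by
        apply Units.ext
        rw [Units.val_mul, Units.val_mul, ha, smul_mul_assoc, one_mul, mul_smul_comm, mul_one]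
      rw [← map_mul, ← map_mul] at h6
      exact hσ h6
    have h7 : (y₂ * y⁻¹ * y) ^ r = 1 := by
      rw [inv_mul_cancel_right, ← h2, pow_orderOf_eq_one]
    rw [hcomm.mul_pow, hyr, mul_one] at h7
    exact h7
  have h6 : y₂ = y := mul_inv_eq_one.1 h5
  rw [h6, hy, finrank_K_conj]
  have h7 : orderOf (y₁ ^ j) = r := by
    have h8 : orderOf y = r := by rw [← h6, h2]
    rw [← h8, hy]
    exact (orderOf_injective (MulAut.conj h).toMonoidHom (MulAut.conj h).injective (y₁ ^ j)).symm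
  have h8 : y₁ ∈ Subgroup.zpowers (y₁ ^ j) := by
    have h9 : Subgroup.zpowers (y₁ ^ j) = Subgroup.zpowers y₁ :=
      Subgroup.eq_of_le_of_card_ge (by rw [Subgroup.zpowers_le]; exact ⟨j, rfl⟩)
        (by rw [Nat.card_zpowers, Nat.card_zpowers, h7, h1])
    rw [h9]
    exact Subgroup.mem_zpowers y₁
  obtain ⟨i, hi⟩ := h8
  apply le_antisymm
  · exact Submodule.finrank_mono (K_zpow_le (lin σ) y₁ j)
  · have h9 : K (lin σ (y₁ ^ j)) ≤ K (lin σ y₁) := by
      have h10 := K_zpow_le (lin σ) (y₁ ^ j) i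
      rwa [show (y₁ ^ j) ^ i = y₁ from hi] at h10
    exact Submodule.finrank_mono h9

/-- the same for the commutator spaces -/
theorem finrank_R_eq (σ : X →* Matrix.GeneralLinearGroup ι F) (hσ : Function.Injective σ) (π : X →* T)
    (hπ : Function.Surjective π) (hker : ∀ k : X, π k = 1 → ∃ a : F, (σ k : Matrix ι ι F) = a • 1) {r e : ℕ}
    (hr : Prim (Nat.card F) e r) (he : 2 ≤ e) {y₁ y₂ : X} (h1 : orderOf y₁ = r) (h2 : orderOf y₂ = r)
    (R' : Subgroup T) (hR : Cyc r R') (hy₁ : π y₁ ∈ R') (hy₂ : π y₂ ∈ R') :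
    finrank F (R (lin σ y₁)) = finrank F (R (lin σ y₂)) := by
  have h3 := finrank_K_eq σ hσ π hπ hker hr he h1 h2 R' hR hy₁ hy₂
  have h4 := finrank_add (F := F) (lin σ y₁)
  have h5 := finrank_add (F := F) (lin σ y₂)
  omega

omit [Finite X] in
theorem card_preimage (π : X →* T) [Finite X] (hπ : Function.Surjective π) (P : T → Prop) :
    Nat.card {y : X // P (π y)} ≤ Nat.card π.ker * Nat.card {t : T // P t} := by
  have : Finite T := Finite.of_surjective π hπ
  rw [← Nat.card_prod]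
  refine Nat.card_le_card_of_injective (fun y : {y : X // P (π y)} =>
    ((⟨y.1 * (Function.surjInv hπ (π y.1))⁻¹, ?_⟩ : π.ker), (⟨π y.1, y.2⟩ : {t : T // P t}))) ?_
  · rw [MonoidHom.mem_ker, map_mul, map_inv, Function.surjInv_eq hπ, mul_inv_cancel]
  · intro a b hab
    rw [Prod.mk.injEq] at hab
    have h1 : π a.1 = π b.1 := congrArg Subtype.val hab.2
    have h2 : a.1 * (Function.surjInv hπ (π a.1))⁻¹ = b.1 * (Function.surjInv hπ (π b.1))⁻¹ :=
      congrArg Subtype.val hab.1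
    rw [h1] at h2
    exact Subtype.ext (mul_right_cancel h2)

/-- **Assembly.** -/
theorem assemble (σ : X →* Matrix.GeneralLinearGroup ι F) (hσ : Function.Injective σ) (π : X →* T)
    (hπ : Function.Surjective π) (hker : ∀ k : X, π k = 1 → ∃ a : F, (σ k : Matrix ι ι F) = a • 1) {r e : ℕ}
    (hr : Prim (Nat.card F) e r) (he : 2 ≤ e) {A : ℕ}
    (h1 : 3 * Nat.card X ≤ A * Nat.card {y : X // HasType (lin σ) r e y})
    (h2 : 3 * Nat.card X ≤ A * Nat.card {y : X // HasType (lin σ) r (2 * e) y})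
    (R' : Subgroup T) (hR : Cyc r R') : 3 * Nat.card T ≤ A * H851.Dg.nd R' := by
  have : Fact r.Prime := ⟨hr.prime⟩
  have : Finite T := Finite.of_surjective π hπ
  have hcard : Nat.card π.ker * Nat.card T = Nat.card X := by
    rw [← Nat.card_congr (QuotientGroup.quotientKerEquivOfSurjective π hπ).toEquiv]
    exact π.ker.card_mul_index
  -- the bound from a type without conjugates in `R'`
  have key : ∀ n, 3 * Nat.card X ≤ A * Nat.card {y : X // HasType (lin σ) r n y} →
      (∀ y : X, HasType (lin σ) r n y → ∀ g : T, g * π y * g⁻¹ ∉ R') → 3 * Nat.card T ≤ A * H851.Dg.nd R' := by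
    intro n hn hy
    have h3 : Nat.card {y : X // HasType (lin σ) r n y} ≤ Nat.card π.ker * H851.Dg.nd R' := by
      refine le_trans ?_ (card_preimage π hπ fun t => ∀ g : T, g * t * g⁻¹ ∉ R')
      exact Nat.card_le_card_of_injective (fun y : {y : X // HasType (lin σ) r n y} =>
        (⟨y.1, hy y.1 y.2⟩ : {y : X // ∀ g : T, g * π y * g⁻¹ ∉ R'})) fun a b hab =>
          Subtype.ext (Subtype.mk.inj hab)
    have h4 : Nat.card π.ker * (3 * Nat.card T) ≤ Nat.card π.ker * (A * H851.Dg.nd R') := by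
      calc Nat.card π.ker * (3 * Nat.card T) = 3 * Nat.card X := by rw [← hcard]; ring
        _ ≤ A * Nat.card {y : X // HasType (lin σ) r n y} := hn
        _ ≤ A * (Nat.card π.ker * H851.Dg.nd R') := Nat.mul_le_mul_left _ h3
        _ = Nat.card π.ker * (A * H851.Dg.nd R') := by ring
    exact Nat.le_of_mul_le_mul_left h4 Nat.card_pos
  by_cases hA : ∃ y : X, HasType (lin σ) r e y ∧ ∃ g : T, g * π y * g⁻¹ ∈ R'
  · obtain ⟨y₁, hy₁, g₁, hg₁⟩ := hA
    refine key (2 * e) h2 fun y₂ hy₂ g₂ hg₂ => ?_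
    -- powers of order `r`
    have hpow : ∀ {n : ℕ} {y : X} {g : T}, HasType (lin σ) r n y → g * π y * g⁻¹ ∈ R' →
        ∃ z : X, orderOf z = r ∧ π z ∈ R' ∧ finrank F (R (lin σ z)) = n := by
      intro n y g hy hg
      obtain ⟨h, rfl⟩ := hπ g
      refine ⟨h * y ^ (orderOf y / r) * h⁻¹, ?_, ?_, ?_⟩
      · rw [show orderOf (h * y ^ (orderOf y / r) * h⁻¹) = orderOf (y ^ (orderOf y / r)) from
          orderOf_injective (MulAut.conj h).toMonoidHom (MulAut.conj h).injective _]
        obtain ⟨k, hk⟩ := hy.1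
        have hk0 : 0 < k := by
          rcases Nat.eq_zero_or_pos k with h0 | h0
          · rw [h0, mul_zero] at hk
            exact absurd hk (orderOf_pos y).ne'
          · exact h0
        rw [hk, Nat.mul_div_cancel_left _ hr.prime.pos, orderOf_pow, hk, Nat.gcd_mul_left_left,
          Nat.mul_div_cancel _ hk0]
      · have h3 : π (h * y ^ (orderOf y / r) * h⁻¹) = (π h * π y * (π h)⁻¹) ^ (orderOf y / r) := by
          rw [map_mul, map_mul, map_pow, map_inv, conj_pow]
        rw [h3]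
        exact R'.pow_mem hg _
      · rw [finrank_R_conj]
        exact hy.2
    obtain ⟨z₁, hz₁, hzR₁, hf₁⟩ := hpow hy₁ hg₁
    obtain ⟨z₂, hz₂, hzR₂, hf₂⟩ := hpow hy₂ hg₂
    have h3 := finrank_R_eq σ hσ π hπ hker hr he hz₁ hz₂ R' hR hzR₁ hzR₂
    omega
  · push Not at hA
    exact key e h1 hA

end

end Cfsg.Agent.H951.Two
end

-- part: H951/Two/Gen
section
/-!
# The general bound for the groups with two types of elements of order `u` (helper951, S5734)

* `exists_type_one`: elements of order `u` whose commutator space has dimension `e`;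
* `two_of`: the bound for `nd R`;
* `exists_singer`, `exists_good`: the elements used for the second type.
-/

set_option autoImplicit false

namespace Cfsg.Agent.H951.Two

open Module Subgroup Cfsg.Agent.H200.LinFix Cfsg.Agent.H264.FKS Cfsg.Agent.H436

section

variable {F : Type*} [Field F] [Finite F] {ι : Type*} [Fintype ι] [DecidableEq ι] {X T : Type*} [Group X] [Finite X]
  [Group T]

/-- elements of order `r` of the first type -/
theorem exists_type_one (σ : X →* Matrix.GeneralLinearGroup ι F) (hσ : Function.Injective σ) {r e b : ℕ}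
    (hr : Prim (Nat.card F) e r) (he : 2 ≤ e) (hdim : Fintype.card ι ≤ 2 * e + 1)
    (hb : r ^ b ∣ Nat.card X) (hb' : ¬ r ^ b ∣ Nat.card F ^ (2 * e) - 1) :
    ∃ s : X, orderOf s = r ∧ finrank F (R (lin σ s)) = e := by
  have : Fact r.Prime := ⟨hr.prime⟩
  obtain ⟨y₁, y₂, h1, h2, hne⟩ := Two.exists_two (lin σ) (lin_injective hσ) (ordd_of_prim hr) (cast_ne_zero' hr)
    (by rw [Module.finrank_fintype_fun_eq_card]; omega) hb hb'
  have key : ∀ y : X, orderOf y = r → finrank F (R (lin σ y)) = e ∨ finrank F (R (lin σ y)) = 2 * e := by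
    intro y hy
    have h3 : lin σ y ^ r = 1 := by rw [← map_pow, ← hy, pow_orderOf_eq_one, map_one]
    have h4 : lin σ y ≠ 1 := fun h => by
      have : y = 1 := lin_injective hσ (h.trans (map_one _).symm)
      rw [this, orderOf_one] at hy
      exact hr.prime.one_lt.ne hy
    obtain ⟨c, hc⟩ := dvd_finrank_R (ordd_of_prim hr) (cast_ne_zero' hr) h3
    have h5 : finrank F (R (lin σ y)) ≤ finrank F (ι → F) := Submodule.finrank_le _
    rw [Module.finrank_fintype_fun_eq_card, hc] at h5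
    have hc0 : c ≠ 0 := by
      rintro rfl
      rw [mul_zero, Submodule.finrank_eq_zero] at hc
      exact R_ne_bot h4 hc
    have hc3 : c < 3 := by
      by_contra h
      have h2 : e * 3 ≤ e * c := Nat.mul_le_mul_left _ (by omega)
      omega
    rcases (show c = 1 ∨ c = 2 by omega) with rfl | rfl
    · left; omega
    · right; omega
  have h4 := finrank_add (F := F) (lin σ y₁)
  have h5 := finrank_add (F := F) (lin σ y₂)
  rcases key y₁ h1 with h | h
  · exact ⟨y₁, h1, h⟩
  · rcases key y₂ h2 with h' | h'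
    · exact ⟨y₂, h2, h'⟩
    · exact absurd (by omega) hne

/-- **The bound.** -/
theorem two_of (σ : X →* Matrix.GeneralLinearGroup ι F) (hσ : Function.Injective σ) (π : X →* T)
    (hπ : Function.Surjective π) (hker : ∀ k : X, π k = 1 → ∃ a : F, (σ k : Matrix ι ι F) = a • 1) {p r e b : ℕ}
    [Fact p.Prime] [CharP F p]
    (hr : Prim (Nat.card F) e r) (he : 2 ≤ e) (h5 : 5 ≤ r) (hdim : Fintype.card ι ≤ 2 * e + 1)
    (hb : r ^ b ∣ Nat.card X) (hb' : ¬ r ^ b ∣ Nat.card F ^ (2 * e) - 1)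
    (B : LinearMap.BilinForm F (ι → F)) (hinv : ∀ h v w, B (lin σ h v) (lin σ h w) = B v w)
    (hps : ∀ s : X, orderOf s = r → finrank F (R (lin σ s)) = e → p ∣ Nat.card (centralizer ({s} : Set X)))
    {W₁ W₂ V₀ : Submodule F (ι → F)} (hS : Split B W₁ W₂ V₀ e) {d : X}
    (hd : Good (lin σ) W₁ W₂ V₀ r (Nat.card F ^ (e / 2) + 1) d)
    (R' : Subgroup T) (hR : Cyc r R') : 3 * Nat.card T ≤ 20 * Fintype.card ι * H851.Dg.nd R' := by
  have : Fact r.Prime := ⟨hr.prime⟩
  obtain ⟨s, hs, hse⟩ := exists_type_one σ hσ hr he hdim hb hb'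
  have h1 := type_one (lin σ) (p := p) (ordd_of_prim hr) he h5 (cast_ne_zero' hr) (lin_injective hσ)
    (by rw [Module.finrank_fintype_fun_eq_card]; exact hdim) B hS.nd2 hinv hs hse (hps s hs hse)
  have h2 := type_two hinv (lin_injective hσ) (ordd_of_prim hr) he h5 (cast_ne_zero' hr)
    (by rw [Module.finrank_fintype_fun_eq_card]; exact hdim) hS hd
  rw [Module.finrank_fintype_fun_eq_card] at h1 h2
  refine assemble σ hσ π hπ hker hr he ?_ (by rw [mul_assoc]; exact h2) R' hR
  rw [mul_assoc]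
  omega

end

/-! ### Singer cycles -/

section

variable {F : Type} [Field F] [Fintype F]

open Matrix

theorem exists_singer (n : ℕ) (hn : n ≠ 0) :
    ∃ t : _root_.Matrix.SpecialLinearGroup (Fin n) F, orderOf t = (Fintype.card F ^ n - 1) / (Fintype.card F - 1) := by
  have : NeZero n := ⟨hn⟩
  have : Nonempty (Fin n) := ⟨⟨0, by omega⟩⟩
  obtain ⟨K, _, _, b, _, g, hK, hg⟩ := H93.PReg.Singer.exists_ext F n hn
  have hq : 2 ≤ Fintype.card F := Fintype.one_lt_card
  have hdet : (Algebra.leftMulMatrix b ((g : K) ^ (Fintype.card F - 1))).det = 1 := by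
    rw [← Algebra.norm_eq_matrix_det, map_pow]
    apply FiniteField.pow_card_sub_one_eq_one
    rw [Ne, Algebra.norm_eq_zero_iff]
    exact g.ne_zero
  obtain ⟨t, ht⟩ : ∃ t : _root_.Matrix.SpecialLinearGroup (Fin n) F,
      (t : Matrix (Fin n) (Fin n) F) = Algebra.leftMulMatrix b ((g : K) ^ (Fintype.card F - 1)) := ⟨⟨_, hdet⟩, rfl⟩
  refine ⟨t, ?_⟩
  have h1 : orderOf ((g : K) ^ (Fintype.card F - 1)) = (Fintype.card F ^ n - 1) / (Fintype.card F - 1) := by
    rw [← Units.val_pow_eq_pow_val, orderOf_units, orderOf_pow_of_dvd (by omega) ?_, hg]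
    rw [hg]
    simpa only [_root_.one_pow] using Nat.sub_dvd_pow_sub_pow (Fintype.card F) 1 n
  rw [← h1]
  rw [orderOf_eq_orderOf_iff]
  intro k
  have h2 : ∀ t : _root_.Matrix.SpecialLinearGroup (Fin n) F, t = 1 ↔ (t : Matrix (Fin n) (Fin n) F) = 1 := fun t =>
    ⟨fun h => by rw [h]; rfl, fun h => Subtype.ext h⟩
  have h3 : ((t ^ k : _root_.Matrix.SpecialLinearGroup (Fin n) F) : Matrix (Fin n) (Fin n) F) =
      (t : Matrix (Fin n) (Fin n) F) ^ k := Matrix.SpecialLinearGroup.coe_pow t k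
  refine (h2 _).trans ?_
  rw [ht] at h3
  refine (Eq.congr_left (h3.trans (map_pow _ _ _).symm)).trans ?_
  constructor
  · intro h
    exact Algebra.leftMulMatrix_injective b (h.trans (map_one _).symm)
  · intro h
    rw [h, map_one]

/-- the element for the second type, in `SL_m` -/
theorem exists_singer' {m r : ℕ} (hm : 4 ≤ m) (he : m % 2 = 0) (hr : Prim (Nat.card F) m r) :
    ∃ t : _root_.Matrix.SpecialLinearGroup (Fin m) F, r ∣ orderOf t ∧
      ∃ w : Fin m → F, ((t ^ (Nat.card F ^ (m / 2) + 1) : _root_.Matrix.SpecialLinearGroup (Fin m) F) : Matrix (Fin m) (Fin m) F) *ᵥ w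
        ≠ w := by
  obtain ⟨t, ht⟩ := exists_singer (F := F) m (by omega)
  have hq : 2 ≤ Nat.card F := Finite.one_lt_card
  rw [← Nat.card_eq_fintype_card] at ht
  set q := Nat.card F with hqd
  have hmul : (q - 1) * orderOf t = q ^ m - 1 := by
    rw [ht]
    exact Nat.mul_div_cancel' (by simpa only [_root_.one_pow] using Nat.sub_dvd_pow_sub_pow q 1 m)
  refine ⟨t, ?_, ?_⟩
  · have h1 : r ∣ (q - 1) * orderOf t := by
      rw [hmul]
      exact (hr.dvd_iff m).2 dvd_rfl
    rcases hr.prime.dvd_mul.1 h1 with h2 | h2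
    · exfalso
      rw [← pow_one q, hr.dvd_iff] at h2
      have := Nat.le_of_dvd one_pos h2
      omega
    · exact h2
  · by_contra hcon
    push Not at hcon
    have h1 : t ^ (q ^ (m / 2) + 1) = 1 := by
      apply Subtype.ext
      apply Matrix.mulVec_injective
      funext w
      rw [hcon w]
      exact (one_mulVec w).symm
    have h2 := orderOf_dvd_of_pow_eq_one h1
    have h3 := Nat.le_of_dvd (by omega) h2
    obtain ⟨k, hk⟩ : ∃ k, m = 2 * k := ⟨m / 2, by omega⟩
    rw [show m / 2 = k by omega] at h3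
    have h4 : q ^ m - 1 = (q ^ k - 1) * (q ^ k + 1) := by
      rw [hk, mul_comm 2 k, pow_mul]
      have := Nat.sq_sub_sq (q ^ k) 1
      rw [one_pow] at this
      rw [this, mul_comm]
    rw [h4] at hmul
    have h5 : (q ^ k - 1) * (q ^ k + 1) ≤ (q - 1) * (q ^ k + 1) := by
      rw [← hmul]
      exact Nat.mul_le_mul_left _ h3
    have h6 := Nat.le_of_mul_le_mul_right h5 (by omega)
    have h7 : q ^ 2 ≤ q ^ k := Nat.pow_le_pow_right (by omega) (by omega)
    have h8 : q * 2 ≤ q ^ 2 := by rw [sq]; exact Nat.mul_le_mul_left _ hq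
    omega

/-- the element for the second type -/
theorem exists_good {V : Type*} [AddCommGroup V] [Module F V] {X : Type*} [Group X] (ρ : X →* Module.End F V)
    {m r : ℕ} (hm : 4 ≤ m) (he : m % 2 = 0) (hr : Prim (Nat.card F) m r)
    (J : _root_.Matrix.SpecialLinearGroup (Fin m) F →* X) (hJ : Function.Injective J) (L₁ : (Fin m → F) →ₗ[F] V)
    (hL₁ : Function.Injective L₁) (h1 : ∀ A x, ρ (J A) (L₁ x) = L₁ ((A : Matrix (Fin m) (Fin m) F) *ᵥ x)) {W₂ V₀ : Submodule F V}
    (h2 : ∀ A, Pres ρ W₂ (J A)) (h0 : ∀ A, Pres ρ V₀ (J A)) :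
    ∃ d : X, Good ρ (LinearMap.range L₁) W₂ V₀ r (Nat.card F ^ (m / 2) + 1) d := by
  obtain ⟨t, ht, w, hw⟩ := exists_singer' hm he hr
  refine ⟨J t, ?_, h2 t, h0 t, ?_, L₁ w, ⟨w, rfl⟩, ?_⟩
  · rintro _ ⟨x, rfl⟩
    rw [h1]
    exact ⟨_, rfl⟩
  · rw [orderOf_injective J hJ]
    exact ht
  · rw [← map_pow, h1]
    intro h
    exact hw (hL₁ h)

end

end Cfsg.Agent.H951.Two
end

-- part: H951/Two/Sp
section
/-!
# The bound for the symplectic groups (helper951, S5734)
-/

set_option autoImplicit false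
set_option linter.unusedSectionVars false

namespace Cfsg.Agent.H951.Two

open Cfsg Module Cfsg.Agent.H200.LinFix Cfsg.Agent.H264.FKS Cfsg.Agent.H436 Matrix Cfsg.Agent.OrdDiv
  Cfsg.Agent.H915.GN Cfsg.Agent.H264.GN Cfsg.Agent.LieClassical.SympTransvection

section coords

variable (α β F : Type*) [Field F]

/-- the first coordinates -/
def inL : (α → F) →ₗ[F] (α ⊕ β → F) where
  toFun x := Sum.elim x 0
  map_add' x y := by
    ext i
    cases i <;> simp
  map_smul' c x := by
    ext i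
    cases i <;> simp

/-- the last coordinates -/
def inR : (β → F) →ₗ[F] (α ⊕ β → F) where
  toFun x := Sum.elim (0 : α → F) x
  map_add' x y := by
    ext i
    cases i <;> simp
  map_smul' c x := by
    ext i
    cases i <;> simp

variable {α β F}

theorem inL_apply (x : α → F) : inL α β F x = Sum.elim x (0 : β → F) := rfl

theorem inR_apply (x : β → F) : inR α β F x = Sum.elim (0 : α → F) x := rfl

theorem inL_injective : Function.Injective (inL α β F) := fun x y h => by
  funext i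
  exact congrFun h (Sum.inl i)

theorem inR_injective : Function.Injective (inR α β F) := fun x y h => by
  funext i
  exact congrFun h (Sum.inr i)

theorem eq_inL_add_inR (v : α ⊕ β → F) : v = inL α β F (v ∘ Sum.inl) + inR α β F (v ∘ Sum.inr) := by
  ext i
  cases i <;> simp [inL_apply, inR_apply]

end coords

section

variable {F : Type} [Field F] [Fintype F] {m : ℕ}

/-- the symplectic form -/
noncomputable def omB (m : ℕ) (F : Type) [Field F] : LinearMap.BilinForm F (Fin m ⊕ Fin m → F) :=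
  LinearMap.mk₂ F (fun v w => om v w) om_add_left om_smul_left om_add_right om_smul_right

theorem omB_apply (v w : Fin m ⊕ Fin m → F) : omB m F v w = om v w := rfl

theorem om_mulVec (A : symplecticGroup (Fin m) F) (v w : Fin m ⊕ Fin m → F) : om (A.1 *ᵥ v) (A.1 *ᵥ w) = om v w := by
  have h1 : A.1ᵀ * J (Fin m) F * A.1 = J (Fin m) F := SymplecticGroup.mem_iff'.1 A.2
  rw [om_def, om_def, ← vecMul_transpose A.1 v, ← dotProduct_mulVec, mulVec_mulVec, mulVec_mulVec, h1]

/-- the decomposition -/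
theorem split_sp : Split (omB m F) (LinearMap.range (inL (Fin m) (Fin m) F))
    (LinearMap.range (inR (Fin m) (Fin m) F)) ⊥ m where
  sum v := ⟨_, ⟨_, rfl⟩, _, ⟨_, rfl⟩, 0, Submodule.zero_mem _, by rw [add_zero]; exact eq_inL_add_inR v⟩
  b11 := by
    rintro _ ⟨x, rfl⟩ _ ⟨y, rfl⟩
    simp only [omB_apply, om_eq_sum, inL_apply, _root_.Sum.elim_inr, _root_.Pi.zero_apply, _root_.Sum.elim_inl, _root_.MulZeroClass.zero_mul, _root_.MulZeroClass.mul_zero, _root_.sub_self, _root_.Finset.sum_const_zero]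
  b22 := by
    rintro _ ⟨x, rfl⟩ _ ⟨y, rfl⟩
    simp only [omB_apply, om_eq_sum, inR_apply, _root_.Sum.elim_inr, _root_.Sum.elim_inl, _root_.Pi.zero_apply, _root_.MulZeroClass.mul_zero, _root_.MulZeroClass.zero_mul, _root_.sub_self, _root_.Finset.sum_const_zero]
  b10 := by
    intro v _ w hw
    rw [(Submodule.mem_bot F).1 hw, map_zero]
  b01 := by
    intro w hw v _
    rw [(Submodule.mem_bot F).1 hw, map_zero, LinearMap.zero_apply]
  b20 := by
    intro v _ w hw
    rw [(Submodule.mem_bot F).1 hw, map_zero]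
  b02 := by
    intro w hw v _
    rw [(Submodule.mem_bot F).1 hw, map_zero, LinearMap.zero_apply]
  f1 := by rw [LinearMap.finrank_range_of_inj inL_injective, Module.finrank_fintype_fun_eq_card, Fintype.card_fin]
  f2 := by rw [LinearMap.finrank_range_of_inj inR_injective, Module.finrank_fintype_fun_eq_card, Fintype.card_fin]
  f0 := by rw [finrank_bot]; omega
  nd1 := by
    intro v hv
    by_contra h0
    obtain ⟨w, hw⟩ := exists_om_ne_zero h0
    exact hw (hv w)
  nd2 := by
    intro v hv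
    by_contra h0
    obtain ⟨w, hw⟩ := exists_om_ne_zero h0
    apply hw
    rw [om_swap, ← omB_apply, hv w, neg_zero]

/-- transvections commuting with an element fixing a vector -/
theorem dvd_centralizer_sp {p : ℕ} [hp : Fact p.Prime] [CharP F p] (s : symplecticGroup (Fin m) F)
    {v : Fin m ⊕ Fin m → F} (hv0 : v ≠ 0) (hv : s.1 *ᵥ v = v) :
    p ∣ Nat.card (Subgroup.centralizer ({s} : Set (symplecticGroup (Fin m) F))) := by
  have hpow : ∀ k : ℕ, (tvS (1 : F) v) ^ k = tvS (k : F) v := by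
    intro k
    induction k with
    | zero =>
      apply Subtype.ext
      apply Matrix.mulVec_injective
      funext x
      rw [pow_zero, Nat.cast_zero, coe_tvS, tv_mulVec, zero_mul, zero_smul, add_zero]
      exact one_mulVec x
    | succ k ih =>
      apply Subtype.ext
      apply Matrix.mulVec_injective
      funext x
      rw [pow_succ, ih]
      change (tv (k : F) v * tv 1 v) *ᵥ x = tv ((k + 1 : ℕ) : F) v *ᵥ x
      rw [← mulVec_mulVec, tv_mulVec, tv_mulVec, tv_mulVec, om_add_left, om_smul_left, om_self, mul_zero, add_zero,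
        add_assoc, ← add_smul]
      push_cast
      congr 2
      ring
  have h1 : (tvS (1 : F) v) ^ p = 1 := by
    rw [hpow, CharP.cast_eq_zero, ← Nat.cast_zero, ← hpow, pow_zero]
  have h2 : tvS (1 : F) v ≠ 1 := by
    intro h
    obtain ⟨w, hw⟩ := exists_om_ne_zero hv0
    have h3 : tv (1 : F) v *ᵥ w = w := by
      have h4 := congrArg (fun A : symplecticGroup (Fin m) F => A.1 *ᵥ w) h
      exact h4.trans (one_mulVec w)
    rw [tv_mulVec, add_eq_left, smul_eq_zero, one_mul] at h3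
    rcases h3 with h3 | h3
    · rw [om_swap, neg_eq_zero] at h3
      exact hw h3
    · exact hv0 h3
  have h3 : orderOf (tvS (1 : F) v) = p := orderOf_eq_prime h1 h2
  have h4 : tvS (1 : F) v ∈ Subgroup.centralizer ({s} : Set (symplecticGroup (Fin m) F)) := by
    rw [Subgroup.mem_centralizer_singleton_iff]
    apply Subtype.ext
    apply Matrix.mulVec_injective
    funext x
    change (tv 1 v * s.1) *ᵥ x = (s.1 * tv 1 v) *ᵥ x
    rw [← mulVec_mulVec, ← mulVec_mulVec, tv_mulVec, tv_mulVec, mulVec_add, mulVec_smul, hv]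
    have h5 := om_mulVec s x v
    rw [hv] at h5
    rw [h5]
  have h5 : orderOf (⟨_, h4⟩ : Subgroup.centralizer ({s} : Set (symplecticGroup (Fin m) F))) = p := by
    rw [Subgroup.orderOf_mk, h3]
  rw [← h5]
  exact orderOf_dvd_natCard _

/-- **The symplectic groups.** -/
theorem two_psp {r : ℕ} (hr : Prim (Nat.card F) m r) (hm : 4 ≤ m) (he : m % 2 = 0) (R : Subgroup (PSp m F))
    (hR : Cyc r R) : 3 * Nat.card (PSp m F) ≤ 20 * (2 * m) * H851.Dg.nd R := by
  let σ : Matrix.symplecticGroup (Fin m) F →* Matrix.GeneralLinearGroup (Fin m ⊕ Fin m) F :=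
    MonoidHom.toHomUnits (Matrix.symplecticGroup (Fin m) F).subtype
  have hσ : Function.Injective σ := fun a b hab => Subtype.ext (congrArg Units.val hab)
  have hσv : ∀ s v, lin σ s v = s.1 *ᵥ v := fun s v => rfl
  have hq : 2 ≤ Nat.card F := Finite.one_lt_card
  obtain ⟨b, hb, hb'⟩ := exists_pow (D := 1) (c := Nat.card (Matrix.symplecticGroup (Fin m) F)) hr (by omega) hq
    (fun h => hr.prime.one_lt.ne' (Nat.dvd_one.1 h)) (by rw [one_mul]) (by
      rw [S0245.result (F := F) rfl m, ← Nat.card_eq_fintype_card]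
      refine Dvd.dvd.mul_left ?_ _
      have := prod_dvd (q := Nat.card F) (by omega) he
      rwa [prB_eq] at this)
  obtain ⟨p, hp⟩ := CharP.exists F
  have : Fact p.Prime := ⟨CharP.char_is_prime F p⟩
  have hlt := lt_of_prim hr
  obtain ⟨d, hd⟩ := exists_good (lin σ) hm he hr ((H934.IdxCl.levSp m F).comp SpecialLinearGroup.toGL) (by
      intro A B hAB
      have h1 := H934.IdxCl.levSp_injective hAB
      exact Subtype.ext (congrArg (fun g : GL (Fin m) F => (g : Matrix (Fin m) (Fin m) F)) h1))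
    (inL (Fin m) (Fin m) F) inL_injective (fun A x => by
      rw [hσv]
      change H934.IdxCl.lev m F _ *ᵥ _ = _
      rw [H934.IdxCl.lev_mulVec, inL_apply, inL_apply, Sum.elim_comp_inl, Sum.elim_comp_inr, mulVec_zero]
      rfl)
    (W₂ := LinearMap.range (inR (Fin m) (Fin m) F)) (V₀ := ⊥) (by
      rintro A _ ⟨x, rfl⟩
      rw [hσv]
      change H934.IdxCl.lev m F _ *ᵥ _ ∈ _
      rw [H934.IdxCl.lev_mulVec, inR_apply, Sum.elim_comp_inl, Sum.elim_comp_inr, mulVec_zero]
      exact ⟨_, rfl⟩)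
    (by
      intro A v hv
      rw [(Submodule.mem_bot F).1 hv, map_zero]
      exact Submodule.zero_mem _)
  have h1 := two_of (p := p) σ hσ (QuotientGroup.mk' (Subgroup.center (Matrix.symplecticGroup (Fin m) F)))
    (QuotientGroup.mk'_surjective _) (fun k hk => by
      have h1 := (QuotientGroup.eq_one_iff k).1 hk
      exact (LieClassical.SympCenter.mem_center_iff m k).1 h1) hr (by omega) (by omega)
    (by rw [Fintype.card_sum, Fintype.card_fin]; omega) hb hb' (omB m F) (fun h v w => om_mulVec h v w)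
    (fun s hs hse => by
      have h1 := finrank_add (F := F) (lin σ s)
      rw [hse, Module.finrank_fintype_fun_eq_card, Fintype.card_sum, Fintype.card_fin] at h1
      have h2 : finrank F (K (lin σ s)) ≠ 0 := by omega
      rw [Ne, Submodule.finrank_eq_zero, ← Ne, Submodule.ne_bot_iff] at h2
      obtain ⟨v, hv, hv0⟩ := h2
      exact dvd_centralizer_sp s hv0 (mem_K.1 hv))
    split_sp hd R hR
  rwa [Fintype.card_sum, Fintype.card_fin, ← two_mul] at h1

end

end Cfsg.Agent.H951.Two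
end

-- part: H951/Two/Orth
section
/-!
# The bound for the orthogonal groups (helper951, S5734)
-/

set_option autoImplicit false
set_option linter.unusedSectionVars false

namespace Cfsg.Agent.H951.Two

open Cfsg Module Cfsg.Agent.H200.LinFix Cfsg.Agent.H264.FKS Cfsg.Agent.H436 Matrix Cfsg.Agent.OrdDiv
  Cfsg.Agent.H915.GN Cfsg.Agent.H264.GN QuadraticMap Cfsg.Agent.ClassicalGeometry.Eichler
  Cfsg.Agent.ClassicalGeometry.Reflection
open scoped commutatorElement

section quad

variable {F V : Type*} [Field F] [AddCommGroup V] [Module F V] [FiniteDimensional F V]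

theorem exists_ne_zero_of_two (h3 : 3 ≤ finrank F V) (f g : V →ₗ[F] F) : ∃ v, v ≠ 0 ∧ f v = 0 ∧ g v = 0 := by
  have h : LinearMap.ker (f.prod g) ≠ ⊥ := by
    apply LinearMap.ker_ne_bot_of_finrank_lt
    rw [Module.finrank_prod, Module.finrank_self]
    omega
  obtain ⟨v, hv, hv0⟩ := (Submodule.ne_bot_iff _).1 h
  have h1 : (f v, g v) = (0, 0) := LinearMap.mem_ker.1 hv
  exact ⟨v, hv0, congrArg Prod.fst h1, congrArg Prod.snd h1⟩

/-- singular vectors, any characteristic -/
theorem exists_singular' [Finite F] (Q : QuadraticForm F V) (h3 : 3 ≤ finrank F V) : ∃ v : V, v ≠ 0 ∧ Q v = 0 := by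
  by_cases h2 : (2 : F) = 0
  · have hnt : Nontrivial V := Module.nontrivial_of_finrank_pos (R := F) (by omega)
    obtain ⟨a, ha⟩ := exists_ne (0 : V)
    by_cases hQa : Q a = 0
    · exact ⟨a, ha, hQa⟩
    obtain ⟨f, hf⟩ : ∃ f : Module.Dual F V, f a ≠ 0 := by
      by_contra h
      push Not at h
      exact ha ((Module.forall_dual_apply_eq_zero_iff F a).1 h)
    obtain ⟨b, hb, h4, h5⟩ := exists_ne_zero_of_two h3 f (polarBilin Q a)
    rw [polarBilin_apply_apply] at h5
    by_cases hQb : Q b = 0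
    · exact ⟨b, hb, hQb⟩
    have hc2 : CharP F 2 := CharTwo.of_one_ne_zero_of_two_eq_zero one_ne_zero h2
    obtain ⟨t, ht⟩ := FiniteField.isSquare_of_char_two (ringChar.eq F 2) (Q a / Q b)
    refine ⟨a + t • b, ?_, ?_⟩
    · intro h
      apply hf
      have h6 := congrArg f h
      rwa [map_add, map_smul, h4, smul_zero, add_zero, map_zero] at h6
    · rw [QuadraticMap.map_add Q, QuadraticMap.map_smul, QuadraticMap.polar_smul_right, h5, smul_zero, add_zero, ← ht,
        smul_eq_mul, div_mul_cancel₀ _ hQb, ← two_mul, h2, zero_mul]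
  · exact ClassicalGeometry.SiegelGen.exists_singular h2 Q h3

/-- a singular vector and an orthogonal nonsingular vector -/
theorem exists_pair [Finite F] (Q : QuadraticForm F V) (h3 : 3 ≤ finrank F V)
    (hnd : ∀ v, (∀ w, polar Q v w = 0) → v = 0) : ∃ u a : V, u ≠ 0 ∧ Q u = 0 ∧ polar Q u a = 0 ∧ Q a ≠ 0 := by
  obtain ⟨u, hu0, hu⟩ := exists_singular' Q h3
  by_contra hcon
  push Not at hcon
  have h1 : ∀ a, polar Q u a = 0 → Q a = 0 := fun a ha => hcon u a hu0 hu ha
  obtain ⟨v, hv⟩ : ∃ v, polar Q u v ≠ 0 := by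
    by_contra h
    push Not at h
    exact hu0 (hnd u h)
  obtain ⟨a, ha0, ha1, ha2⟩ := exists_ne_zero_of_two h3 (polarBilin Q u) (polarBilin Q v)
  rw [polarBilin_apply_apply] at ha1 ha2
  apply ha0
  apply hnd
  intro w
  obtain ⟨c, hc⟩ : ∃ c : F, c * polar Q u v = polar Q u w := ⟨polar Q u w / polar Q u v, div_mul_cancel₀ _ hv⟩
  have h2 : polar Q u (w - c • v) = 0 := by
    rw [QuadraticMap.polar_sub_right, QuadraticMap.polar_smul_right, smul_eq_mul, hc, sub_self]
  have h3 : polar Q a (w - c • v) = 0 := by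
    have h4 := QuadraticMap.map_add Q a (w - c • v)
    rw [h1 a ha1, h1 _ h2, h1 (a + (w - c • v)) (by rw [QuadraticMap.polar_add_right, ha1, h2, add_zero]), zero_add,
      zero_add] at h4
    exact h4.symm
  rw [QuadraticMap.polar_sub_right, QuadraticMap.polar_smul_right, polar_comm Q a v, ha2, smul_zero, sub_zero] at h3
  exact h3

end quad

section

variable {ι : Type} [Fintype ι] [DecidableEq ι] {F : Type} [Field F]

theorem eichler_pow (Q : QuadraticForm F (ι → F)) (u w : ι → F) (hu : Q u = 0) (huw : polar (⇑Q) u w = 0) (k : ℕ) :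
    eichlerMatrix Q u w ^ k = eichlerMatrix Q u ((k : F) • w) := by
  induction k with
  | zero => rw [pow_zero, Nat.cast_zero, zero_smul, eichlerMatrix_zero]
  | succ k ih =>
    rw [pow_succ, ih, eichlerMatrix_mul Q u _ w hu (by rw [QuadraticMap.polar_smul_right, huw, smul_zero]) huw]
    congr 1
    push_cast
    rw [add_smul, one_smul]

theorem eichler_ne_one (Q : QuadraticForm F (ι → F)) (hQ : (polarBilin Q).Nondegenerate) {u w : ι → F} (hu0 : u ≠ 0)
    (hu : Q u = 0) (hw : Q w ≠ 0) : eichlerMatrix Q u w ≠ 1 := by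
  intro h
  obtain ⟨x, hx⟩ := ClassicalGeometry.SiegelGen.exists_polar_eq_one Q hQ u hu0
  have h1 := eichlerMatrix_mulVec Q u w x
  rw [h, one_mulVec, hx, one_smul, mul_one, left_eq_add, sub_sub, ← add_smul, sub_eq_zero] at h1
  apply hw
  rw [h1, QuadraticMap.map_smul, hu, smul_zero]

/-- Eichler transformations in `Ω` -/
theorem exists_eichler (Q : QuadraticForm F (ι → F)) (hQ : (polarBilin Q).Nondegenerate) {u a : ι → F} (hu0 : u ≠ 0)
    (hu : Q u = 0) (hua : polar (⇑Q) u a = 0) (ha : Q a ≠ 0) :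
    ∃ (c : F) (g : Omega F (⇑Q)), c ≠ 0 ∧
      (((g : isometryGroup F (⇑Q)) : Matrix.GeneralLinearGroup ι F) : Matrix ι ι F) = eichlerMatrix Q u (c • a) := by
  obtain ⟨w, hw1, hw2⟩ : ∃ w, polar (⇑Q) u w = 0 ∧ polar (⇑Q) a w ≠ 0 := by
    by_contra hcon
    push Not at hcon
    obtain ⟨v, hv⟩ := ClassicalGeometry.SiegelGen.exists_polar_eq_one Q hQ u hu0
    have h1 : a - polar (⇑Q) a v • u = 0 := by
      apply hQ.1
      intro x
      rw [polarBilin_apply_apply]
      have h2 := hcon (x - polar (⇑Q) u x • v) (by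
        rw [QuadraticMap.polar_sub_right, QuadraticMap.polar_smul_right, hv, smul_eq_mul, mul_one, sub_self])
      rw [QuadraticMap.polar_sub_right, QuadraticMap.polar_smul_right, smul_eq_mul] at h2
      rw [QuadraticMap.polar_sub_left, QuadraticMap.polar_smul_left, smul_eq_mul, mul_comm (polar (⇑Q) a v)]
      exact h2
    apply ha
    rw [sub_eq_zero.1 h1, QuadraticMap.map_smul, hu, smul_zero]
  have hau : polar (⇑Q) a u = 0 := by rw [polar_comm]; exact hua
  have hru : reflectionMatrix (⇑Q) a *ᵥ u = u := reflectionMatrix_mulVec_of_polar_eq_zero Q a u hau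
  have hrw : reflectionMatrix (⇑Q) a *ᵥ w = w - ((Q a)⁻¹ * polar (⇑Q) a w) • a := reflectionMatrix_mulVec Q a w
  have hurw : polar (⇑Q) u (reflectionMatrix (⇑Q) a *ᵥ w) = 0 := by
    rw [hrw, QuadraticMap.polar_sub_right, QuadraticMap.polar_smul_right, hw1, hua, smul_zero, sub_zero]
  have hnw : polar (⇑Q) u (-w) = 0 := by rw [QuadraticMap.polar_neg_right, hw1, neg_zero]
  refine ⟨-((Q a)⁻¹ * polar (⇑Q) a w), ⟨⁅reflIso Q a ha, eichlerIso Q u w hu hw1⁆,
    Subgroup.commutator_mem_commutator (Subgroup.mem_top _) (Subgroup.mem_top _)⟩,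
    neg_ne_zero.2 (mul_ne_zero (inv_ne_zero ha) hw2), ?_⟩
  have h1 : reflIso Q a ha * eichlerIso Q u w hu hw1 * (reflIso Q a ha)⁻¹ =
      eichlerIso Q u (reflectionMatrix (⇑Q) a *ᵥ w) hu hurw := by
    rw [conj_eichlerIso Q u w hu hw1 (reflIso Q a ha) (by rw [coe_reflIso, hru]; exact hu)
      (by rw [coe_reflIso, hru]; exact hurw)]
    apply Subtype.ext
    apply Units.ext
    rw [coe_eichlerIso, coe_eichlerIso, coe_reflIso, hru]
  change (((⁅reflIso Q a ha, eichlerIso Q u w hu hw1⁆ : isometryGroup F (⇑Q)) : Matrix.GeneralLinearGroup ι F) :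
    Matrix ι ι F) = _
  rw [commutatorElement_def, h1, eichlerIso_inv Q u w hu hw1, eichlerIso_mul Q u _ _ hu hurw hnw, coe_eichlerIso, hrw]
  congr 1
  rw [neg_smul]
  abel

/-- elements of order `p` commuting with an element fixing enough vectors -/
theorem dvd_centralizer_orth [Fintype F] {p : ℕ} [hp : Fact p.Prime] [CharP F p] (Q : QuadraticForm F (ι → F))
    (hQ : (polarBilin Q).Nondegenerate) (s : Omega F (⇑Q)) {u a : ι → F} (hu0 : u ≠ 0)
    (hu : Q u = 0) (hua : polar (⇑Q) u a = 0) (ha : Q a ≠ 0)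
    (hsu : (((s : isometryGroup F (⇑Q)) : Matrix.GeneralLinearGroup ι F) : Matrix ι ι F) *ᵥ u = u)
    (hsa : (((s : isometryGroup F (⇑Q)) : Matrix.GeneralLinearGroup ι F) : Matrix ι ι F) *ᵥ a = a) :
    p ∣ Nat.card (Subgroup.centralizer ({s} : Set (Omega F (⇑Q)))) := by
  obtain ⟨c, g, hc, hg⟩ := exists_eichler Q hQ hu0 hu hua ha
  have hext : ∀ x y : Omega F (⇑Q),
      (((x : isometryGroup F (⇑Q)) : Matrix.GeneralLinearGroup ι F) : Matrix ι ι F) =
      (((y : isometryGroup F (⇑Q)) : Matrix.GeneralLinearGroup ι F) : Matrix ι ι F) → x = y := fun x y h =>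
    Subtype.ext (Subtype.ext (Units.ext h))
  have huc : polar (⇑Q) u (c • a) = 0 := by rw [QuadraticMap.polar_smul_right, hua, smul_zero]
  have h1 : g ^ p = 1 := by
    apply hext
    change (((g : isometryGroup F (⇑Q)) : Matrix.GeneralLinearGroup ι F) : Matrix ι ι F) ^ p = 1
    rw [hg, eichler_pow Q u _ hu huc, CharP.cast_eq_zero, zero_smul, eichlerMatrix_zero]
  have h2 : g ≠ 1 := by
    intro h
    rw [h] at hg
    refine eichler_ne_one Q hQ hu0 hu (w := c • a) ?_ hg.symm
    rw [QuadraticMap.map_smul, smul_eq_mul]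
    exact mul_ne_zero (mul_ne_zero hc hc) ha
  have h3 : orderOf g = p := orderOf_eq_prime h1 h2
  have hs := (mem_isometryGroup_iff _ _).1 (s : isometryGroup F (⇑Q)).2
  have h4 : g ∈ Subgroup.centralizer ({s} : Set (Omega F (⇑Q))) := by
    rw [Subgroup.mem_centralizer_singleton_iff]
    apply hext
    apply Matrix.mulVec_injective
    funext x
    change ((((g : isometryGroup F (⇑Q)) : Matrix.GeneralLinearGroup ι F) : Matrix ι ι F) *
      (((s : isometryGroup F (⇑Q)) : Matrix.GeneralLinearGroup ι F) : Matrix ι ι F)) *ᵥ x =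
      ((((s : isometryGroup F (⇑Q)) : Matrix.GeneralLinearGroup ι F) : Matrix ι ι F) *
      (((g : isometryGroup F (⇑Q)) : Matrix.GeneralLinearGroup ι F) : Matrix ι ι F)) *ᵥ x
    have h5 := polar_mulVec_of_isometry Q _ hs u x
    have h6 := polar_mulVec_of_isometry Q _ hs (c • a) x
    rw [mulVec_smul, hsa] at h6
    rw [hsu] at h5
    rw [← mulVec_mulVec, ← mulVec_mulVec, hg, eichlerMatrix_mulVec, eichlerMatrix_mulVec, mulVec_add, mulVec_sub,
      mulVec_sub, mulVec_smul, mulVec_smul, mulVec_smul, mulVec_smul, hsu, hsa, h5, h6]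
  have h5 : orderOf (⟨_, h4⟩ : Subgroup.centralizer ({s} : Set (Omega F (⇑Q)))) = p := by
    rw [Subgroup.orderOf_mk, h3]
  rw [← h5]
  exact orderOf_dvd_natCard _

/-- the linear representation of `Ω` -/
def toGLOm (Q : (ι → F) → F) : Omega F Q →* Matrix.GeneralLinearGroup ι F :=
  (isometryGroup F Q).subtype.comp (Omega F Q).subtype

theorem toGLOm_injective (Q : (ι → F) → F) : Function.Injective (toGLOm Q) :=
  (Subgroup.subtype_injective _).comp (Subgroup.subtype_injective _)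

theorem lin_toGLOm (Q : (ι → F) → F) [Finite F] (s : Omega F Q) (v : ι → F) : lin (toGLOm Q) s v =
    (((s : isometryGroup F Q) : Matrix.GeneralLinearGroup ι F) : Matrix ι ι F) *ᵥ v := rfl

/-- **The orthogonal groups.** -/
theorem two_pomega [Fintype F] (Q : QuadraticForm F (ι → F)) (hQ : (polarBilin Q).Nondegenerate)
    (hs : ∃ u : ι → F, u ≠ 0 ∧ Q u = 0) {m r b : ℕ} (hr : Prim (Nat.card F) m r) (hm : 4 ≤ m)
    (hdim : Fintype.card ι ≤ 2 * m + 1) (hdim' : 2 * m ≤ Fintype.card ι)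
    (hb : r ^ b ∣ Nat.card (POmega F (⇑Q))) (hb' : ¬ r ^ b ∣ Nat.card F ^ (2 * m) - 1)
    {W₁ W₂ V₀ : Submodule F (ι → F)} (hS : Split (polarBilin Q) W₁ W₂ V₀ m) {d : Omega F (⇑Q)}
    (hd : Good (lin (toGLOm ⇑Q)) W₁ W₂ V₀ r (Nat.card F ^ (m / 2) + 1) d)
    (R' : Subgroup (POmega F (⇑Q))) (hR : Cyc r R') :
    3 * Nat.card (POmega F (⇑Q)) ≤ 20 * Fintype.card ι * H851.Dg.nd R' := by
  obtain ⟨p, hp⟩ := CharP.exists F
  have : Fact p.Prime := ⟨CharP.char_is_prime F p⟩
  have hlt := lt_of_prim hr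
  have hinv : ∀ (h : Omega F (⇑Q)) (v w : ι → F), polarBilin Q (lin (toGLOm ⇑Q) h v) (lin (toGLOm ⇑Q) h w) =
      polarBilin Q v w := by
    intro h v w
    rw [lin_toGLOm, lin_toGLOm, polarBilin_apply_apply, polarBilin_apply_apply]
    exact polar_mulVec_of_isometry Q _ ((mem_isometryGroup_iff _ _).1 (h : isometryGroup F (⇑Q)).2) v w
  refine two_of (p := p) (toGLOm ⇑Q) (toGLOm_injective _) (QuotientGroup.mk' (Subgroup.center (Omega F (⇑Q))))
    (QuotientGroup.mk'_surjective _) (fun k hk => ?_) hr (by omega) (by omega) hdim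
    (hb.trans (Subgroup.card_quotient_dvd_card _)) hb' (polarBilin Q) hinv (fun s hs hse => ?_) hS hd R' hR
  · have h1 := (QuotientGroup.eq_one_iff k).1 hk
    rcases (LieClassical.OmegaCenter.mem_center_omega_iff Q hQ (by omega) hs k).1 h1 with h2 | h2
    · exact ⟨1, by rw [one_smul]; exact h2⟩
    · exact ⟨-1, by rw [neg_one_smul]; exact h2⟩
  · set! g := lin (toGLOm ⇑Q) s with hgd; rewrite [← hgd] at hse
    have hgr : g ^ r = 1 := by rw [hgd, ← map_pow, ← hs, pow_orderOf_eq_one, map_one]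
    have h1 := finrank_add (F := F) g
    rw [hse, Module.finrank_fintype_fun_eq_card] at h1
    have hperp : ∀ v ∈ K g, ∀ w ∈ R g, polar (⇑Q) v w = 0 := by
      intro v hv w hw
      obtain ⟨x, rfl⟩ := mem_R.1 hw
      rw [QuadraticMap.polar_sub_right]
      have h2 := hinv s v x
      rw [polarBilin_apply_apply, polarBilin_apply_apply, mem_K.1 hv] at h2
      rw [h2, sub_self]
    obtain ⟨u, a, hu0, hu, hua, ha⟩ := exists_pair (Q.comp (K g).subtype) (by omega) (by
      intro v hv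
      apply Subtype.ext
      apply hQ.1
      intro w
      rw [polarBilin_apply_apply]
      obtain ⟨k, hk, t, ht, rfl⟩ := decomp hgr (cast_ne_zero' hr) w
      rw [QuadraticMap.polar_add_right, hperp v.1 v.2 t ht, add_zero]
      exact hv ⟨k, hk⟩)
    exact dvd_centralizer_orth Q hQ s (u := u.1) (a := a.1) (fun h => hu0 (Subtype.ext h)) hu hua ha
      (mem_K.1 u.2) (mem_K.1 a.2)

end

end Cfsg.Agent.H951.Two
end

-- part: H951/Two/Row
section
/-!
# The row with two types of elements of order `u` (helper951, S5734, task 2834)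

`two_row`: `T` one of `PSp_{2m}(q)`, `Ω_{2m+1}(q)`, `PΩ^+_{2m}(q)`, `m ≥ 4` even the order of `q` modulo the prime `u`,
`R ≤ T` with cyclic Sylow `u`-subgroups: `3 |T| ≤ 20 n nd(R)`, `n` the dimension of the natural module.
-/

set_option autoImplicit false
set_option linter.unusedSectionVars false

namespace Cfsg.Agent.H951.Two

open Cfsg Module Cfsg.Agent.H200.LinFix Cfsg.Agent.H264.FKS Cfsg.Agent.H436 Matrix Cfsg.Agent.OrdDiv
  Cfsg.Agent.H915.GN Cfsg.Agent.H264.GN QuadraticMap Cfsg.Agent.LieClassical.OmegaReindex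

section

variable {F : Type} [Field F] [Fintype F] {m : ℕ}

/-- `SL_m → Ω`. -/
theorem exists_hom {ι : Type} [Fintype ι] [DecidableEq ι] (Q : (ι → F) → F) (hm : 3 ≤ m)
    (j : GL (Fin m) F →* Matrix ι ι F) (hj : Function.Injective j) (hQ : ∀ A v, Q (j A *ᵥ v) = Q v) :
    ∃ J : _root_.Matrix.SpecialLinearGroup (Fin m) F →* Omega F Q, Function.Injective J ∧
      ∀ A v, lin (toGLOm Q) (J A) v = j (SpecialLinearGroup.toGL A) *ᵥ v := by
  let j1 : GL (Fin m) F →* GL ι F := j.toHomUnits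
  let j2 : GL (Fin m) F →* Cfsg.isometryGroup F Q := j1.codRestrict _ (fun A => by
    intro u v
    exact hQ A u)
  let j3 : _root_.Matrix.SpecialLinearGroup (Fin m) F →* Cfsg.isometryGroup F Q := j2.comp SpecialLinearGroup.toGL
  have hperf : commutator (_root_.Matrix.SpecialLinearGroup (Fin m) F) = ⊤ :=
    Cfsg.Agent.LieClassical.SLGen.commutator_eq_top (by rwa [Fintype.card_fin])
  let j4 : _root_.Matrix.SpecialLinearGroup (Fin m) F →* Cfsg.Omega F Q :=
    j3.codRestrict _ (fun A => H934.IdxCl.mem_commutator_of_perfect hperf j3 A)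
  refine ⟨j4, ?_, fun A v => rfl⟩
  intro A B h
  have h1 : j3 A = j3 B := congrArg Subtype.val h
  have h2 : j1 (SpecialLinearGroup.toGL A) = j1 (SpecialLinearGroup.toGL B) := congrArg Subtype.val h1
  have h3 : j (SpecialLinearGroup.toGL A) = j (SpecialLinearGroup.toGL B) := congrArg Units.val h2
  exact Subtype.ext (congrArg (fun g : GL (Fin m) F => (g : Matrix (Fin m) (Fin m) F)) (hj h3))

/-! ### `PΩ⁺` -/

theorem split_plus : Split (polarBilin (quadPlus m F)) (LinearMap.range (inL (Fin m) (Fin m) F))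
    (LinearMap.range (inR (Fin m) (Fin m) F)) ⊥ m where
  sum v := ⟨_, ⟨_, rfl⟩, _, ⟨_, rfl⟩, 0, Submodule.zero_mem _, by rw [add_zero]; exact eq_inL_add_inR v⟩
  b11 := by
    rintro _ ⟨x, rfl⟩ _ ⟨y, rfl⟩
    simp only [polar_quadPlus, inL_apply, _root_.QuadraticMap.polarBilin_apply_apply, _root_.Sum.elim_inl, _root_.Sum.elim_inr, _root_.Pi.zero_apply, _root_.MulZeroClass.mul_zero, _root_.add_zero, _root_.Finset.sum_const_zero]
  b22 := by
    rintro _ ⟨x, rfl⟩ _ ⟨y, rfl⟩
    simp only [polar_quadPlus, inR_apply, _root_.QuadraticMap.polarBilin_apply_apply, _root_.Sum.elim_inl, _root_.Pi.zero_apply, _root_.Sum.elim_inr, _root_.MulZeroClass.zero_mul, _root_.add_zero, _root_.Finset.sum_const_zero]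
  b10 := by
    intro v _ w hw
    rw [(Submodule.mem_bot F).1 hw, map_zero]
  b01 := by
    intro w hw v _
    rw [(Submodule.mem_bot F).1 hw, map_zero, LinearMap.zero_apply]
  b20 := by
    intro v _ w hw
    rw [(Submodule.mem_bot F).1 hw, map_zero]
  b02 := by
    intro w hw v _
    rw [(Submodule.mem_bot F).1 hw, map_zero, LinearMap.zero_apply]
  f1 := by rw [LinearMap.finrank_range_of_inj inL_injective, Module.finrank_fintype_fun_eq_card, Fintype.card_fin]
  f2 := by rw [LinearMap.finrank_range_of_inj inR_injective, Module.finrank_fintype_fun_eq_card, Fintype.card_fin]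
  f0 := by rw [finrank_bot]; omega
  nd1 := quadPlus_nondegenerate.1
  nd2 := quadPlus_nondegenerate.2

theorem good_plus {r : ℕ} (hm : 4 ≤ m) (he : m % 2 = 0) (hr : Prim (Nat.card F) m r) :
    ∃ d : Omega F (⇑(quadPlus m F)), Good (lin (toGLOm ⇑(quadPlus m F))) (LinearMap.range (inL (Fin m) (Fin m) F))
      (LinearMap.range (inR (Fin m) (Fin m) F)) ⊥ r (Nat.card F ^ (m / 2) + 1) d := by
  obtain ⟨J, hJ, hJv⟩ := exists_hom (⇑(quadPlus m F)) (by omega) (H934.IdxCl.lev m F) H934.IdxCl.lev_injective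
    (fun A v => by rw [coe_quadPlus]; exact H934.IdxCl.quadFormPlus_lev A v)
  refine exists_good _ hm he hr J hJ _ inL_injective (fun A x => ?_) (fun A => ?_) (fun A v hv => ?_)
  · rw [hJv, H934.IdxCl.lev_mulVec, inL_apply, inL_apply, Sum.elim_comp_inl, Sum.elim_comp_inr, mulVec_zero]
    rfl
  · rintro _ ⟨x, rfl⟩
    rw [hJv, H934.IdxCl.lev_mulVec, inR_apply, Sum.elim_comp_inl, Sum.elim_comp_inr, mulVec_zero]
    exact ⟨_, rfl⟩
  · rw [(Submodule.mem_bot F).1 hv, map_zero]
    exact Submodule.zero_mem _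

/-! ### `Ω_{2m+1}` -/

theorem inRL_injective :
    Function.Injective ⇑((inR Unit (Fin m ⊕ Fin m) F).comp (inL (Fin m) (Fin m) F)) := fun _ _ h =>
  inL_injective (inR_injective h)

theorem inRR_injective :
    Function.Injective ⇑((inR Unit (Fin m ⊕ Fin m) F).comp (inR (Fin m) (Fin m) F)) := fun _ _ h =>
  inR_injective (inR_injective h)

theorem split_odd (h2 : (2 : F) ≠ 0) : Split (polarBilin (quadOdd m F))
    (LinearMap.range ((inR Unit (Fin m ⊕ Fin m) F).comp (inL (Fin m) (Fin m) F)))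
    (LinearMap.range ((inR Unit (Fin m ⊕ Fin m) F).comp (inR (Fin m) (Fin m) F)))
    (LinearMap.range (inL Unit (Fin m ⊕ Fin m) F)) m where
  sum v := ⟨_, ⟨_, rfl⟩, _, ⟨_, rfl⟩, _, ⟨_, rfl⟩, by
    rw [LinearMap.comp_apply, LinearMap.comp_apply, ← map_add, ← eq_inL_add_inR (v ∘ Sum.inr), add_comm]
    exact eq_inL_add_inR v⟩
  b11 := by
    rintro _ ⟨x, rfl⟩ _ ⟨y, rfl⟩
    simp only [polar_quadOdd, inL_apply, inR_apply, _root_.LinearMap.coe_comp, _root_.Function.comp_apply, _root_.QuadraticMap.polarBilin_apply_apply, _root_.Sum.elim_inl, _root_.Pi.zero_apply, _root_.MulZeroClass.mul_zero, _root_.Sum.elim_inr, _root_.add_zero, _root_.Finset.sum_const_zero]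
  b22 := by
    rintro _ ⟨x, rfl⟩ _ ⟨y, rfl⟩
    simp only [polar_quadOdd, inR_apply, _root_.LinearMap.coe_comp, _root_.Function.comp_apply, _root_.QuadraticMap.polarBilin_apply_apply, _root_.Sum.elim_inl, _root_.Pi.zero_apply, _root_.MulZeroClass.mul_zero, _root_.Sum.elim_inr, _root_.MulZeroClass.zero_mul, _root_.add_zero, _root_.Finset.sum_const_zero]
  b10 := by
    rintro _ ⟨x, rfl⟩ _ ⟨y, rfl⟩
    simp only [polar_quadOdd, inL_apply, inR_apply, _root_.LinearMap.coe_comp, _root_.Function.comp_apply, _root_.QuadraticMap.polarBilin_apply_apply, _root_.Sum.elim_inl, _root_.Pi.zero_apply, _root_.MulZeroClass.mul_zero, _root_.MulZeroClass.zero_mul, _root_.Sum.elim_inr, _root_.add_zero, _root_.Finset.sum_const_zero]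
  b01 := by
    rintro _ ⟨x, rfl⟩ _ ⟨y, rfl⟩
    simp [polar_quadOdd, inL_apply, inR_apply]
  b20 := by
    rintro _ ⟨x, rfl⟩ _ ⟨y, rfl⟩
    simp [polar_quadOdd, inL_apply, inR_apply]
  b02 := by
    rintro _ ⟨x, rfl⟩ _ ⟨y, rfl⟩
    simp [polar_quadOdd, inL_apply, inR_apply]
  f1 := by
    rw [LinearMap.finrank_range_of_inj inRL_injective, Module.finrank_fintype_fun_eq_card,
      Fintype.card_fin]
  f2 := by
    rw [LinearMap.finrank_range_of_inj inRR_injective, Module.finrank_fintype_fun_eq_card,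
      Fintype.card_fin]
  f0 := by
    rw [LinearMap.finrank_range_of_inj inL_injective, Module.finrank_fintype_fun_eq_card, Fintype.card_unit]
  nd1 := (quadOdd_nondegenerate h2).1
  nd2 := (quadOdd_nondegenerate h2).2

theorem good_odd {r : ℕ} (hm : 4 ≤ m) (he : m % 2 = 0) (hr : Prim (Nat.card F) m r) :
    ∃ d : Omega F (⇑(quadOdd m F)), Good (lin (toGLOm ⇑(quadOdd m F)))
      (LinearMap.range ((inR Unit (Fin m ⊕ Fin m) F).comp (inL (Fin m) (Fin m) F)))
      (LinearMap.range ((inR Unit (Fin m ⊕ Fin m) F).comp (inR (Fin m) (Fin m) F)))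
      (LinearMap.range (inL Unit (Fin m ⊕ Fin m) F)) r (Nat.card F ^ (m / 2) + 1) d := by
  have hj : ∀ (A : GL (Fin m) F) (v : Unit ⊕ (Fin m ⊕ Fin m) → F),
      ((H934.IdxCl.pre Unit (Fin m ⊕ Fin m) F).comp (H934.IdxCl.lev m F)) A *ᵥ v =
        Sum.elim (v ∘ Sum.inl) (H934.IdxCl.lev m F A *ᵥ (v ∘ Sum.inr)) := by
    intro A v
    change fromBlocks (1 : Matrix Unit Unit F) 0 0 (H934.IdxCl.lev m F A) *ᵥ v = _
    rw [fromBlocks_mulVec]
    simp
  obtain ⟨J, hJ, hJv⟩ := exists_hom (⇑(quadOdd m F)) (by omega)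
    ((H934.IdxCl.pre Unit (Fin m ⊕ Fin m) F).comp (H934.IdxCl.lev m F)) (by
      intro A B h
      have h1 : fromBlocks (1 : Matrix Unit Unit F) 0 0 (H934.IdxCl.lev m F A) =
        fromBlocks 1 0 0 (H934.IdxCl.lev m F B) := h
      rw [fromBlocks_inj] at h1
      exact H934.IdxCl.lev_injective h1.2.2.2)
    (fun A v => by
      rw [hj, coe_quadOdd]
      have h2 := H934.IdxCl.quadFormPlus_lev A (v ∘ Sum.inr)
      change v (Sum.inl ()) ^ 2 + Cfsg.quadFormPlus m F (H934.IdxCl.lev m F A *ᵥ (v ∘ Sum.inr)) =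
        v (Sum.inl ()) ^ 2 + Cfsg.quadFormPlus m F (v ∘ Sum.inr)
      rw [h2])
  refine exists_good _ hm he hr J hJ _ inRL_injective (fun A x => ?_) (fun A => ?_)
    (fun A => ?_)
  · rw [hJv, hj, LinearMap.comp_apply, LinearMap.comp_apply, inR_apply, inR_apply, Sum.elim_comp_inl,
      Sum.elim_comp_inr, H934.IdxCl.lev_mulVec, inL_apply, inL_apply, Sum.elim_comp_inl, Sum.elim_comp_inr, mulVec_zero]
    rfl
  · rintro _ ⟨x, rfl⟩
    rw [hJv, hj, LinearMap.comp_apply, inR_apply, inR_apply, Sum.elim_comp_inl,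
      Sum.elim_comp_inr, H934.IdxCl.lev_mulVec, Sum.elim_comp_inl, Sum.elim_comp_inr, mulVec_zero]
    exact ⟨_, rfl⟩
  · rintro _ ⟨x, rfl⟩
    rw [hJv, hj, inL_apply, Sum.elim_comp_inl, Sum.elim_comp_inr, mulVec_zero]
    exact ⟨_, rfl⟩

end

/-! ### Named groups -/

theorem cyc_comap {r : ℕ} {T S : Type*} [Group T] [Group S] (Φ : T ≃* S) {R : Subgroup T} (hR : Cyc r R) :
    Cyc r (R.comap Φ.symm.toMonoidHom) := by
  refine hR.of_injective ((Φ.symm.toMonoidHom.comp (R.comap Φ.symm.toMonoidHom).subtype).codRestrict R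
    fun x => x.2) fun x y hxy => ?_
  exact Subtype.ext (Φ.symm.injective (congrArg Subtype.val hxy))

theorem named_psp {T : Type} [Group T] {m q r : ℕ} (hT : IsNamed (.psp m q) T) (hr : Prim q m r) (hm : 4 ≤ m)
    (he : m % 2 = 0) (R : Subgroup T) (hR : Cyc r R) : 3 * Nat.card T ≤ 20 * (2 * m) * H851.Dg.nd R := by
  obtain ⟨F, _, _, hF, ⟨Φ⟩⟩ := hT.real
  rw [← hF, ← Nat.card_eq_fintype_card] at hr
  have h1 := two_psp hr hm he _ (cyc_comap Φ hR)
  rwa [H851.Dg.nd_comap_equiv Φ.symm R, ← Nat.card_congr Φ.toEquiv] at h1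

theorem named_oodd {T : Type} [Group T] {m q r : ℕ} (hT : IsNamed (.oodd m q) T) (hr : Prim q m r) (hm : 4 ≤ m)
    (he : m % 2 = 0) (R : Subgroup T) (hR : Cyc r R) : 3 * Nat.card T ≤ 20 * (2 * m + 1) * H851.Dg.nd R := by
  have hc : 2 * Nat.card T = q ^ (m ^ 2) * prB q m := hT.eq
  obtain ⟨F, _, _, hF, ⟨Φ⟩⟩ := hT.real
  have h5 := lt_of_prim hr
  have hq : 2 ≤ q := by rw [← hF]; exact Fintype.one_lt_card
  obtain ⟨b, hb, hb'⟩ := exists_pow hr (by omega) hq (fun h => by have := Nat.le_of_dvd (by norm_num) h; omega) hc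
    ((prod_dvd (by omega) he).mul_left _)
  rw [Nat.card_congr Φ.toEquiv] at hb
  have h2 : (2 : F) ≠ 0 := by
    have hodd : Odd (Fintype.card F) := by rw [hF]; exact hT.cond.2.1
    intro h0
    have : CharP F 2 := CharTwo.of_one_ne_zero_of_two_eq_zero one_ne_zero h0
    obtain ⟨k, -, hk⟩ := FiniteField.card F 2
    rw [hk] at hodd
    have := (Nat.odd_pow_iff k.ne_zero).1 hodd
    exact absurd this (by decide)
  rw [← hF, ← Nat.card_eq_fintype_card] at hr hb'
  have hcard : Fintype.card (Unit ⊕ (Fin m ⊕ Fin m)) = 2 * m + 1 := by simp only [_root_.Fintype.card_sum, _root_.Fintype.card_unique, _root_.Fintype.card_fin]; ring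
  have hgood := good_odd hm he hr
  rw [coe_quadOdd] at hgood
  obtain ⟨d, hd⟩ := hgood
  have key := two_pomega (quadOdd m F) (quadOdd_nondegenerate h2) (quadOdd_isotropic (by omega)) hr hm
    (by rw [hcard]) (by rw [hcard]; omega) (b := b)
  rw [coe_quadOdd, hcard] at key
  have h1 := key hb hb' (split_odd h2) hd _ (cyc_comap Φ hR)
  rwa [H851.Dg.nd_comap_equiv Φ.symm R, ← Nat.card_congr Φ.toEquiv] at h1

theorem named_oplus {T : Type} [Group T] {m q r : ℕ} (hT : IsNamed (.oplus m q) T) (hr : Prim q m r) (hm : 4 ≤ m)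
    (he : m % 2 = 0) (R : Subgroup T) (hR : Cyc r R) : 3 * Nat.card T ≤ 20 * (2 * m) * H851.Dg.nd R := by
  have hc : Nat.gcd 4 (q ^ m - 1) * Nat.card T = q ^ (m * (m - 1)) * ((q ^ m - 1) * prB q (m - 1)) := hT.eq
  obtain ⟨F, _, _, hF, ⟨Φ⟩⟩ := hT.real
  have h5 := lt_of_prim hr
  have hq : 2 ≤ q := by rw [← hF]; exact Fintype.one_lt_card
  obtain ⟨b, hb, hb'⟩ := exists_pow hr (by omega) hq (fun h => by
    have := Nat.le_of_dvd (by norm_num) (h.trans (Nat.gcd_dvd_left _ _)); omega) hc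
    (Dvd.dvd.mul_left (Nat.mul_dvd_mul_left _ (by
      rw [prB_eq]
      have h6 := Finset.dvd_prod_of_mem (fun i => q ^ (2 * (i + 1)) - 1)
        (Finset.mem_range.mpr (by omega : m / 2 - 1 < m - 1))
      rwa [show 2 * (m / 2 - 1 + 1) = m by omega] at h6)) _)
  rw [Nat.card_congr Φ.toEquiv] at hb
  rw [← hF, ← Nat.card_eq_fintype_card] at hr hb'
  have hcard : Fintype.card (Fin m ⊕ Fin m) = 2 * m := by simp only [_root_.Fintype.card_sum, _root_.Fintype.card_fin]; ring
  have hgood := good_plus hm he hr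
  rw [coe_quadPlus] at hgood
  obtain ⟨d, hd⟩ := hgood
  have key := two_pomega (quadPlus m F) quadPlus_nondegenerate (quadPlus_isotropic (by omega)) hr hm
    (by rw [hcard]; omega) (by rw [hcard]) (b := b)
  rw [coe_quadPlus, hcard] at key
  have h1 := key hb hb' split_plus hd _ (cyc_comap Φ hR)
  rwa [H851.Dg.nd_comap_equiv Φ.symm R, ← Nat.card_congr Φ.toEquiv] at h1

/-- the order of `q` modulo `u` -/
theorem prim_of_orderOf {q e u : ℕ} (hq : 1 ≤ q) (hu : u.Prime) (he : 1 ≤ e) (h : orderOf ((q : ℕ) : ZMod u) = e) :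
    Prim q e u where
  prime := hu
  dvd_iff n := by
    rw [← h, orderOf_dvd_iff_pow_eq_one, ← Nat.cast_pow, ← ZMod.natCast_eq_zero_iff,
      Nat.cast_sub (Nat.one_le_pow _ _ hq), Nat.cast_one, sub_eq_zero]
  not_dvd := by
    have : Fact u.Prime := ⟨hu⟩
    intro h1
    rw [(ZMod.natCast_eq_zero_iff q u).2 h1] at h
    have h2 : (0 : ZMod u) ^ e = 1 := by rw [← h]; exact pow_orderOf_eq_one _
    rw [zero_pow (by omega)] at h2
    exact zero_ne_one h2

/-- **The row.** -/
theorem two_row : ∃ c : ℝ, 0 < c ∧ ∀ (gT : Grp) (T : Type) [Group T] [Finite T] (_ : IsNamed gT T)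
    (_ : 5 ≤ H278.El.AltNum.dimOf gT) (u : ℕ) (_ : H851.Dg.TwoU gT u) (R : Subgroup T) (_ : H851.Dg.CycP u R),
    c * (Nat.card T : ℝ) ≤ H278.El.AltNum.dimOf gT * H851.Dg.nd R := by
  refine ⟨3 / 20, by norm_num, ?_⟩
  intro gT T _ _ hT h5 u hu R hR
  have hcyc : Cyc u R := hR
  have key : ∀ N : ℕ, 3 * Nat.card T ≤ 20 * N * H851.Dg.nd R →
      (3 / 20 : ℝ) * (Nat.card T : ℝ) ≤ (N : ℝ) * H851.Dg.nd R := by
    intro N hN
    have h1 : (3 : ℝ) * (Nat.card T : ℝ) ≤ 20 * N * H851.Dg.nd R := by exact_mod_cast hN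
    linarith only [h1]
  cases gT with
  | psp m q =>
    obtain ⟨hu1, hu2, hu3⟩ := hu
    change 5 ≤ 2 * m at h5
    rw [Nat.even_iff] at hu2
    obtain ⟨F, _, _, hF, -⟩ := hT.real
    have hq : 2 ≤ q := by rw [← hF]; exact Fintype.one_lt_card
    exact key (2 * m) (named_psp hT (prim_of_orderOf (by omega) hu1 (by omega) hu3) (by omega) hu2 R hcyc)
  | oodd m q =>
    obtain ⟨hu1, hu2, hu3⟩ := hu
    have h3 : 3 ≤ m := hT.cond.1
    rw [Nat.even_iff] at hu2
    obtain ⟨F, _, _, hF, -⟩ := hT.real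
    have hq : 2 ≤ q := by rw [← hF]; exact Fintype.one_lt_card
    exact key (2 * m + 1) (named_oodd hT (prim_of_orderOf (by omega) hu1 (by omega) hu3) (by omega) hu2 R hcyc)
  | oplus m q =>
    obtain ⟨hu1, hu2, hu3⟩ := hu
    have h3 : 4 ≤ m := hT.cond.1
    rw [Nat.even_iff] at hu2
    obtain ⟨F, _, _, hF, -⟩ := hT.real
    have hq : 2 ≤ q := by rw [← hF]; exact Fintype.one_lt_card
    exact key (2 * m) (named_oplus hT (prim_of_orderOf (by omega) hu1 (by omega) hu3) (by omega) hu2 R hcyc)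
  | _ => exact hu.elim

end Cfsg.Agent.H951.Two
end
end

-- part: H982/DgPsl_mg
section
prune_inst 0x115001400200000000000004102000105c0000800000000080000a400201a00000000000020001000000800000040008130000000240000004000000000400000000020040810000800010000080000000000000000000000000000000000000000000002
set_option linter.all false
open scoped Cfsg.Agent.FastGrp

-- part: H982/DgPsl
section
/-!
# S5734, the row `PSL_2(q)` (helper982, for helper851)

`row_psl2`: there is `c > 0` such that in `T = PSL_2(q)`, `q ≥ 4`, for every maximal subgroup `K` at least `c |T|` elements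
of `T` have no conjugate in `K`.

The traces of the elements of `K` lie in a set of at most `3 q / 4` elements of `F` (`q ≥ 200`).
-/

set_option autoImplicit false

namespace Cfsg.Agent.H982.DgPsl

open Matrix

/-! ### Sets of traces -/

section Traces

variable {F : Type*} [Field F]

/-- the elements `l + l⁻¹` of `F`, where `l ^ m = 1` -/
def P (F : Type*) [Field F] (m : ℕ) : Set F :=
  {t | ∃ l : AlgebraicClosure F, l ^ m = 1 ∧ algebraMap F (AlgebraicClosure F) t = l + l⁻¹}

theorem P_mono {m n : ℕ} (h : m ∣ n) : P F m ⊆ P F n := by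
  rintro t ⟨l, hl, ht⟩
  obtain ⟨k, rfl⟩ := h
  exact ⟨l, by rw [pow_mul, hl, one_pow], ht⟩

theorem P_char {p : ℕ} [hp : Fact p.Prime] [CharP F p] (k m : ℕ) : P F (p ^ k * m) ⊆ P F m := by
  rintro t ⟨l, hl, ht⟩
  refine ⟨l, ?_, ht⟩
  have : CharP (AlgebraicClosure F) p := charP_of_injective_algebraMap (algebraMap F (AlgebraicClosure F)).injective p
  have h1 : (l ^ m - 1) ^ p ^ k = 0 := by
    rw [sub_pow_char_pow, one_pow, ← pow_mul, mul_comm m, hl, sub_self]
  exact sub_eq_zero.1 ((pow_eq_zero_iff (pow_pos hp.out.pos k).ne').1 h1)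

theorem ncard_P [Finite F] {m : ℕ} (hm : 1 ≤ m) : 2 * (P F m).ncard ≤ m + 4 := by
  classical
  set L := AlgebraicClosure F
  set f : L → L := fun l => l + l⁻¹ with hf
  set A : Finset L := (Polynomial.nthRoots m (1 : L)).toFinset with hA
  have hmA : ∀ l : L, l ∈ A ↔ l ^ m = 1 := by
    intro l
    rw [hA, Multiset.mem_toFinset, Polynomial.mem_nthRoots hm]
  have hAc : A.card ≤ m := (Multiset.toFinset_card_le _).trans (Polynomial.card_nthRoots m 1)
  -- the image
  have h1 : (P F m).ncard ≤ (A.image f).card := by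
    rw [← Set.ncard_coe_finset, ← Set.ncard_image_of_injective (P F m) (algebraMap F L).injective]
    apply Set.ncard_le_ncard _ (Finset.finite_toSet _)
    rintro _ ⟨t, ⟨l, hl, ht⟩, rfl⟩
    rw [Finset.mem_coe, Finset.mem_image]
    exact ⟨l, (hmA l).2 hl, ht.symm⟩
  -- the fibres
  set! I := (A.image f).filter (fun t => t ≠ 2 ∧ t ≠ -2) with hI
  have h2 : (A.image f).card ≤ I.card + 2 := by
    have h3 : A.image f ⊆ I ∪ {2, -2} := by
      intro t ht
      rw [Finset.mem_union, hI, Finset.mem_filter, Finset.mem_insert, Finset.mem_singleton]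
      by_cases h4 : t = 2
      · exact Or.inr (Or.inl h4)
      by_cases h5 : t = -2
      · exact Or.inr (Or.inr h5)
      exact Or.inl ⟨ht, h4, h5⟩
    refine (Finset.card_le_card h3).trans ((Finset.card_union_le _ _).trans ?_)
    have := Finset.card_le_two (a := (2 : L)) (b := -2)
    omega
  have h3 : 2 * I.card ≤ (A.filter (fun l => f l ∈ I)).card := by
    refine Finset.mul_card_image_le_card_of_maps_to (f := f) (fun a ha => (Finset.mem_filter.1 ha).2) 2 ?_
    intro t ht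
    have ht' := ht
    rw [hI, Finset.mem_filter, Finset.mem_image] at ht'
    obtain ⟨⟨l, hl, hlt⟩, ht2, ht3⟩ := ht'
    have hl0 : l ≠ 0 := by
      rintro rfl
      have := (hmA 0).1 hl
      rw [zero_pow (by omega)] at this
      exact zero_ne_one this
    have hne : l ≠ l⁻¹ := by
      intro h
      have h4 : l * l = 1 := by
        nth_rewrite 2 [h]
        exact mul_inv_cancel₀ hl0
      rcases mul_self_eq_one_iff.1 h4 with h5 | h5
      · apply ht2
        rw [← hlt, hf, h5]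
        norm_num only []
      · apply ht3
        rw [← hlt, hf, h5]
        norm_num only []
    have hfl : f l⁻¹ = t := by
      rw [← hlt]
      show l⁻¹ + l⁻¹⁻¹ = l + l⁻¹
      rw [inv_inv, add_comm]
    have hlA : l⁻¹ ∈ A := (hmA _).2 (by rw [inv_pow, (hmA l).1 hl, inv_one])
    have h5 : ({l, l⁻¹} : Finset L) ⊆ (A.filter (fun l => f l ∈ I)).filter (fun x => f x = t) := by
      intro x hx
      rw [Finset.mem_insert, Finset.mem_singleton] at hx
      rw [Finset.mem_filter, Finset.mem_filter]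
      rcases hx with rfl | rfl
      · exact ⟨⟨hl, hlt ▸ ht⟩, hlt⟩
      · exact ⟨⟨hlA, hfl ▸ ht⟩, hfl⟩
    have h6 := Finset.card_le_card h5
    rwa [Finset.card_pair hne] at h6
  have h4 : (A.filter (fun l => f l ∈ I)).card ≤ A.card := Finset.card_filter_le _ _
  omega

end Traces

/-! ### Elements of `PSL_2(q)` -/

section Elements

open Cfsg.Agent.H390.PslSpec Cfsg.Agent.H851.Dg

variable {F : Type*} [Field F] [Fintype F]

local notation "SL2" => Matrix.SpecialLinearGroup (Fin 2) F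
local notation "PSL2" => Matrix.ProjectiveSpecialLinearGroup (Fin 2) F

omit [Fintype F] in
theorem sq_of_eq_inv {u : AlgebraicClosure F} (hu : u ≠ 0) (h : u = u⁻¹) : u ^ 2 = 1 := by
  rw [pow_two]
  nth_rewrite 2 [h]
  exact mul_inv_cancel₀ hu

omit [Fintype F] in
/-- the trace of an element whose image has exponent `n` -/
theorem mem_P_of_pow (g : SL2) (n : ℕ) (h : (pr F g) ^ n = 1) : tr (g : Matrix (Fin 2) (Fin 2) F) ∈ P F (2 * n) := by
  obtain ⟨u, hu, ht⟩ := root_exists (tr (g : Matrix (Fin 2) (Fin 2) F))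
  refine ⟨u, ?_, ht⟩
  by_cases hne : u = u⁻¹
  · rw [pow_mul, sq_of_eq_inv hu hne, one_pow]
  · rcases (pr_pow_iff g u hu ht hne n).1 h with h1 | h1
    · rw [mul_comm, pow_mul, h1, one_pow]
    · rw [mul_comm, pow_mul, h1]
      norm_num

/-- matrices with a given trace -/
def mat (t a : F) (b : Fˣ) : SL2 :=
  ⟨!![a, b; (a * (t - a) - 1) * (b : F)⁻¹, t - a], by
    rw [Matrix.det_fin_two_of]
    have : (b : F) ≠ 0 := b.ne_zero
    field_simp
    ring⟩

theorem card_trace (B : Set F) : (Fintype.card F - B.ncard) * (Fintype.card F * (Fintype.card F - 1)) ≤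
    Nat.card {g : SL2 // tr (g : Matrix (Fin 2) (Fin 2) F) ∉ B} := by
  classical
  have hBc : (Fintype.card F - B.ncard) = Nat.card {t : F // t ∉ B} := by
    have h1 := Set.ncard_add_ncard_compl B (Set.toFinite _) (Set.toFinite _)
    rw [Nat.card_eq_fintype_card] at h1
    have h2 : Nat.card {t : F // t ∉ B} = Bᶜ.ncard := rfl
    omega
  have hu : Nat.card Fˣ = Fintype.card F - 1 := by
    rw [Nat.card_eq_fintype_card, Fintype.card_units]
  rw [hBc, ← hu, ← Nat.card_eq_fintype_card (α := F), ← Nat.card_prod, ← Nat.card_prod]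
  refine Nat.card_le_card_of_injective (fun x => ⟨mat x.1.1 x.2.1 x.2.2, ?_⟩) ?_
  · have h1 : tr ((mat x.1.1 x.2.1 x.2.2 : SL2) : Matrix (Fin 2) (Fin 2) F) = x.1.1 := by
      simp only [tr, mat, _root_.Fin.isValue, _root_.Matrix.of_apply, _root_.Matrix.cons_val', _root_.Matrix.cons_val_zero, _root_.Matrix.cons_val_fin_one, _root_.Matrix.cons_val_one, _root_.add_sub_cancel]
    rw [h1]
    exact x.1.2
  · rintro ⟨⟨t, ht⟩, a, b⟩ ⟨⟨t', ht'⟩, a', b'⟩ h
    have h1 : (mat t a b : SL2) = mat t' a' b' := congrArg Subtype.val h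
    have h2 : ((mat t a b : SL2) : Matrix (Fin 2) (Fin 2) F) = ((mat t' a' b' : SL2) : Matrix (Fin 2) (Fin 2) F) :=
      congrArg _ h1
    have ha : a = a' := congrFun (congrFun h2 0) 0
    have hb : (b : F) = b' := congrFun (congrFun h2 0) 1
    have hd : t - a = t' - a' := congrFun (congrFun h2 1) 1
    have htt : t = t' := by
      rw [ha] at hd
      exact sub_left_injective hd
    subst ha; subst htt
    have hb' : b = b' := Units.ext hb
    rw [hb']

omit [Fintype F] in
theorem tr_conj (k g : SL2) : tr ((k * g * k⁻¹ : SL2) : Matrix (Fin 2) (Fin 2) F) = tr (g : Matrix (Fin 2) (Fin 2) F) := by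
  have h1 : ∀ A : Matrix (Fin 2) (Fin 2) F, tr A = A.trace := fun A => (Matrix.trace_fin_two A).symm
  rw [h1, h1, Matrix.SpecialLinearGroup.coe_mul, Matrix.trace_mul_comm, ← Matrix.SpecialLinearGroup.coe_mul,
    ← mul_assoc, inv_mul_cancel, one_mul]

/-- **The counting lemma.** -/
theorem card_le_nd (K : Subgroup PSL2) (B : Set F) (hB : ∀ g : SL2, pr F g ∈ K → tr (g : Matrix (Fin 2) (Fin 2) F) ∈ B) :
    (Fintype.card F - B.ncard) * (Fintype.card F * (Fintype.card F - 1)) ≤ 2 * nd K := by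
  classical
  refine (card_trace B).trans ?_
  have hmem : ∀ g : SL2, tr (g : Matrix (Fin 2) (Fin 2) F) ∉ B → ∀ h : PSL2, h * pr F g * h⁻¹ ∉ K := by
    intro g hg h hK
    obtain ⟨k, rfl⟩ := pr_surjective h
    rw [← map_inv, ← map_mul, ← map_mul] at hK
    have := hB _ hK
    rw [tr_conj] at this
    exact hg this
  choose s hs using (pr_surjective : Function.Surjective (pr F))
  have hpm : ∀ g : SL2, (g : Matrix (Fin 2) (Fin 2) F) = s (pr F g) ∨
      (g : Matrix (Fin 2) (Fin 2) F) = -(s (pr F g) : Matrix (Fin 2) (Fin 2) F) := by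
    intro g
    have h1 : pr F (g * (s (pr F g))⁻¹) = 1 := by
      rw [map_mul, map_inv, hs, mul_inv_cancel]
    have h2 : g = (g * (s (pr F g))⁻¹) * s (pr F g) := by group
    rcases (pr_eq_one_iff _).1 h1 with h3 | h3
    · left
      rw [h2, Matrix.SpecialLinearGroup.coe_mul, h3, one_mul, ← h2]
    · right
      rw [h2, Matrix.SpecialLinearGroup.coe_mul, h3, ← h2]
      simp
  have h2 : 2 * nd K = Nat.card ({x : PSL2 // ∀ g : PSL2, g * x * g⁻¹ ∉ K} × Bool) := by
    rw [Nat.card_prod, Nat.card_eq_fintype_card (α := Bool), Fintype.card_bool, mul_comm]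
    rfl
  rw [h2]
  refine Nat.card_le_card_of_injective (fun g => (⟨pr F g.1, hmem g.1 g.2⟩, decide (g.1 = s (pr F g.1)))) ?_
  rintro ⟨g, hg⟩ ⟨k, hk⟩ h
  rw [Prod.mk.injEq] at h
  have h3 : pr F g = pr F k := congrArg Subtype.val h.1
  have h4 : decide (g = s (pr F g)) = decide (k = s (pr F k)) := h.2
  rw [decide_eq_decide] at h4
  apply Subtype.ext
  show g = k
  by_cases h5 : g = s (pr F g)
  · have h6 := h4.1 h5
    rw [h5, h6, h3]
  · have h6 : k ≠ s (pr F k) := fun h => h5 (h4.2 h)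
    have h7 := (hpm g).resolve_left (fun h => h5 (Subtype.ext h))
    have h8 := (hpm k).resolve_left (fun h => h6 (Subtype.ext h))
    apply Subtype.ext
    show (g : Matrix (Fin 2) (Fin 2) F) = k
    rw [h7, h8, h3]

theorem card_psl_le : Nat.card PSL2 ≤ Fintype.card F * (Fintype.card F ^ 2 - 1) := by
  rcases Nat.even_or_odd (Fintype.card F) with h | h
  · exact (Cfsg.Agent.SmallSimple.PSLTwoPart.card_psl_two_even h).le
  · have := Cfsg.Agent.SmallSimple.PSLTwoPart.card_psl_two_odd h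
    omega

theorem key {m n : ℕ} (hm : 1 ≤ m) (hn : 1 ≤ n) (hmn : 2 * (m + n + 8) ≤ 3 * Fintype.card F) (K : Subgroup PSL2)
    (hK : ∀ g : SL2, pr F g ∈ K → tr (g : Matrix (Fin 2) (Fin 2) F) ∈ P F m ∪ P F n) :
    Nat.card PSL2 ≤ 16 * nd K := by
  have h1 := card_le_nd K _ hK
  have h2 := Set.ncard_union_le (P F m) (P F n)
  have h3 := ncard_P (F := F) hm
  have h4 := ncard_P (F := F) hn
  have h5 := card_psl_le (F := F)
  have hq : 1 < Fintype.card F := Fintype.one_lt_card
  generalize Fintype.card F = q at *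
  generalize (P F m ∪ P F n).ncard = b at *
  obtain ⟨k, rfl⟩ : ∃ k, q = k + 1 := ⟨q - 1, by omega⟩
  have h6 : k + 1 ≤ 4 * (k + 1 - b) := by (clear * - h3 h4 h2 hmn; solve | lia | omega)
  have h7 : (k + 1) * ((k + 1) * (k + 1 - 1)) ≤ 4 * (k + 1 - b) * ((k + 1) * (k + 1 - 1)) := Nat.mul_le_mul_right _ h6
  have h8 : (k + 1) * ((k + 1) * k) ≤ 8 * nd K := by
    rw [Nat.add_sub_cancel] at h7 h1
    linarith only [h1, h7]
  have h9 : (k + 1) * ((k + 1) ^ 2 - 1) ≤ 2 * ((k + 1) * ((k + 1) * k)) := by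
    have : (k + 1) ^ 2 - 1 = k * (k + 2) := by
      rw [Nat.sub_eq_iff_eq_add (by nlinarith only [hmn])]
      ring
    rw [this]
    nlinarith only [hmn, this]
  omega

theorem mem_P_of_card {K : Subgroup PSL2} {n : ℕ} (hn : Nat.card K ∣ n) {g : SL2} (hg : pr F g ∈ K) :
    tr (g : Matrix (Fin 2) (Fin 2) F) ∈ P F (2 * n) := by
  apply mem_P_of_pow
  have h1 : orderOf (⟨pr F g, hg⟩ : K) ∣ n := (orderOf_dvd_natCard _).trans hn
  rw [Subgroup.orderOf_mk] at h1
  exact orderOf_dvd_iff_pow_eq_one.1 h1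

theorem mem_P_of_equiv {K : Subgroup PSL2} {L : Type*} [Group L] (e : K ≃* L) {g : SL2} (hg : pr F g ∈ K) {n : ℕ}
    (h : orderOf (e ⟨pr F g, hg⟩) ∣ n) : tr (g : Matrix (Fin 2) (Fin 2) F) ∈ P F (2 * n) := by
  apply mem_P_of_pow
  rw [MulEquiv.orderOf_eq, Subgroup.orderOf_mk] at h
  exact orderOf_dvd_iff_pow_eq_one.1 h

theorem dihedral_order {k : ℕ} (x : DihedralGroup k) : orderOf x ∣ k ∨ orderOf x ∣ 2 := by
  rcases x with i | i
  · left
    apply orderOf_dvd_of_pow_eq_one
    rw [DihedralGroup.r_pow, ZMod.natCast_self, mul_zero]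
    rfl
  · right
    apply orderOf_dvd_of_pow_eq_one
    rw [pow_two, DihedralGroup.sr_mul_self]

theorem eight_le {q q₀ r : ℕ} (hq : 200 ≤ q) (hr : 2 ≤ r) (h : q = q₀ ^ r) (hq0 : 1 ≤ q₀) :
    2 * (2 * (q₀ - 1) + 2 * (q₀ + 1) + 8) ≤ 3 * q := by
  have h1 : q₀ ^ 2 ≤ q := by rw [h]; exact Nat.pow_le_pow_right hq0 hr
  rcases le_or_gt q₀ 14 with h2 | h2
  · omega
  · have : 15 * q₀ ≤ q₀ ^ 2 := by nlinarith only [h2]
    omega

/-- subfield subgroups -/
theorem subfield {p : ℕ} [hp : Fact p.Prime] [CharP F p] (hq : 200 ≤ Fintype.card F) {q₀ r : ℕ} (hr : 2 ≤ r)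
    (h : Fintype.card F = q₀ ^ r) (hq0 : 2 ≤ q₀) (K : Subgroup PSL2)
    (hK : ∀ g : SL2, pr F g ∈ K → orderOf (pr F g) ∣ p ∨ orderOf (pr F g) ∣ q₀ - 1 ∨ orderOf (pr F g) ∣ q₀ + 1) :
    Nat.card PSL2 ≤ 16 * nd K := by
  refine key (m := 2 * (q₀ - 1)) (n := 2 * (q₀ + 1)) (by omega) (by omega) (eight_le hq hr h (by omega)) K fun g hg => ?_
  rcases hK g hg with h1 | h1 | h1
  · left
    have h2 := mem_P_of_pow g p (orderOf_dvd_iff_pow_eq_one.1 h1)
    rw [mul_comm, ← pow_one p, mul_comm] at h2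
    have h3 : P F (2 * p ^ 1) ⊆ P F 2 := by
      rw [mul_comm]; exact P_char 1 2
    exact P_mono (dvd_mul_right 2 _) (h3 h2)
  · left
    exact mem_P_of_pow g _ (orderOf_dvd_iff_pow_eq_one.1 h1)
  · right
    exact mem_P_of_pow g _ (orderOf_dvd_iff_pow_eq_one.1 h1)

theorem subfield_psl {p : ℕ} [hp : Fact p.Prime] [CharP F p] (hq : 200 ≤ Fintype.card F) {F₀ : Type} [Field F₀]
    [Fintype F₀] {r : ℕ} (hr : 2 ≤ r) (h : Fintype.card F = Fintype.card F₀ ^ r) (K : Subgroup PSL2)
    (e : K ≃* Matrix.ProjectiveSpecialLinearGroup (Fin 2) F₀) : Nat.card PSL2 ≤ 16 * nd K := by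
  have hc0 : CharP F₀ p := by
    obtain ⟨p', hp'⟩ := CharP.exists F₀
    have hp'1 : Fact p'.Prime := ⟨CharP.char_is_prime F₀ p'⟩
    obtain ⟨a, -, ha⟩ := FiniteField.card F p
    obtain ⟨b, -, hb⟩ := FiniteField.card F₀ p'
    rw [ha, hb, ← pow_mul] at h
    have h1 : p ∣ p' ^ ((b : ℕ) * r) := by
      rw [← h]
      exact dvd_pow_self p a.ne_zero
    have h2 := (Nat.prime_dvd_prime_iff_eq hp.out hp'1.out).1 (hp.out.dvd_of_dvd_pow h1)
    rw [h2]
    exact hp'
  refine subfield (p := p) hq hr h Fintype.one_lt_card K fun g hg => ?_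
  have h1 : orderOf (pr F g) = orderOf (e ⟨pr F g, hg⟩) := by
    rw [MulEquiv.orderOf_eq, Subgroup.orderOf_mk]
  rw [h1]
  obtain ⟨k, hk⟩ := (pr_surjective : Function.Surjective (pr F₀)) (e ⟨pr F g, hg⟩)
  rw [← hk]
  have hdd := dd_dvd_sub (Fintype.card F₀)
  have hdd' := dd_dvd_add (q := Fintype.card F₀) (Fintype.card_pos)
  rcases order_dvd (p := p) k with h2 | h2 | h2
  · exact Or.inl h2
  · exact Or.inr (Or.inl (h2.trans (Nat.div_dvd_of_dvd hdd)))
  · exact Or.inr (Or.inr (h2.trans (Nat.div_dvd_of_dvd hdd')))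

theorem subfield_pgl {p : ℕ} [hp : Fact p.Prime] [CharP F p] (hq : 200 ≤ Fintype.card F) {F₀ : Type} [Field F₀]
    [Fintype F₀] {r : ℕ} (hr : 2 ≤ r) (h : Fintype.card F = Fintype.card F₀ ^ r) (K : Subgroup PSL2)
    (e : K ≃* Matrix.ProjGenLinGroup (Fin 2) F₀) : Nat.card PSL2 ≤ 16 * nd K := by
  have hc0 : CharP F₀ p := by
    obtain ⟨p', hp'⟩ := CharP.exists F₀
    have hp'1 : Fact p'.Prime := ⟨CharP.char_is_prime F₀ p'⟩
    obtain ⟨a, -, ha⟩ := FiniteField.card F p
    obtain ⟨b, -, hb⟩ := FiniteField.card F₀ p'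
    rw [ha, hb, ← pow_mul] at h
    have h1 : p ∣ p' ^ ((b : ℕ) * r) := by
      rw [← h]
      exact dvd_pow_self p a.ne_zero
    have h2 := (Nat.prime_dvd_prime_iff_eq hp.out hp'1.out).1 (hp.out.dvd_of_dvd_pow h1)
    rw [h2]
    exact hp'
  refine subfield (p := p) hq hr h Fintype.one_lt_card K fun g hg => ?_
  have h1 : orderOf (pr F g) = orderOf (e ⟨pr F g, hg⟩) := by
    rw [MulEquiv.orderOf_eq, Subgroup.orderOf_mk]
  rw [h1]
  exact Cfsg.Agent.H369.Pgl.order_pgl p (e ⟨pr F g, hg⟩)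

theorem odd_case (hodd : Odd (Fintype.card F)) (hq : 200 ≤ Fintype.card F) (K : Subgroup PSL2) (hK : IsCoatom K) :
    Nat.card PSL2 ≤ 16 * nd K := by
  obtain ⟨p, hp⟩ := CharP.exists F
  have hp1 : Fact p.Prime := ⟨CharP.char_is_prime F p⟩
  obtain ⟨a, -, ha⟩ := FiniteField.card F p
  rcases Cfsg.Agent.S5892.result p hodd (by omega) K hK with h | ⟨-, k, hk, ⟨e⟩⟩ | ⟨-, -, k, hk, ⟨e⟩⟩ |
    ⟨F₀, _, _, hF, ⟨e⟩⟩ | ⟨F₀, _, _, r, hr, -, hF, ⟨e⟩⟩ | ⟨-, -, ⟨e⟩⟩ | ⟨-, -, -, ⟨e⟩⟩ | ⟨-, -, ⟨e⟩⟩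
  · refine key (m := Fintype.card F - 1) (n := 1) (by omega) le_rfl (by omega) K fun g hg => Or.inl ?_
    have h1 := mem_P_of_card (dvd_refl _) hg
    rw [h] at h1
    have h2 := P_char (F := F) (p := p) a (Fintype.card F - 1)
    rw [← ha] at h2
    exact h2 h1
  · refine key (m := Fintype.card F - 1) (n := 4) (by omega) (by omega) (by omega) K fun g hg => ?_
    rcases dihedral_order (e ⟨pr F g, hg⟩) with h1 | h1
    · left
      rw [← hk]
      exact mem_P_of_equiv e hg h1
    · right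
      exact (mem_P_of_equiv e hg h1 :)
  · refine key (m := Fintype.card F + 1) (n := 4) (by omega) (by omega) (by omega) K fun g hg => ?_
    rcases dihedral_order (e ⟨pr F g, hg⟩) with h1 | h1
    · left
      rw [← hk]
      exact mem_P_of_equiv e hg h1
    · right
      exact (mem_P_of_equiv e hg h1 :)
  · exact subfield_pgl (p := p) hq le_rfl hF K e
  · exact subfield_psl (p := p) hq hr.two_le hF K e
  · refine key (m := 2 * 60) (n := 1) (by omega) le_rfl (by omega) K fun g hg => Or.inl ?_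
    refine mem_P_of_card (n := 60) ?_ hg
    rw [Nat.card_congr e.toEquiv, nat_card_alternatingGroup, Nat.card_eq_fintype_card, Fintype.card_fin]
    decide
  · refine key (m := 2 * 12) (n := 1) (by omega) le_rfl (by omega) K fun g hg => Or.inl ?_
    refine mem_P_of_card (n := 12) ?_ hg
    rw [Nat.card_congr e.toEquiv, nat_card_alternatingGroup, Nat.card_eq_fintype_card, Fintype.card_fin]
    decide
  · refine key (m := 2 * 24) (n := 1) (by omega) le_rfl (by omega) K fun g hg => Or.inl ?_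
    refine mem_P_of_card (n := 24) ?_ hg
    rw [Nat.card_congr e.toEquiv, Nat.card_perm, Nat.card_eq_fintype_card, Fintype.card_fin]
    decide

theorem even_case (heven : Even (Fintype.card F)) (hq : 200 ≤ Fintype.card F) (K : Subgroup PSL2) (hK : IsCoatom K) :
    Nat.card PSL2 ≤ 16 * nd K := by
  obtain ⟨p, hp⟩ := CharP.exists F
  have hp1 : Fact p.Prime := ⟨CharP.char_is_prime F p⟩
  obtain ⟨a, -, ha⟩ := FiniteField.card F p
  have h2 : p = 2 := by
    have h1 : 2 ∣ p ^ (a : ℕ) := ha ▸ heven.two_dvd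
    exact ((Nat.prime_dvd_prime_iff_eq Nat.prime_two hp1.out).1 (Nat.prime_two.dvd_of_dvd_pow h1)).symm
  subst h2
  rcases Cfsg.Agent.S5893.result heven (by omega) K hK with h | ⟨⟨e⟩⟩ | ⟨⟨e⟩⟩ | ⟨F₀, _, _, r, hr, -, hF, ⟨e⟩⟩
  · refine key (m := Fintype.card F - 1) (n := 1) (by omega) le_rfl (by omega) K fun g hg => Or.inl ?_
    have h1 := mem_P_of_card (dvd_refl _) hg
    rw [h] at h1
    have h2 := P_char (F := F) (p := 2) (a + 1) (Fintype.card F - 1)
    rw [pow_succ, ← ha] at h2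
    apply h2
    have e1 : 2 * (Fintype.card F * (Fintype.card F - 1)) = Fintype.card F * 2 * (Fintype.card F - 1) := by ring
    rwa [e1] at h1
  · refine key (m := Fintype.card F - 1) (n := 4) (by omega) (by omega) (by omega) K fun g hg => ?_
    rcases dihedral_order (e ⟨pr F g, hg⟩) with h1 | h1
    · left
      have h2 := P_char (F := F) (p := 2) 1 (Fintype.card F - 1)
      rw [pow_one] at h2
      exact h2 (mem_P_of_equiv e hg h1)
    · right
      exact (mem_P_of_equiv e hg h1 :)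
  · refine key (m := Fintype.card F + 1) (n := 4) (by omega) (by omega) (by omega) K fun g hg => ?_
    rcases dihedral_order (e ⟨pr F g, hg⟩) with h1 | h1
    · left
      have h2 := P_char (F := F) (p := 2) 1 (Fintype.card F + 1)
      rw [pow_one] at h2
      exact h2 (mem_P_of_equiv e hg h1)
    · right
      exact (mem_P_of_equiv e hg h1 :)
  · exact subfield_psl (p := 2) hq hr.two_le hF K e

end Elements

open Cfsg.Agent.H851.Dg in
/-- **S5734, the row `PSL_2(q)`.** -/
theorem row_psl2 : ∃ c : ℝ, 0 < c ∧ ∀ (F : Type) [Field F] [Fintype F], 4 ≤ Fintype.card F →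
    RowB c (Matrix.ProjectiveSpecialLinearGroup (Fin 2) F) := by
  refine ⟨1 / 8000000, by norm_num, fun F _ _ h4 K hK => ?_⟩
  rcases le_or_gt 200 (Fintype.card F) with hq | hq
  · have h1 : Nat.card (Matrix.ProjectiveSpecialLinearGroup (Fin 2) F) ≤ 16 * nd K := by
      rcases Nat.even_or_odd (Fintype.card F) with h | h
      · exact even_case h hq K hK
      · exact odd_case h hq K hK
    have h2 : (Nat.card (Matrix.ProjectiveSpecialLinearGroup (Fin 2) F) : ℝ) ≤ 16 * nd K := by exact_mod_cast h1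
    have h3 : (0 : ℝ) ≤ nd K := Nat.cast_nonneg _
    linarith only [h2]
  · have h1 := one_le_nd hK.1
    have h2 : Nat.card (Matrix.ProjectiveSpecialLinearGroup (Fin 2) F) ≤ 8000000 := by
      refine (card_psl_le (F := F)).trans ?_
      calc Fintype.card F * (Fintype.card F ^ 2 - 1) ≤ 200 * (200 ^ 2) := by
            apply Nat.mul_le_mul hq.le
            exact (Nat.sub_le _ _).trans (Nat.pow_le_pow_left hq.le 2)
        _ = 8000000 := by norm_num
    have h3 : (1 : ℝ) ≤ nd K := by exact_mod_cast h1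
    have h4 : (Nat.card (Matrix.ProjectiveSpecialLinearGroup (Fin 2) F) : ℝ) ≤ 8000000 := by exact_mod_cast h2
    linarith only [h3, h4]

end Cfsg.Agent.H982.DgPsl
end

-- part: H545/Dr/Fus
section
/-!
# S5734: fusion is bounded by the dimension (helper545)

* `exists_primitive_mem_spectrum` : a matrix of order `u ^ (b + 1)` has a primitive eigenvalue over the algebraic closure;
* `card_le_of_charpoly` : at most `dim` powers of `A` have the characteristic polynomial of `A`;
* `fusD_le` : hence `fusD D x ≤ dim` for `T = G / scalars`, `G` linear, `D` induced by linear maps.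
-/

set_option autoImplicit false

namespace Cfsg.Agent.H545.Dr

open Polynomial

section

variable {ι : Type*} [Fintype ι] [DecidableEq ι]

theorem exists_primitive_mem_spectrum {K : Type*} [Field K] [IsAlgClosed K] (A : Matrix ι ι K) {u b : ℕ}
    (hu : u.Prime) (huK : (u : K) ≠ 0) (h1 : A ^ u ^ (b + 1) = 1) (h2 : A ^ u ^ b ≠ 1) :
    ∃ w : K, w ∈ spectrum K A ∧ IsPrimitiveRoot w (u ^ (b + 1)) := by
  have := Fact.mk hu
  have hne : NeZero ((u ^ (b + 1) : ℕ) : K) := ⟨by rw [Nat.cast_pow]; exact pow_ne_zero _ huK⟩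
  have hc := congrArg (aeval A) (cyclotomic_prime_pow_mul_X_pow_sub_one K u b)
  rw [map_mul, map_sub, map_sub, map_pow, map_pow, aeval_X, map_one, h1, sub_self] at hc
  have hnu : ¬ IsUnit (aeval A (cyclotomic (u ^ (b + 1)) K)) := by
    intro hun
    apply h2
    have h3 := (hun.mul_right_eq_zero).1 hc
    exact sub_eq_zero.1 h3
  have hs : (cyclotomic (u ^ (b + 1)) K) = (Multiset.map (fun x : K => X - C x)
      (cyclotomic (u ^ (b + 1)) K).roots).prod :=
    (IsAlgClosed.splits _).eq_prod_roots_of_monic (cyclotomic.monic _ K)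
  rw [hs] at hnu
  obtain ⟨w, hw, hw2⟩ := spectrum.exists_mem_of_not_isUnit_aeval_prod hnu
  exact ⟨w, hw, isRoot_cyclotomic_iff.1 hw2⟩

theorem card_le_of_charpoly {K : Type*} [Field K] (A : Matrix ι ι K) {u b : ℕ}
    (hu : u.Prime) (huK : (u : K) ≠ 0) (h1 : A ^ u ^ (b + 1) = 1) (h2 : A ^ u ^ b ≠ 1) (s : Finset ℕ)
    (hs : ∀ k ∈ s, k < u ^ (b + 1)) (hs2 : ∀ k ∈ s, (A ^ k).charpoly = A.charpoly) :
    s.card ≤ Fintype.card ι := by
  classical
  let L := AlgebraicClosure K
  let f : Matrix ι ι K →+* Matrix ι ι L := (algebraMap K L).mapMatrix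
  have hinj : Function.Injective f := Matrix.map_injective (algebraMap K L).injective
  have h1' : (f A) ^ u ^ (b + 1) = 1 := by rw [← map_pow, h1, map_one]
  have h2' : (f A) ^ u ^ b ≠ 1 := by
    intro h
    rw [← map_pow, ← map_one f] at h
    exact h2 (hinj h)
  have huL : (u : L) ≠ 0 := by
    intro h
    apply huK
    apply (algebraMap K L).injective
    rw [map_natCast, h, map_zero]
  obtain ⟨w, hw, hwp⟩ := exists_primitive_mem_spectrum (f A) hu huL h1' h2'
  have h3 : ∀ k ∈ s, w ^ k ∈ (f A).charpoly.roots.toFinset := by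
    intro k hk
    rw [Multiset.mem_toFinset, mem_roots (f A).charpoly_monic.ne_zero, ← Matrix.mem_spectrum_iff_isRoot_charpoly]
    have h4 : (f (A ^ k)).charpoly = (f A).charpoly := by
      have h5 : ∀ B : Matrix ι ι K, (f B).charpoly = B.charpoly.map (algebraMap K L) := fun B =>
        Matrix.charpoly_map B (algebraMap K L)
      rw [h5, h5, hs2 k hk]
    rw [Matrix.mem_spectrum_iff_isRoot_charpoly, ← h4, ← Matrix.mem_spectrum_iff_isRoot_charpoly, map_pow]
    exact spectrum.pow_mem_pow _ _ hw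
  have h4 : (s.image fun k => w ^ k) ⊆ (f A).charpoly.roots.toFinset := by
    intro z hz
    obtain ⟨k, hk, rfl⟩ := Finset.mem_image.1 hz
    exact h3 k hk
  have h5 : (s.image fun k => w ^ k).card = s.card := by
    refine Finset.card_image_of_injOn ?_
    intro k hk l hl hkl
    exact hwp.pow_inj (hs k hk) (hs l hl) hkl
  calc s.card = (s.image fun k => w ^ k).card := h5.symm
    _ ≤ (f A).charpoly.roots.toFinset.card := Finset.card_le_card h4
    _ ≤ (f A).charpoly.roots.card := Multiset.toFinset_card_le _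
    _ ≤ (f A).charpoly.natDegree := Polynomial.card_roots' _
    _ = Fintype.card ι := Matrix.charpoly_natDegree_eq_dim _

end

section

variable {ι : Type*} [Fintype ι] [DecidableEq ι] {K : Type*} [Field K] {G T : Type*} [Group G] [Group T]

/-- lifting an element of prime power order -/
theorem exists_lift [Finite G] (σ : G →* Matrix.GeneralLinearGroup ι K) (hσ : Function.Injective σ) (π : G →* T)
    (hπ : Function.Surjective π) (hker : ∀ g : G, π g = 1 → ∃ a : K, (σ g : Matrix ι ι K) = a • 1) {u c : ℕ}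
    (hu : u.Prime) (hsc : ∀ a : K, a ^ u = 1 → a = 1) {x : T} (hx : orderOf x = u ^ c) :
    ∃ g : G, π g = x ∧ orderOf g = u ^ c := by
  obtain ⟨g₀, hg₀⟩ := hπ x
  -- the order of `g₀ ^ (u ^ c)` is prime to `u`
  have h1 : π (g₀ ^ u ^ c) = 1 := by rw [map_pow, hg₀, ← hx, pow_orderOf_eq_one]
  have h2 : ¬ u ∣ orderOf (g₀ ^ u ^ c) := by
    intro hd
    obtain ⟨m, hm⟩ := hd
    set! z := (g₀ ^ u ^ c) ^ m with hz
    have hz1 : z ^ u = 1 := by rw [hz, ← pow_mul, mul_comm m u, ← hm, pow_orderOf_eq_one]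
    have hz2 : π z = 1 := by rw [hz, map_pow, h1, one_pow]
    obtain ⟨a, ha⟩ := hker z hz2
    have hz3 : z = 1 := by
      apply hσ
      rw [map_one]
      apply Units.ext
      rw [ha, Units.val_one]
      have h4 : ((σ z : Matrix ι ι K)) ^ u = 1 := by
        rw [← Units.val_pow_eq_pow_val, ← map_pow, hz1, map_one, Units.val_one]
      rw [ha, _root_.smul_pow, one_pow] at h4
      rcases isEmpty_or_nonempty ι with hι | ⟨⟨i⟩⟩
      · exact Subsingleton.elim _ _
      · have h5 := congrFun (congrFun h4 i) i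
        rw [Matrix.smul_apply, Matrix.one_apply_eq, smul_eq_mul, mul_one] at h5
        rw [hsc a h5, one_smul]
    have h4 : orderOf (g₀ ^ u ^ c) ∣ m := orderOf_dvd_of_pow_eq_one hz3
    have h5 : 0 < orderOf (g₀ ^ u ^ c) := orderOf_pos _
    have h6 : 0 < m := by
      rcases Nat.eq_zero_or_pos m with h | h
      · rw [h, mul_zero] at hm; omega
      · exact h
    have h7 := Nat.le_of_dvd h6 h4
    rw [hm] at h7
    have h8 : 2 * m ≤ u * m := Nat.mul_le_mul_right _ hu.two_le
    omega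
  set t := orderOf (g₀ ^ u ^ c) with ht
  have hcop : Nat.Coprime (u ^ c) t := Nat.Coprime.pow_left _ ((Nat.Prime.coprime_iff_not_dvd hu).2 h2)
  -- `t t' = 1` modulo `u ^ c`
  obtain ⟨g, hg1, hg2⟩ : ∃ g : G, π g = x ∧ g ^ u ^ c = 1 := by
    obtain ⟨t', ht'⟩ := exists_pow_eq_self_of_coprime (x := x) (n := t) (by rw [hx]; exact hcop.symm)
    refine ⟨(g₀ ^ t) ^ t', ?_, ?_⟩
    · rw [map_pow, map_pow, hg₀, ht']
    · rw [← pow_mul, ← pow_mul, show t * (t' * u ^ c) = u ^ c * t * t' by ring, pow_mul, pow_mul, ht,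
        pow_orderOf_eq_one, one_pow]
  refine ⟨g, hg1, Nat.dvd_antisymm (orderOf_dvd_of_pow_eq_one hg2) ?_⟩
  rw [← hx, ← hg1]
  exact orderOf_map_dvd π g

/-- **The fusion is bounded by the dimension.** -/
theorem fusD_le [Finite G] (σ : G →* Matrix.GeneralLinearGroup ι K) (hσ : Function.Injective σ) (π : G →* T)
    (hπ : Function.Surjective π) (hker : ∀ g : G, π g = 1 → ∃ a : K, (σ g : Matrix ι ι K) = a • 1) {u b : ℕ}
    (hu : u.Prime) (huK : (u : K) ≠ 0) (hsc : ∀ a : K, a ^ u = 1 → a = 1) (D : Subgroup (MulAut T))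
    (hD : ∀ α ∈ D, ∃ P : Matrix.GeneralLinearGroup ι K, ∀ g h : G, π h = α (π g) →
      ∃ a : K, (σ h : Matrix ι ι K) = a • ((P * σ g * P⁻¹ : Matrix.GeneralLinearGroup ι K) : Matrix ι ι K))
    {x : T} (hx : orderOf x = u ^ (b + 1)) : fusD D x ≤ Fintype.card ι := by
  classical
  obtain ⟨g, hg, hgo⟩ := exists_lift σ hσ π hπ hker hu hsc hx
  set! A : Matrix ι ι K := (σ g : Matrix ι ι K) with hA
  have hpow : ∀ n : ℕ, (σ (g ^ n) : Matrix ι ι K) = A ^ n := fun n => by
    rw [map_pow, Units.val_pow_eq_pow_val]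
  have h1 : A ^ u ^ (b + 1) = 1 := by rw [← hpow, ← hgo, pow_orderOf_eq_one, map_one, Units.val_one]
  have h2 : A ^ u ^ b ≠ 1 := by
    intro h
    rw [← hpow] at h
    have h3 : g ^ u ^ b = 1 := by
      apply hσ
      rw [map_one]
      exact Units.ext h
    have h4 := orderOf_dvd_of_pow_eq_one h3
    rw [hgo, Nat.pow_dvd_pow_iff_le_right hu.one_lt] at h4
    omega
  have hscb : ∀ (n : ℕ) (a : K), a ^ u ^ n = 1 → a = 1 := by
    intro n
    induction n with
    | zero => intro a ha; simpa using ha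
    | succ n ih =>
      intro a ha
      rw [pow_succ, pow_mul] at ha
      exact ih a (hsc _ ha)
  set! s := (Finset.range (u ^ (b + 1))).filter fun k => (A ^ k).charpoly = A.charpoly with hs
  have hcard : fusD D x ≤ s.card := by
    have hmem : ∀ k : ℕ, k < u ^ (b + 1) → (∃ α ∈ D, α x = x ^ k) → k ∈ s := by
      rintro k hk ⟨α, hα, hαx⟩
      rw [hs, Finset.mem_filter, Finset.mem_range]
      refine ⟨hk, ?_⟩
      obtain ⟨P, hP⟩ := hD α hα
      obtain ⟨a, ha⟩ := hP g (g ^ k) (by rw [map_pow, hg, hαx])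
      rw [hpow] at ha
      set B : Matrix ι ι K := ((P * σ g * P⁻¹ : Matrix.GeneralLinearGroup ι K) : Matrix ι ι K) with hB
      have hBp : ∀ n : ℕ, B ^ n = ((P * σ (g ^ n) * P⁻¹ : Matrix.GeneralLinearGroup ι K) : Matrix ι ι K) := by
        intro n
        rw [hB, ← Units.val_pow_eq_pow_val, conj_pow, map_pow]
      have hB1 : B ^ u ^ (b + 1) = 1 := by
        rw [hBp, ← hgo, pow_orderOf_eq_one, map_one, mul_one, mul_inv_cancel, Units.val_one]
      have ha1 : a = 1 ∨ IsEmpty ι := by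
        rcases isEmpty_or_nonempty ι with hι | ⟨⟨i⟩⟩
        · exact Or.inr hι
        · left
          apply hscb (b + 1)
          have h5 : (A ^ k) ^ u ^ (b + 1) = a ^ u ^ (b + 1) • (1 : Matrix ι ι K) := by
            rw [ha, _root_.smul_pow, hB1]
          rw [← pow_mul, mul_comm k, pow_mul, h1, one_pow] at h5
          have h6 := congrFun (congrFun h5 i) i
          rw [Matrix.smul_apply, Matrix.one_apply_eq, smul_eq_mul, mul_one] at h6
          exact h6.symm
      rcases ha1 with rfl | hι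
      · rw [ha, one_smul, hB]
        have h6 : ((P * σ g * P⁻¹ : Matrix.GeneralLinearGroup ι K) : Matrix ι ι K) =
            (P : Matrix ι ι K) * A * ((P⁻¹ : Matrix.GeneralLinearGroup ι K) : Matrix ι ι K) := by
          rw [Units.val_mul, Units.val_mul]
        rw [h6]
        rw [Matrix.coe_units_inv]
        exact Matrix.charpoly_units_conj P A
      · congr 1
        exact Subsingleton.elim _ _
    -- inject
    have hex : ∀ y : {y : T // y ∈ Subgroup.zpowers x ∧ ∃ α ∈ D, α x = y}, ∃ k : ℕ, k < u ^ (b + 1) ∧ x ^ k = y.1 := by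
      rintro ⟨y, hy, -⟩
      have hfin : IsOfFinOrder x := by
        rw [← orderOf_pos_iff, hx]; exact pow_pos hu.pos _
      obtain ⟨k, hk, hk2⟩ := hfin.mem_zpowers_iff_mem_range_orderOf.1 hy |> Finset.mem_image.1
      rw [Finset.mem_range, hx] at hk
      exact ⟨k, hk, hk2⟩
    choose κ hκ1 hκ2 using hex
    have h3 : Nat.card {y : T // y ∈ Subgroup.zpowers x ∧ ∃ α ∈ D, α x = y} ≤ Nat.card s := by
      refine Nat.card_le_card_of_injective (fun y => ⟨κ y, hmem _ (hκ1 y) ?_⟩) ?_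
      · obtain ⟨α, hα, hαx⟩ := y.2.2
        exact ⟨α, hα, by rw [hαx, hκ2 y]⟩
      · intro y y' hyy
        have h4 : κ y = κ y' := Subtype.mk.inj hyy
        apply Subtype.ext
        rw [← hκ2 y, ← hκ2 y', h4]
    rw [Nat.card_eq_fintype_card (α := s), Fintype.card_coe] at h3
    exact h3
  refine hcard.trans (card_le_of_charpoly A hu huK h1 h2 s ?_ ?_)
  · intro k hk
    rw [hs, Finset.mem_filter, Finset.mem_range] at hk
    exact hk.1
  · intro k hk
    rw [hs, Finset.mem_filter] at hk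
    exact hk.2

/-- The inner automorphisms. -/
theorem fus_le [Finite G] (σ : G →* Matrix.GeneralLinearGroup ι K) (hσ : Function.Injective σ) (π : G →* T)
    (hπ : Function.Surjective π) (hker : ∀ g : G, π g = 1 → ∃ a : K, (σ g : Matrix ι ι K) = a • 1) {u b : ℕ}
    (hu : u.Prime) (huK : (u : K) ≠ 0) (hsc : ∀ a : K, a ^ u = 1 → a = 1)
    {x : T} (hx : orderOf x = u ^ (b + 1)) : fus x ≤ Fintype.card ι := by
  have h1 : fus x = fusD (MulAut.conj (G := T)).range x := by
    unfold fusD fus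
    refine Nat.card_congr (Equiv.subtypeEquivRight fun y => and_congr_right fun _ => ?_)
    rw [isConj_iff]
    constructor
    · rintro ⟨t, h⟩
      exact ⟨_, ⟨t, rfl⟩, h⟩
    · rintro ⟨_, ⟨t, rfl⟩, h⟩
      exact ⟨t, h⟩
  rw [h1]
  refine fusD_le σ hσ π hπ hker hu huK hsc _ ?_ hx
  rintro _ ⟨t, rfl⟩
  obtain ⟨z, rfl⟩ := hπ t
  refine ⟨σ z, fun g h hgh => ?_⟩
  rw [MulAut.conj_apply, ← map_mul, ← map_inv, ← map_mul] at hgh
  obtain ⟨a, ha⟩ := hker (h * (z * g * z⁻¹)⁻¹) (by rw [map_mul, hgh, map_inv, mul_inv_cancel])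
  refine ⟨a, ?_⟩
  have h2 : σ h = σ (h * (z * g * z⁻¹)⁻¹) * (σ z * σ g * (σ z)⁻¹) := by
    rw [← map_inv σ z, ← map_mul, ← map_mul, ← map_mul]
    congr 1
    group
  rw [h2, Units.val_mul, ha, smul_mul_assoc, one_mul]

end

end Cfsg.Agent.H545.Dr
end

-- part: H545/Dr/Big
section
/-!
# S5734: missing prime powers in the symplectic and orthogonal groups (helper545)

* `goodD_of_cyc` : the general step inside `T`;
* `out_dim_psp`, `out_dim_oodd`, `out_dim_oplus`, `out_dim_ominus` : `|Out T| dim ≤ 144 log |T : M|`;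
* `good_psp`, ... : a missing power of a large prime gives `GoodD`.
-/

set_option autoImplicit false
set_option linter.unusedSectionVars false
set_option linter.style.haveILetI false

namespace Cfsg.Agent.H545.Dr

open Cfsg Cfsg.Agent.H851.Dg Cfsg.Agent.OrdDiv

section

variable {T : Type*} [Group T] [Finite T]

theorem goodD_of_cyc {C : ℝ} {M : Subgroup T} {u j N : ℕ} (hu : u.Prime) (hcyc : CycP u T) (hj : 1 ≤ j)
    (hT : u ^ j ∣ Nat.card T) (hM : ¬ u ^ j ∣ Nat.card M) (hfus : ∀ x : T, orderOf x = u ^ (j - 1 + 1) → fus x ≤ N)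
    (hC : (outCard T : ℝ) * (N : ℝ) ≤ C * Real.log (M.index : ℝ)) : GoodD C T M := by
  haveI := Fact.mk hu
  obtain ⟨P, hP⟩ := Sylow.exists_subgroup_card_pow_prime u hT
  have hPu : IsPGroup u P := IsPGroup.of_card hP
  haveI := hcyc P hPu
  obtain ⟨x, hx⟩ := IsCyclic.exists_ofOrder_eq_natCard (α := P)
  rw [hP] at hx
  have hx' : orderOf (x : T) = u ^ j := by rw [Subgroup.orderOf_coe, hx]
  have hj' : j - 1 + 1 = j := by omega
  refine goodD_inn hu (by omega : j ≠ 0) hx' (fun Q _ _ hQ => hcyc Q hQ) ?_ ?_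
  · intro α hα
    apply hM
    have h1 : orderOf (α (x : T)) = u ^ j := by
      rw [← hx']
      exact orderOf_injective α.toMonoidHom α.injective (x : T)
    rw [← h1, ← Subgroup.orderOf_mk (α (x : T)) hα]
    exact orderOf_dvd_natCard _
  · refine le_trans ?_ hC
    refine mul_le_mul_of_nonneg_left ?_ (Nat.cast_nonneg _)
    have h2 := hfus (x : T) (by rw [hj', hx'])
    exact_mod_cast h2

/-- `outCard` from the order of the automorphism group -/
theorem outCard_eq [IsSimpleGroup T] (hna : ¬ IsMulCommutative T) {n : ℕ}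
    (h : Nat.card (MulAut T) = n * Nat.card T) : outCard T = n := by
  have h1 := H934.OutB.card_out_of_aut hna h
  rw [← h1]
  rfl

theorem estimate {M : Subgroup T} {o N k a f p : ℕ} (hp : 2 ≤ p) (hidx : (p ^ f) ^ a ≤ M.index)
    (h : o * N ≤ k * (a * f)) : (o : ℝ) * (N : ℝ) ≤ (2 * k : ℕ) * Real.log (M.index : ℝ) := by
  have h1 : (2 : ℝ) ^ (a * f) ≤ (M.index : ℝ) := by
    have h2 : 2 ^ (a * f) ≤ M.index := by
      refine le_trans ?_ hidx
      rw [← pow_mul, mul_comm f a]
      exact Nat.pow_le_pow_left hp _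
    exact_mod_cast h2
  have h2 : (a * f : ℕ) * Real.log 2 ≤ Real.log (M.index : ℝ) := by
    rw [← Real.log_pow]
    exact Real.log_le_log (by positivity) h1
  have h3 : (1 : ℝ) / 2 ≤ Real.log 2 := by
    have := Real.log_two_gt_d9
    linarith only [this]
  have h4 : (o : ℝ) * (N : ℝ) ≤ (k : ℝ) * ((a * f : ℕ) : ℝ) := by exact_mod_cast h
  have h5 : (0 : ℝ) ≤ ((a * f : ℕ) : ℝ) := Nat.cast_nonneg _
  have h6 : (0 : ℝ) ≤ (k : ℝ) := Nat.cast_nonneg _
  have h7 : ((a * f : ℕ) : ℝ) ≤ 2 * Real.log (M.index : ℝ) := by nlinarith only [h2, h3]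
  calc (o : ℝ) * (N : ℝ) ≤ (k : ℝ) * ((a * f : ℕ) : ℝ) := h4
    _ ≤ (k : ℝ) * (2 * Real.log (M.index : ℝ)) := mul_le_mul_of_nonneg_left h7 h6
    _ = _ := by push_cast; ring

end

section field

variable {F : Type} [Field F] [Fintype F] {u : ℕ}

theorem cast_ne_zero_of_order (hu : u.Prime) (he : 2 ≤ orderOf ((Fintype.card F : ℕ) : ZMod u)) : (u : F) ≠ 0 := by
  intro h0
  haveI := Fact.mk hu
  obtain ⟨p, hp⟩ := CharP.exists F
  haveI := hp
  have hpp : p.Prime := CharP.char_is_prime F p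
  have h1 : p ∣ u := (CharP.cast_eq_zero_iff F p u).1 h0
  have h2 : p = u := (Nat.prime_dvd_prime_iff_eq hpp hu).1 h1
  subst h2
  obtain ⟨n, -, hn⟩ := FiniteField.card F p
  rw [hn, Nat.cast_pow, ZMod.natCast_self, zero_pow n.ne_zero] at he
  have h3 : orderOf (0 : ZMod p) = 0 := orderOf_eq_zero_iff'.2 fun k hk => by
    rw [zero_pow hk.ne']
    exact zero_ne_one
  omega

theorem scal_of_order (hu : u.Prime) (he : 2 ≤ orderOf ((Fintype.card F : ℕ) : ZMod u)) :
    ∀ a : F, a ^ u = 1 → a = 1 := by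
  intro a ha
  have ha0 : a ≠ 0 := by
    rintro rfl
    rw [zero_pow hu.ne_zero] at ha
    exact zero_ne_one ha
  have h1 : a ^ (Fintype.card F - 1) = 1 := FiniteField.pow_card_sub_one_eq_one a ha0
  have h2 : ¬ u ∣ Fintype.card F - 1 := by
    intro hd
    have hq : 1 ≤ Fintype.card F := Fintype.card_pos
    have h3 : ((Fintype.card F : ℕ) : ZMod u) = 1 := by
      have h4 : ((Fintype.card F - 1 : ℕ) : ZMod u) = 0 := (ZMod.natCast_eq_zero_iff _ _).2 hd
      rw [Nat.cast_sub hq, Nat.cast_one, sub_eq_zero] at h4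
      exact h4
    rw [h3, orderOf_one] at he
    omega
  have h3 : orderOf a ∣ 1 := by
    have h4 : Nat.gcd u (Fintype.card F - 1) = 1 := (Nat.Prime.coprime_iff_not_dvd hu).2 h2
    rw [← h4]
    exact Nat.dvd_gcd (orderOf_dvd_of_pow_eq_one ha) (orderOf_dvd_of_pow_eq_one h1)
  exact orderOf_eq_one_iff.1 (Nat.dvd_one.1 h3)

/-- fusion in `PSp` -/
theorem fus_psp {m b : ℕ} (hu : u.Prime) (he : 2 ≤ orderOf ((Fintype.card F : ℕ) : ZMod u)) {x : PSp m F}
    (hx : orderOf x = u ^ (b + 1)) : fus x ≤ 2 * m := by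
  haveI : Finite (Matrix.symplecticGroup (Fin m) F) := Subtype.finite
  haveI : Finite (PSp m F) := inferInstance
  have h1 := fus_le (ι := Fin m ⊕ Fin m) (K := F)
    (MonoidHom.toHomUnits (Matrix.symplecticGroup (Fin m) F).subtype)
    (fun a b hab => Subtype.ext (congrArg Units.val hab))
    (QuotientGroup.mk' (Subgroup.center (Matrix.symplecticGroup (Fin m) F))) (QuotientGroup.mk'_surjective _)
    (fun k hk => by
      have h1 := (QuotientGroup.eq_one_iff k).1 hk
      exact (LieClassical.SympCenter.mem_center_iff m k).1 h1)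
    hu (cast_ne_zero_of_order hu he) (scal_of_order hu he) hx
  rw [Fintype.card_sum, Fintype.card_fin] at h1
  omega

/-- fusion in `PΩ` -/
theorem fus_pomega {ι : Type} [Fintype ι] [DecidableEq ι] (Q : QuadraticForm F (ι → F))
    (hQ : (QuadraticMap.polarBilin Q).Nondegenerate) (h3 : 3 ≤ Fintype.card ι) (hs : ∃ u : ι → F, u ≠ 0 ∧ Q u = 0)
    {b : ℕ} (hu : u.Prime) (he : 2 ≤ orderOf ((Fintype.card F : ℕ) : ZMod u)) {x : POmega F (⇑Q)}
    (hx : orderOf x = u ^ (b + 1)) : fus x ≤ Fintype.card ι := by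
  haveI : Finite (isometryGroup F (⇑Q)) := inferInstance
  haveI : Finite (POmega F (⇑Q)) := inferInstance
  exact fus_le (ι := ι) (K := F) ((isometryGroup F (⇑Q)).subtype.comp (Omega F (⇑Q)).subtype)
    ((Subgroup.subtype_injective _).comp (Subgroup.subtype_injective _))
    (QuotientGroup.mk' (Subgroup.center (Omega F (⇑Q)))) (QuotientGroup.mk'_surjective _)
    (fun k hk => by
      have h1 := (QuotientGroup.eq_one_iff k).1 hk
      rcases (LieClassical.OmegaCenter.mem_center_omega_iff Q hQ h3 hs k).1 h1 with h2 | h2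
      · exact ⟨1, by rw [one_smul]; exact h2⟩
      · exact ⟨-1, by rw [neg_one_smul]; exact h2⟩)
    hu (cast_ne_zero_of_order hu he) (scal_of_order hu he) hx

/-! ### `|Out T| dim ≤ 144 log |T : M|` -/

theorem out_dim_psp {m : ℕ} (hm : 3 ≤ m) (hs : IsSimpleGroup (PSp m F)) (hna : ¬ IsMulCommutative (PSp m F))
    {M : Subgroup (PSp m F)} (hM : M ≠ ⊤) :
    (outCard (PSp m F) : ℝ) * ((2 * m : ℕ) : ℝ) ≤ 144 * Real.log (M.index : ℝ) := by
  obtain ⟨p, f, hp, hf, hF⟩ := H934.OutCl.exists_pf F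
  have := Fact.mk hp
  haveI : Finite (Matrix.symplecticGroup (Fin m) F) := Subtype.finite
  haveI : Finite (PSp m F) := inferInstance
  have h1 := S0814.result (F := F) p f hf hF m (by omega) (by omega)
  have h2 := outCard_eq hna h1
  have h3 : outCard (PSp m F) ≤ 2 * f := by
    rw [h2, if_neg (by omega), one_mul]
    exact Nat.mul_le_mul_right _ (Nat.gcd_le_left _ (by norm_num))
  have h4 := H934.IdxCl.psp (by omega) hs M hM
  rw [hF] at h4
  have h5 := estimate (o := outCard (PSp m F)) (N := 2 * m) (k := 72) hp.two_le h4 (by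
    obtain ⟨k, rfl⟩ : ∃ k, m = k + 3 := ⟨m - 3, by omega⟩
    calc outCard (PSp (k + 3) F) * (2 * (k + 3)) ≤ (2 * f) * (2 * (k + 3)) := Nat.mul_le_mul_right _ h3
      _ ≤ 72 * ((k + 3 - 1) * f) := by
        rw [show k + 3 - 1 = k + 2 by omega]
        nlinarith only [])
  exact_mod_cast h5

theorem out_dim_oodd {m : ℕ} (hm : 3 ≤ m) (hodd : Odd (Fintype.card F))
    (hs : IsSimpleGroup (POmega F (quadFormOdd m F))) (hna : ¬ IsMulCommutative (POmega F (quadFormOdd m F)))
    {M : Subgroup (POmega F (quadFormOdd m F))} (hM : M ≠ ⊤) :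
    (outCard (POmega F (quadFormOdd m F)) : ℝ) * ((2 * m + 1 : ℕ) : ℝ) ≤ 144 * Real.log (M.index : ℝ) := by
  obtain ⟨p, f, hp, hf, hF⟩ := H934.OutCl.exists_pf F
  have := Fact.mk hp
  haveI : Finite (isometryGroup F (quadFormOdd m F)) := inferInstance
  haveI : Finite (POmega F (quadFormOdd m F)) := inferInstance
  have hpo : Odd p := by
    rw [hF] at hodd
    exact Nat.Odd.of_mul_left (n := p ^ (f - 1)) (by rwa [← pow_succ', Nat.sub_add_cancel hf])
  have h1 := S0816.result (F := F) p f hf hF hpo m hm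
  have h2 := outCard_eq hna h1
  have h4 := H934.IdxCl.pomega_odd (by omega) hs M hM
  rw [hF] at h4
  have h5 := estimate (o := outCard (POmega F (quadFormOdd m F))) (N := 2 * m + 1) (k := 72) hp.two_le h4 (by
    rw [h2]
    obtain ⟨k, rfl⟩ : ∃ k, m = k + 3 := ⟨m - 3, by omega⟩
    rw [show k + 3 - 1 = k + 2 by omega]
    nlinarith only [])
  exact_mod_cast h5

theorem out_dim_oplus {m : ℕ} (hm : 4 ≤ m)
    (hs : IsSimpleGroup (POmega F (quadFormPlus m F))) (hna : ¬ IsMulCommutative (POmega F (quadFormPlus m F)))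
    {M : Subgroup (POmega F (quadFormPlus m F))} (hM : M ≠ ⊤) :
    (outCard (POmega F (quadFormPlus m F)) : ℝ) * ((2 * m : ℕ) : ℝ) ≤ 144 * Real.log (M.index : ℝ) := by
  obtain ⟨p, f, hp, hf, hF⟩ := H934.OutCl.exists_pf F
  have := Fact.mk hp
  haveI : Finite (isometryGroup F (quadFormPlus m F)) := inferInstance
  haveI : Finite (POmega F (quadFormPlus m F)) := inferInstance
  have h1 := S0817.result (F := F) p f hf hF m hm
  have h2 := outCard_eq hna h1
  have h3 : outCard (POmega F (quadFormPlus m F)) ≤ 24 * f := by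
    rw [h2]
    apply Nat.mul_le_mul_right
    split_ifs <;> norm_num
  have h4 := H934.IdxCl.pomega_plus (by omega) hs M hM
  rw [hF] at h4
  have h5 := estimate (o := outCard (POmega F (quadFormPlus m F))) (N := 2 * m) (k := 72) hp.two_le h4 (by
    refine (Nat.mul_le_mul_right _ h3).trans ?_
    obtain ⟨k, rfl⟩ : ∃ k, m = k + 4 := ⟨m - 4, by omega⟩
    rw [show k + 4 - 1 = k + 3 by omega]
    nlinarith only [])
  exact_mod_cast h5

theorem out_dim_ominus {m : ℕ} (hm : 4 ≤ m) (a b : F)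
    (hab : ∀ z₁ z₂ : F, z₁ ^ 2 + a * z₁ * z₂ + b * z₂ ^ 2 = 0 → z₁ = 0 ∧ z₂ = 0)
    (hs : IsSimpleGroup (POmega F (quadFormMinus (m - 1) F a b)))
    (hna : ¬ IsMulCommutative (POmega F (quadFormMinus (m - 1) F a b)))
    {M : Subgroup (POmega F (quadFormMinus (m - 1) F a b))} (hM : M ≠ ⊤) :
    (outCard (POmega F (quadFormMinus (m - 1) F a b)) : ℝ) * ((2 * m : ℕ) : ℝ) ≤ 144 * Real.log (M.index : ℝ) := by
  obtain ⟨p, f, hp, hf, hF⟩ := H934.OutCl.exists_pf F
  have := Fact.mk hp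
  haveI : Finite (isometryGroup F (quadFormMinus (m - 1) F a b)) := inferInstance
  haveI : Finite (POmega F (quadFormMinus (m - 1) F a b)) := inferInstance
  have h1 := S0818.result (F := F) p f hf hF m hm a b hab
  have h2 := outCard_eq hna h1
  have h3 : outCard (POmega F (quadFormMinus (m - 1) F a b)) ≤ 8 * f := by
    rw [h2]
    apply Nat.mul_le_mul_right
    split_ifs <;> norm_num
  have h4 := H934.IdxCl.pomega_minus (m := m - 1) (by omega) a b hs M hM
  rw [hF] at h4
  have h5 := estimate (o := outCard (POmega F (quadFormMinus (m - 1) F a b))) (N := 2 * m) (k := 72) hp.two_le h4 (by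
    refine (Nat.mul_le_mul_right _ h3).trans ?_
    obtain ⟨k, rfl⟩ : ∃ k, m = k + 4 := ⟨m - 4, by omega⟩
    rw [show k + 4 - 1 - 1 = k + 2 by omega]
    nlinarith only [])
  exact_mod_cast h5

/-! ### A missing prime power -/

theorem two_le_of_bigU {m q u : ℕ} (hm : 2 ≤ m) (h : (Even (orderOf ((q : ℕ) : ZMod u)) ∧
    m < orderOf ((q : ℕ) : ZMod u) ∧ orderOf ((q : ℕ) : ZMod u) ≤ 2 * m) ∨ (Odd (orderOf ((q : ℕ) : ZMod u)) ∧
      m < 2 * orderOf ((q : ℕ) : ZMod u) ∧ orderOf ((q : ℕ) : ZMod u) ≤ m)) : 2 ≤ orderOf ((q : ℕ) : ZMod u) := by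
  rcases h with ⟨-, h, -⟩ | ⟨-, h, -⟩ <;> omega

theorem good_psp {m : ℕ} (hm : 3 ≤ m) (hs : IsSimpleGroup (PSp m F)) (hna : ¬ IsMulCommutative (PSp m F))
    {M : Subgroup (PSp m F)} (hM : M ≠ ⊤)
    (hcyc : ∀ u, BigU (.psp m (Fintype.card F)) u → CycP u (PSp m F)) (h : BigPow (.psp m (Fintype.card F)) M) :
    GoodD 144 (PSp m F) M := by
  haveI : Finite (Matrix.symplecticGroup (Fin m) F) := Subtype.finite
  haveI : Finite (PSp m F) := inferInstance
  obtain ⟨u, j, hu, hj, hT, hR⟩ := h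
  have he := two_le_of_bigU (by omega) hu.2
  exact goodD_of_cyc hu.1 (hcyc u hu) hj hT hR (fun x hx => fus_psp hu.1 he hx) (out_dim_psp hm hs hna hM)

theorem good_oodd {m : ℕ} (hm : 3 ≤ m) (hodd : Odd (Fintype.card F))
    (hs : IsSimpleGroup (POmega F (quadFormOdd m F))) (hna : ¬ IsMulCommutative (POmega F (quadFormOdd m F)))
    {M : Subgroup (POmega F (quadFormOdd m F))} (hM : M ≠ ⊤)
    (hcyc : ∀ u, BigU (.oodd m (Fintype.card F)) u → CycP u (POmega F (quadFormOdd m F)))
    (h : BigPow (.oodd m (Fintype.card F)) M) : GoodD 144 (POmega F (quadFormOdd m F)) M := by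
  haveI : Finite (isometryGroup F (quadFormOdd m F)) := inferInstance
  haveI : Finite (POmega F (quadFormOdd m F)) := inferInstance
  obtain ⟨u, j, hu, hj, hT, hR⟩ := h
  have he := two_le_of_bigU (by omega) hu.2
  refine goodD_of_cyc hu.1 (hcyc u hu) hj hT hR ?_ (out_dim_oodd hm hodd hs hna hM)
  have h2 : (2 : F) ≠ 0 := by
    intro h0
    obtain ⟨p, hp⟩ := CharP.exists F
    haveI := hp
    have hpp : p.Prime := CharP.char_is_prime F p
    have h1 : p ∣ 2 := (CharP.cast_eq_zero_iff F p 2).1 (by exact_mod_cast h0)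
    have h2 : p = 2 := (Nat.prime_dvd_prime_iff_eq hpp Nat.prime_two).1 h1
    obtain ⟨n, -, hn⟩ := FiniteField.card F p
    rw [hn, h2] at hodd
    exact (Nat.not_odd_iff_even.2 (even_two.pow_of_ne_zero n.ne_zero)) hodd
  have hcard : Fintype.card (Unit ⊕ (Fin m ⊕ Fin m)) = 2 * m + 1 := by simp only [_root_.Fintype.card_sum, _root_.Fintype.card_unique, _root_.Fintype.card_fin]; ring
  have key : ∀ x : POmega F (⇑(LieClassical.OmegaReindex.quadOdd m F)), orderOf x = u ^ (j - 1 + 1) →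
      fus x ≤ 2 * m + 1 := by
    intro x hx
    rw [← hcard]
    exact fus_pomega (LieClassical.OmegaReindex.quadOdd m F) (LieClassical.OmegaReindex.quadOdd_nondegenerate h2)
      (by rw [hcard]; omega) (LieClassical.OmegaReindex.quadOdd_isotropic (by omega)) hu.1 he hx
  rw [LieClassical.OmegaReindex.coe_quadOdd] at key
  exact key

theorem good_oplus {m : ℕ} (hm : 4 ≤ m)
    (hs : IsSimpleGroup (POmega F (quadFormPlus m F))) (hna : ¬ IsMulCommutative (POmega F (quadFormPlus m F)))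
    {M : Subgroup (POmega F (quadFormPlus m F))} (hM : M ≠ ⊤)
    (hcyc : ∀ u, BigU (.oplus m (Fintype.card F)) u → CycP u (POmega F (quadFormPlus m F)))
    (h : BigPow (.oplus m (Fintype.card F)) M) : GoodD 144 (POmega F (quadFormPlus m F)) M := by
  haveI : Finite (isometryGroup F (quadFormPlus m F)) := inferInstance
  haveI : Finite (POmega F (quadFormPlus m F)) := inferInstance
  obtain ⟨u, j, hu, hj, hT, hR⟩ := h
  have he : 2 ≤ orderOf ((Fintype.card F : ℕ) : ZMod u) := by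
    rcases hu.2 with ⟨-, h, -⟩ | ⟨-, h, -⟩ <;> omega
  refine goodD_of_cyc hu.1 (hcyc u hu) hj hT hR ?_ (out_dim_oplus hm hs hna hM)
  have hcard : Fintype.card (Fin m ⊕ Fin m) = 2 * m := by simp only [_root_.Fintype.card_sum, _root_.Fintype.card_fin]; ring
  have key : ∀ x : POmega F (⇑(LieClassical.OmegaReindex.quadPlus m F)), orderOf x = u ^ (j - 1 + 1) →
      fus x ≤ 2 * m := by
    intro x hx
    rw [← hcard]
    exact fus_pomega (LieClassical.OmegaReindex.quadPlus m F) LieClassical.OmegaReindex.quadPlus_nondegenerate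
      (by rw [hcard]; omega) (LieClassical.OmegaReindex.quadPlus_isotropic (by omega)) hu.1 he hx
  rw [LieClassical.OmegaReindex.coe_quadPlus] at key
  exact key

theorem good_ominus {m : ℕ} (hm : 4 ≤ m) (a b : F)
    (hab : ∀ z₁ z₂ : F, z₁ ^ 2 + a * z₁ * z₂ + b * z₂ ^ 2 = 0 → z₁ = 0 ∧ z₂ = 0)
    (hs : IsSimpleGroup (POmega F (quadFormMinus (m - 1) F a b)))
    (hna : ¬ IsMulCommutative (POmega F (quadFormMinus (m - 1) F a b)))
    {M : Subgroup (POmega F (quadFormMinus (m - 1) F a b))} (hM : M ≠ ⊤)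
    (hcyc : ∀ u, BigU (.ominus m (Fintype.card F)) u → CycP u (POmega F (quadFormMinus (m - 1) F a b)))
    (h : BigPow (.ominus m (Fintype.card F)) M) : GoodD 144 (POmega F (quadFormMinus (m - 1) F a b)) M := by
  haveI : Finite (isometryGroup F (quadFormMinus (m - 1) F a b)) := inferInstance
  haveI : Finite (POmega F (quadFormMinus (m - 1) F a b)) := inferInstance
  obtain ⟨u, j, hu, hj, hT, hR⟩ := h
  have he : 2 ≤ orderOf ((Fintype.card F : ℕ) : ZMod u) := by
    rcases hu.2 with ⟨-, h, -⟩ | ⟨-, h, -⟩ <;> omega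
  refine goodD_of_cyc hu.1 (hcyc u hu) hj hT hR ?_ (out_dim_ominus hm a b hab hs hna hM)
  have hcard : Fintype.card ((Fin (m - 1) ⊕ Fin (m - 1)) ⊕ Fin 2) = 2 * m := by simp only [_root_.Fintype.card_sum, _root_.Fintype.card_fin]; omega
  have key : ∀ x : POmega F (⇑(LieClassical.OmegaReindex.quadMinus (m - 1) F a b)), orderOf x = u ^ (j - 1 + 1) →
      fus x ≤ 2 * m := by
    intro x hx
    rw [← hcard]
    exact fus_pomega (LieClassical.OmegaReindex.quadMinus (m - 1) F a b)
      (LieClassical.OmegaReindex.quadMinus_nondegenerate hab)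
      (by rw [hcard]; omega) (LieClassical.OmegaReindex.quadMinus_isotropic (by omega) a b) hu.1 he hx
  rw [LieClassical.OmegaReindex.coe_quadMinus] at key
  exact key

end field

end Cfsg.Agent.H545.Dr
end

-- part: H491/Dp/Psl
section
/-!
# Good primes of `PSL_n(q)` and the almost simple groups with socle `PSL_n(q)` (helper491, project S5734, DP9)

* `PSL.goodD` : `GoodP D u n`, `D ≤ Aut (PSL_n(F))` the image of `GL_n(F)`, `LevP (.psl n q) u`;
* `PSL.good` : `GoodP (PSL_n(F)) u n`;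
* `PSL.big` : `|G| ≤ 2 f (2 n) #ders H`, `G` almost simple with socle `PSL_n(F)`, `u ∣ |N : H ∩ N|`.
-/

set_option autoImplicit false

namespace Cfsg.Agent.H491.Dp

open Subgroup Cfsg Cfsg.Agent.H192.Dp Cfsg.Agent.H436 Matrix
open Cfsg.Agent.ClassicalGeometry.AutPSL.Root
open Cfsg.Agent.ClassicalGeometry.AutPSL.Auto
open Cfsg.Agent.ClassicalGeometry.AutPSL.Main

/-! ### Arithmetic -/

theorem dvd_iff_of_order {q u e : ℕ} (hq : 0 < q) (h : orderOf (q : ZMod u) = e) (j : ℕ) :
    u ∣ q ^ j - 1 ↔ e ∣ j := by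
  rw [← h, orderOf_dvd_iff_pow_eq_one, ← Nat.cast_pow]
  have h1 : 1 ≤ q ^ j := Nat.one_le_pow _ _ hq
  constructor
  · rintro h2
    have h3 : ((q ^ j - 1 : ℕ) : ZMod u) = 0 := (ZMod.natCast_eq_zero_iff _ _).2 h2
    rw [Nat.cast_sub h1, Nat.cast_one] at h3
    exact sub_eq_zero.1 h3
  · intro h2
    rw [← ZMod.natCast_eq_zero_iff, Nat.cast_sub h1, h2, Nat.cast_one, sub_self]

namespace PSL

section

variable {F : Type*} [Field F] [Fintype F] {n : ℕ}

/-- the action of `GL_n(F)` on `PSL_n(F)` -/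
def hom (n : ℕ) (F : Type*) [Field F] : GL (Fin n) F →* MulAut (Matrix.ProjectiveSpecialLinearGroup (Fin n) F) :=
  lift.comp cj

omit [Fintype F] in
theorem scalar_of_ker (hn : 2 ≤ n) {A : GL (Fin n) F} (hA : A ∈ (hom n F).ker) :
    ∃ r : Fˣ, Matrix.GeneralLinearGroup.scalar (Fin n) r = A := by
  have : Nontrivial (Fin n) := Fin.nontrivial_iff_two_le.2 hn
  have h1 : lift (cj A) = 1 := hA
  obtain ⟨⟨r, hr⟩, -⟩ := injective_aux (C := A) (σ := 1) (τ := 1) (by rw [map_one, mul_one, h1, map_one])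
  obtain ⟨i⟩ : Nonempty (Fin n) := inferInstance
  have hr0 : r ≠ 0 := by
    rintro rfl
    have h2 : (A : Matrix (Fin n) (Fin n) F) * ((A⁻¹ : GL (Fin n) F) : Matrix (Fin n) (Fin n) F) = 1 := by
      rw [← Units.val_mul, mul_inv_cancel, Units.val_one]
    rw [← hr, map_zero, zero_mul] at h2
    have := congrFun (congrFun h2 i) i
    rw [one_apply_eq] at this
    exact zero_ne_one this
  exact ⟨Units.mk0 r hr0, Units.ext hr⟩

omit [Fintype F] in
theorem ker_le (hn : 2 ≤ n) : (hom n F).ker ≤ center (GL (Fin n) F) := by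
  intro A hA
  obtain ⟨r, rfl⟩ := scalar_of_ker hn hA
  rw [mem_center_iff]
  intro g
  apply Units.ext
  change g.1 * scalar (Fin n) (r : F) = scalar (Fin n) (r : F) * g.1
  exact (scalar_commute (n := Fin n) (r : F) (Commute.all (r : F)) g.1).symm

theorem card_ker (hn : 2 ≤ n) : Nat.card (hom n F).ker ∣ Fintype.card F - 1 := by
  have h1 : (hom n F).ker ≤ (Matrix.GeneralLinearGroup.scalar (Fin n) : Fˣ →* GL (Fin n) F).range := by
    intro A hA
    obtain ⟨r, hr⟩ := scalar_of_ker hn hA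
    exact ⟨r, hr⟩
  refine (card_dvd_of_le h1).trans ((Subgroup.card_range_dvd _).trans ?_)
  rw [Nat.card_units, Nat.card_eq_fintype_card]

theorem goodD (hn : 3 ≤ n) {u : ℕ} (hu : u.Prime) (h : LevP (.psl n (Fintype.card F)) u) :
    GoodP (hom n F).range u n := by
  have := Fact.mk hu
  obtain ⟨e, he2, hne, hen, ho⟩ := h
  have hq : 0 < Fintype.card F := Fintype.card_pos
  have hiff := dvd_iff_of_order hq ho
  have hu1 : ¬ u ∣ Fintype.card F - 1 := by
    intro h1
    have h2 := (hiff 1).1 (by rwa [pow_one])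
    have := Nat.le_of_dvd one_pos h2
    omega
  have hu2 : u ≠ 2 := by
    rintro rfl
    have h1 : ¬ 2 ∣ Fintype.card F := Cfsg.Agent.H124.LinCyc.not_dvd_card (by omega) hiff
    apply hu1
    omega
  have huF : ¬ u ∣ Fintype.card F := Cfsg.Agent.H124.LinCyc.not_dvd_card (by omega) hiff
  have huF' : (u : F) ≠ 0 := by
    intro h1
    apply huF
    obtain ⟨c, hc⟩ := CharP.exists F
    rw [CharP.cast_eq_zero_iff F c] at h1
    have hc1 : c ≠ 1 := CharP.char_ne_one F c
    have h2 : u = c := ((hu.eq_one_or_self_of_dvd c h1).resolve_left hc1).symm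
    subst h2
    rw [← CharP.cast_eq_zero_iff F u]
    exact FiniteField.cast_card_eq_zero F
  refine good_range hu (hom n F) (ker_le (by omega)) (fun h1 => hu1 (h1.trans (card_ker (by omega)))) ?_ ?_ huF'
    (MonoidHom.id _) Function.injective_id
  · rw [Matrix.card_GL_field]
    have h1 : u ∣ Fintype.card F ^ n - Fintype.card F ^ (n - e) := by
      have h2 : Fintype.card F ^ n - Fintype.card F ^ (n - e) = Fintype.card F ^ (n - e) * (Fintype.card F ^ e - 1) := by
        rw [Nat.mul_sub_one, ← pow_add, Nat.sub_add_cancel hen]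
      rw [h2]
      exact dvd_mul_of_dvd_right ((hiff e).2 dvd_rfl) _
    exact h1.trans (Finset.dvd_prod_of_mem (fun i : Fin n => Fintype.card F ^ n - Fintype.card F ^ (i : ℕ))
      (Finset.mem_univ (⟨n - e, by omega⟩ : Fin n)))
  · intro Q hQ
    exact Cfsg.Agent.H124.LinCyc.isCyclic_of_gl (e := e) hu2 (by omega) hiff (by rw [Fintype.card_fin]; exact hne) hQ
      Q.subtype Q.subtype_injective

omit [Fintype F] in
/-- the inner automorphisms -/
theorem range_conj : (MulAut.conj : Matrix.ProjectiveSpecialLinearGroup (Fin n) F →* _).range =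
    (Matrix.SpecialLinearGroup.toGL : Matrix.SpecialLinearGroup (Fin n) F →* GL (Fin n) F).range.map (hom n F) := by
  have key : ∀ x : Matrix.SpecialLinearGroup (Fin n) F, MulAut.conj (pr x) = hom n F (Matrix.SpecialLinearGroup.toGL x) := by
    intro x
    apply MulEquiv.ext
    intro t
    obtain ⟨t, rfl⟩ := pr_surjective t
    rw [MulAut.conj_apply, ← map_inv, ← map_mul, ← map_mul]
    change _ = pr (cj (Matrix.SpecialLinearGroup.toGL x) t)
    congr 1
  ext α
  constructor
  · rintro ⟨t, rfl⟩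
    obtain ⟨t, rfl⟩ := pr_surjective t
    exact ⟨_, ⟨t, rfl⟩, (key t).symm⟩
  · rintro ⟨_, ⟨t, rfl⟩, rfl⟩
    exact ⟨pr t, key t⟩

omit [Fintype F] in
theorem inn_le : (MulAut.conj : Matrix.ProjectiveSpecialLinearGroup (Fin n) F →* _).range ≤ (hom n F).range := by
  rw [range_conj]
  rintro _ ⟨A, -, rfl⟩
  exact ⟨A, rfl⟩

theorem relIndex_dvd : (MulAut.conj : Matrix.ProjectiveSpecialLinearGroup (Fin n) F →* _).range.relIndex
    (hom n F).range ∣ Fintype.card F - 1 := by
  rw [range_conj, MonoidHom.range_eq_map (hom n F), Subgroup.relIndex_map_map, top_sup_eq,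
    Subgroup.relIndex_top_right]
  refine (Subgroup.index_dvd_of_le le_sup_left).trans ?_
  have h1 : (Matrix.SpecialLinearGroup.toGL : Matrix.SpecialLinearGroup (Fin n) F →* GL (Fin n) F).range =
      (Matrix.GeneralLinearGroup.det : GL (Fin n) F →* Fˣ).ker := by
    ext A
    rw [MonoidHom.mem_ker]
    constructor
    · rintro ⟨x, rfl⟩
      exact Units.ext x.2
    · intro h
      exact ⟨⟨A, congrArg Units.val h⟩, Units.ext rfl⟩
  rw [h1, Subgroup.index_ker]
  refine (Subgroup.card_subgroup_dvd_card _).trans ?_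
  rw [Nat.card_units, Nat.card_eq_fintype_card]

theorem index_le (hn : 3 ≤ n) {p f : ℕ} [Fact p.Prime] (hf : 1 ≤ f) (hF : Fintype.card F = p ^ f) :
    (hom n F).range.index ≤ 2 * f := by
  have : CharP F p := charP_of_card_eq_prime_pow hF
  have hcard : Nat.card (F ≃+* F) = f := Lib.FieldAutCard.card_ringAut hf hF
  have hfin : Finite (F ≃+* F) := Nat.finite_of_card_ne_zero (by omega)
  have h2 : Nat.card (Bool × (F ≃+* F)) = 2 * f := by rw [Nat.card_prod, hcard]; simp
  rw [← h2]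
  unfold Subgroup.index
  refine Nat.card_le_card_of_surjective (fun x : Bool × (F ≃+* F) =>
    (QuotientGroup.mk ((lift (fld x.2 * (if x.1 then itr else 1)))⁻¹) :
      MulAut (Matrix.ProjectiveSpecialLinearGroup (Fin n) F) ⧸ (hom n F).range)) ?_
  intro y
  obtain ⟨β, rfl⟩ := QuotientGroup.mk_surjective y
  rcases surj_three p hn β⁻¹ with ⟨A, σ, h⟩ | ⟨A, σ, h⟩
  · refine ⟨(false, σ), ?_⟩
    rw [QuotientGroup.eq]
    simp only [Bool.false_eq_true, if_false, mul_one, inv_inv]
    have h3 : lift (fld σ) * β = (lift (cj A))⁻¹ := by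
      rw [map_mul] at h
      rw [← inv_inv β, h]
      group
    rw [h3]
    exact inv_mem ⟨A, rfl⟩
  · refine ⟨(true, σ), ?_⟩
    rw [QuotientGroup.eq]
    simp only [if_true, inv_inv]
    have h3 : lift (fld σ * itr) * β = (lift (cj A))⁻¹ := by
      rw [mul_assoc, map_mul] at h
      rw [← inv_inv β, h]
      group
    rw [h3]
    exact inv_mem ⟨A, rfl⟩

theorem not_dvd {u : ℕ} (h : LevP (.psl n (Fintype.card F)) u) : ¬ u ∣ Fintype.card F - 1 := by
  obtain ⟨e, he2, hne, hen, ho⟩ := h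
  intro h1
  have h2 := (dvd_iff_of_order Fintype.card_pos ho 1).1 (by rwa [pow_one])
  have := Nat.le_of_dvd one_pos h2
  omega

/-- **`PSL_n(q)`** -/
theorem good (hn : 3 ≤ n) {u : ℕ} (hu : u.Prime) (h : LevP (.psl n (Fintype.card F)) u) :
    GoodP (Matrix.ProjectiveSpecialLinearGroup (Fin n) F) u n := by
  have : IsSimpleGroup (Matrix.ProjectiveSpecialLinearGroup (Fin n) F) := S0249.result n hn
  exact good_of_inn (goodD hn hu h) inn_le fun h1 => not_dvd h (h1.trans relIndex_dvd)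

end

end PSL

end Cfsg.Agent.H491.Dp
end

-- part: H491/Dp/Psu
section
/-!
# Good primes of `PSU_n(q)` and the almost simple groups with socle `PSU_n(q)` (helper491, project S5734, DP9)

* `PSU.goodD` : `GoodP D u n`, `D ≤ Aut (PSU_n(q))` the image of `GU_n(q)`, `LevP (.psu n q) u`;
* `PSU.good` : `GoodP (PSU_n(q)) u n`;
* `PSU.big` : `|G| ≤ 2 f (2 n) #ders H`, `G` almost simple with socle `PSU_n(q)`, `u ∣ |N : H ∩ N|`.
-/

set_option autoImplicit false

namespace Cfsg.Agent.H491.Dp.PSU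

open Subgroup Cfsg Cfsg.Agent.H192.Dp Cfsg.Agent.H436 Matrix
open Cfsg.Agent.LieClassical.HermSiegel
open Cfsg.Agent.ClassicalGeometry.UnitAutBasic Cfsg.Agent.ClassicalGeometry.PSUAutCount
open Cfsg.Agent.LieClassical.GUOrder (finite_GU detGU kerEquiv range_detGU card_ker_pow)

section

variable {F : Type*} [Field F] {n q : ℕ}

theorem act_refl (A : GU n F q) (g : SU n F q) (x : Fin n → F) :
    LieClassical.HermSiegel.act (semiConj A (RingEquiv.refl F) g) x = gm A *ᵥ LieClassical.HermSiegel.act g (gm A⁻¹ *ᵥ x) := by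
  have h := act_semiConj A (RingEquiv.refl F) g (gm A⁻¹ *ᵥ x)
  have h1 : (gm A *ᵥ fun i => (RingEquiv.refl F) ((gm A⁻¹ *ᵥ x) i)) = x := gm_mulVec_inv A x
  rw [h1] at h
  exact h

/-- the action of `GU_n(q)` on `PSU_n(q)` -/
def hom (n : ℕ) (F : Type*) [Field F] (q : ℕ) : GU n F q →* MulAut (PSU n F q) :=
  MonoidHom.mk' (fun A => toAut A (RingEquiv.refl F)) fun A B => by
    ext x
    obtain ⟨g, rfl⟩ := pr_surjective x
    rw [MulAut.mul_apply, toAut_pr, toAut_pr, toAut_pr]
    (with_reducible congr 1)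
    apply ext_act
    intro x
    rw [act_refl, act_refl, act_refl, gm_mul, _root_.mul_inv_rev, gm_mul, ← mulVec_mulVec, ← mulVec_mulVec]

theorem hom_apply (A : GU n F q) : hom n F q A = toAut A (RingEquiv.refl F) := rfl

theorem toAut_eq (A : GU n F q) (ρ : F ≃+* F) : toAut A ρ = hom n F q A * toAut 1 ρ := by
  ext x
  obtain ⟨g, rfl⟩ := pr_surjective x
  rw [MulAut.mul_apply, hom_apply, toAut_pr, toAut_pr, toAut_pr]
  (with_reducible congr 1)
  apply ext_act
  intro x
  have hx : x = gm A *ᵥ fun i => ρ ((fun j => ρ.symm ((gm A⁻¹ *ᵥ x) j)) i) := by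
    have : (fun i => ρ ((fun j => ρ.symm ((gm A⁻¹ *ᵥ x) j)) i)) = gm A⁻¹ *ᵥ x := by
      funext i
      simp
    rw [this, gm_mulVec_inv]
  rw [hx]
  generalize (fun j => ρ.symm ((gm A⁻¹ *ᵥ x) j)) = y
  rw [act_semiConj, act_refl, gm_inv_mulVec]
  have h := act_semiConj (1 : GU n F q) ρ g y
  rw [gm_one, one_mulVec, one_mulVec] at h
  rw [h]

variable [Fintype F]

theorem gm_of_ker (hF : Fintype.card F = q ^ 2) (hn : 3 ≤ n) {A : GU n F q} (hA : A ∈ (hom n F q).ker) :
    ∃ c : F, c * c ^ q = 1 ∧ gm A = c • (1 : Matrix (Fin n) (Fin n) F) := by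
  have h1 : toAut (1 : GU n F q) (RingEquiv.refl F) = toAut A (RingEquiv.refl F) := by
    rw [← hom_apply, ← hom_apply, MonoidHom.mem_ker.1 hA, map_one]
  obtain ⟨-, c, hc, h⟩ := eq_of_toAut_eq hF hn h1
  exact ⟨c, hc, by rw [h, gm_one]⟩

theorem ker_le (hF : Fintype.card F = q ^ 2) (hn : 3 ≤ n) : (hom n F q).ker ≤ center (GU n F q) := by
  intro A hA
  obtain ⟨c, -, h⟩ := gm_of_ker hF hn hA
  rw [mem_center_iff]
  intro g
  apply gm_inj
  rw [gm_mul, gm_mul, h, Matrix.mul_smul, Matrix.smul_mul, Matrix.mul_one, Matrix.one_mul]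

theorem card_ker (hF : Fintype.card F = q ^ 2) (hn : 3 ≤ n) : Nat.card (hom n F q).ker ∣ q + 1 := by
  have h1 : (hom n F q).ker.map (GU n F q).subtype ≤
      ((powMonoidHom (q + 1) : Fˣ →* Fˣ).ker).map
        (Matrix.GeneralLinearGroup.scalar (Fin n) : Fˣ →* GL (Fin n) F) := by
    rintro _ ⟨A, hA, rfl⟩
    obtain ⟨c, hc, h⟩ := gm_of_ker hF hn hA
    have hc0 : c ≠ 0 := by
      rintro rfl
      rw [zero_mul] at hc
      exact zero_ne_one hc
    refine ⟨Units.mk0 c hc0, ?_, ?_⟩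
    · show (Units.mk0 c hc0) ^ (q + 1) = 1
      apply Units.ext
      rw [Units.val_pow_eq_pow_val, Units.val_mk0, pow_succ', hc, Units.val_one]
    · apply Units.ext
      show scalar (Fin n) c = gm A
      rw [h]
      exact (smul_one_eq_diagonal c).symm
  have h2 := card_dvd_of_le h1
  rw [Subgroup.card_map_of_injective (GU n F q).subtype_injective] at h2
  refine h2.trans (Dvd.dvd.trans ?_ (card_ker_pow hF).dvd)
  exact Subgroup.card_dvd_of_surjective
    ((Matrix.GeneralLinearGroup.scalar (Fin n) : Fˣ →* GL (Fin n) F).subgroupMap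
      (powMonoidHom (q + 1) : Fˣ →* Fˣ).ker)
    (MonoidHom.subgroupMap_surjective _ _)

omit [Fintype F] in
theorem not_dvd {u : ℕ} (h : LevP (.psu n q) u) : ¬ u ∣ q + 1 := by
  obtain ⟨e, he2, hne, hen, ho⟩ := h
  intro h1
  have h2 : ((q + 1 : ℕ) : ZMod u) = 0 := (ZMod.natCast_eq_zero_iff _ _).2 h1
  push_cast at h2
  have h3 : (-(q : ZMod u)) = 1 := by
    linear_combination -h2
  rw [h3, orderOf_one] at ho
  omega

theorem goodD (hF : Fintype.card F = q ^ 2) (hn : 3 ≤ n) {u : ℕ} (hu : u.Prime) (h : LevP (.psu n q) u) :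
    GoodP (hom n F q).range u n := by
  have := Fact.mk hu
  have hu1 := not_dvd h
  obtain ⟨e, he2, hne, hen, ho⟩ := h
  have hfin : Finite (GU n F q) := finite_GU n
  have hfinP : Finite (PSU n F q) := Finite.of_surjective _ (pr_surjective (n := n) (F := F) (q := q))
  have hfinM : Finite (MulAut (PSU n F q)) := inferInstance
  have hq0 : (-(q : ZMod u)) ≠ 0 := by
    intro h10
    have h11 : orderOf (-(q : ZMod u)) = 0 := by
      rw [h10, orderOf_eq_zero_iff']
      intro m hm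
      rw [zero_pow hm.ne']
      exact zero_ne_one
    omega
  have huF' : (u : F) ≠ 0 := by
    intro h1
    apply hq0
    obtain ⟨c, hc⟩ := CharP.exists F
    rw [CharP.cast_eq_zero_iff F c] at h1
    have hc1 : c ≠ 1 := CharP.char_ne_one F c
    have h2 : u = c := ((hu.eq_one_or_self_of_dvd c h1).resolve_left hc1).symm
    subst h2
    have h3 : u ∣ q ^ 2 := by
      rw [← hF, ← CharP.cast_eq_zero_iff F u]
      exact FiniteField.cast_card_eq_zero F
    rw [(ZMod.natCast_eq_zero_iff _ _).2 (hu.dvd_of_dvd_pow h3), neg_zero]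
  refine good_range hu (hom n F q) (ker_le hF hn) (fun h1 => hu1 (h1.trans (card_ker hF hn))) ?_ ?_ huF'
    (GU n F q).subtype (GU n F q).subtype_injective
  · rw [S0277.result hF n]
    have h1 : u ∣ (if Even (e - 1) then q ^ (e - 1 + 1) + 1 else q ^ (e - 1 + 1) - 1) := by
      have h2 : e - 1 + 1 = e := by omega
      have h3 : (-(q : ZMod u)) ^ e = 1 := by rw [← ho, pow_orderOf_eq_one]
      rw [h2]
      rcases Nat.even_or_odd (e - 1) with h4 | h4
      · have h5 : Odd e := by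
          rw [← h2]
          exact Even.add_one h4
        rw [if_pos h4, ← ZMod.natCast_eq_zero_iff]
        rw [h5.neg_pow] at h3
        push_cast
        linear_combination -h3
      · have h5 : Even e := by
          rw [← h2]
          exact Odd.add_one h4
        rw [if_neg (Nat.not_even_iff_odd.2 h4)]
        rw [h5.neg_pow] at h3
        have h6 : 1 ≤ q ^ e := Nat.one_le_pow _ _ (by have := LieClassical.HermBasic.two_le hF; omega)
        rw [← ZMod.natCast_eq_zero_iff, Nat.cast_sub h6, Nat.cast_pow, h3, Nat.cast_one, sub_self]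
    exact dvd_mul_of_dvd_right (h1.trans (Finset.dvd_prod_of_mem
      (fun i : ℕ => if Even i then q ^ (i + 1) + 1 else q ^ (i + 1) - 1)
      (Finset.mem_range.2 (by omega : e - 1 < n)))) _
  · intro Q hQ
    exact isCyclic_of hF he2 hne ho hQ huF' ((GU n F q).subtype.comp Q.subtype)
      ((GU n F q).subtype_injective.comp Q.subtype_injective) fun a => (a : GU n F q).2

omit [Fintype F] in
/-- the inner automorphisms -/
theorem range_conj : (MulAut.conj : PSU n F q →* _).range = (detGU n F q).ker.map (hom n F q) := by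
  have key : ∀ (x : SU n F q) (A : GU n F q), gm A = mat x → MulAut.conj (pr n F q x) = hom n F q A := by
    intro x A hA
    apply MulEquiv.ext
    intro t
    obtain ⟨t, rfl⟩ := pr_surjective t
    rw [MulAut.conj_apply, ← map_inv, ← map_mul, ← map_mul, hom_apply, toAut_pr]
    (with_reducible congr 1)
    apply ext_act
    intro y
    rw [act_refl, act_mul, act_mul]
    have h1 : gm A⁻¹ *ᵥ y = LieClassical.HermSiegel.act x⁻¹ y := by
      have h2 : LieClassical.HermSiegel.act x (LieClassical.HermSiegel.act x⁻¹ y) = y := by rw [← act_mul, mul_inv_cancel, act_one]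
      have h3 : gm A *ᵥ LieClassical.HermSiegel.act x⁻¹ y = y := by rw [hA]; exact h2
      conv_lhs => rw [← h3]
      rw [gm_inv_mulVec]
    rw [h1, hA]
    rfl
  ext α
  constructor
  · rintro ⟨t, rfl⟩
    obtain ⟨t, rfl⟩ := pr_surjective t
    exact ⟨((kerEquiv n).symm t : (detGU n F q).ker), ((kerEquiv n).symm t).2, (key t _ rfl).symm⟩
  · rintro ⟨A, hA, rfl⟩
    exact ⟨pr n F q (kerEquiv n ⟨A, hA⟩), key _ _ rfl⟩

omit [Fintype F] in
theorem inn_le : (MulAut.conj : PSU n F q →* _).range ≤ (hom n F q).range := by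
  rw [range_conj]
  rintro _ ⟨A, -, rfl⟩
  exact ⟨A, rfl⟩

theorem relIndex_dvd (hF : Fintype.card F = q ^ 2) (hn : 1 ≤ n) :
    (MulAut.conj : PSU n F q →* _).range.relIndex (hom n F q).range ∣ q + 1 := by
  rw [range_conj, MonoidHom.range_eq_map (hom n F q), Subgroup.relIndex_map_map, top_sup_eq,
    Subgroup.relIndex_top_right]
  refine (Subgroup.index_dvd_of_le le_sup_left).trans ?_
  rw [Subgroup.index_ker, range_detGU hF hn, card_ker_pow hF]

theorem index_le (hF : Fintype.card F = q ^ 2) (hn : 3 ≤ n) (h32 : ¬ (n = 3 ∧ q = 2)) {p f : ℕ} [Fact p.Prime]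
    (hf : 1 ≤ f) (hq : q = p ^ f) : (hom n F q).range.index ≤ 2 * f := by
  have hcard : Nat.card (F ≃+* F) = 2 * f :=
    Lib.FieldAutCard.card_ringAut (p := p) (by omega) (by rw [hF, hq, ← pow_mul, mul_comm])
  have hfin : Finite (F ≃+* F) := Nat.finite_of_card_ne_zero (by omega)
  rw [← hcard]
  unfold Subgroup.index
  refine Nat.card_le_card_of_surjective (fun ρ : F ≃+* F =>
    (QuotientGroup.mk ((toAut (1 : GU n F q) ρ)⁻¹) : MulAut (PSU n F q) ⧸ (hom n F q).range)) ?_
  intro y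
  obtain ⟨β, rfl⟩ := QuotientGroup.mk_surjective y
  obtain ⟨A, ρ, h⟩ := ClassicalGeometry.PSUAutMain.exists_toAut hF hn h32 β⁻¹
  refine ⟨ρ, ?_⟩
  rw [toAut_eq] at h
  show QuotientGroup.mk _ = QuotientGroup.mk _
  rw [QuotientGroup.eq, inv_inv]
  have h3 : toAut (1 : GU n F q) ρ * β = (hom n F q A)⁻¹ := by
    rw [← inv_inv β, h]
    group
  rw [h3]
  exact inv_mem ⟨A, rfl⟩

/-- **`PSU_n(q)`** -/
theorem good (hF : Fintype.card F = q ^ 2) (hn : 3 ≤ n) (h32 : ¬ (n = 3 ∧ q = 2)) {u : ℕ} (hu : u.Prime)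
    (h : LevP (.psu n q) u) : GoodP (PSU n F q) u n := by
  have : IsSimpleGroup (PSU n F q) := S0283.result hF n hn h32
  have hfin : Finite (GU n F q) := finite_GU n
  have hfinP : Finite (PSU n F q) := Finite.of_surjective _ (pr_surjective (n := n) (F := F) (q := q))
  exact good_of_inn (goodD hF hn hu h) inn_le fun h1 => not_dvd h (h1.trans (relIndex_dvd hF (by omega)))

end

end Cfsg.Agent.H491.Dp.PSU
end

-- part: H491/Dp/Gd
section
/-!
# A missing prime power in `PSL_n(q)` and `PSU_n(q)` (helper491, project S5734)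

* `good_psl`, `good_psu` : `BigPow` gives `GoodD 144`.
-/

set_option autoImplicit false

namespace Cfsg.Agent.H491.Dp

open Subgroup Cfsg Cfsg.Agent.H545.Dr Cfsg.Agent.H851.Dg Cfsg.Agent.H192.Dp Matrix

/-- the general step with a group `D` of automorphisms -/
theorem goodD_of {T : Type*} [Group T] [Finite T] {C : ℝ} {M : Subgroup T} {D : Subgroup (MulAut T)} {u j N d : ℕ}
    (hu : u.Prime) (hcyc : CycP u T) (hInn : (MulAut.conj (G := T)).range ≤ D)
    (hidx : ¬ u ∣ (MulAut.conj (G := T)).range.relIndex D) (hDi : D.index ≤ d) (hj : 1 ≤ j)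
    (hT : u ^ j ∣ Nat.card T) (hM : ¬ u ^ j ∣ Nat.card M)
    (hfus : ∀ x : T, orderOf x = u ^ (j - 1 + 1) → fusD D x ≤ N)
    (hC : (d : ℝ) * (N : ℝ) ≤ C * Real.log (M.index : ℝ)) : GoodD C T M := by
  have := Fact.mk hu
  obtain ⟨P, hP⟩ := Sylow.exists_subgroup_card_pow_prime u hT
  have hPu : IsPGroup u P := IsPGroup.of_card hP
  have := hcyc P hPu
  obtain ⟨x, hx⟩ := IsCyclic.exists_ofOrder_eq_natCard (α := P)
  rw [hP] at hx
  have hx' : orderOf (x : T) = u ^ j := by rw [Subgroup.orderOf_coe, hx]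
  have hj' : j - 1 + 1 = j := by omega
  refine ⟨D, u, j, (x : T), hInn, hu, by omega, hx', fun Q _ _ hQ => hcyc Q hQ, hidx, ?_, ?_⟩
  · intro α hα
    apply hM
    have h1 : orderOf (α (x : T)) = u ^ j := by
      rw [← hx']
      exact orderOf_injective α.toMonoidHom α.injective (x : T)
    rw [← h1, ← Subgroup.orderOf_mk (α (x : T)) hα]
    exact _root_.orderOf_dvd_natCard _
  · refine le_trans ?_ hC
    have h2 := hfus (x : T) (by rw [hj', hx'])
    have h3 : D.index * fusD D (x : T) ≤ d * N := Nat.mul_le_mul hDi h2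
    exact_mod_cast h3

section psl

open Cfsg.Agent.ClassicalGeometry.AutPSL.Root Cfsg.Agent.ClassicalGeometry.AutPSL.Auto

variable {F : Type} [Field F] [Fintype F] {n : ℕ}

theorem fus_psl {u b : ℕ} (hu : u.Prime) (he : 2 ≤ orderOf ((Fintype.card F : ℕ) : ZMod u))
    {x : Matrix.ProjectiveSpecialLinearGroup (Fin n) F} (hx : orderOf x = u ^ (b + 1)) :
    fusD (PSL.hom n F).range x ≤ n := by
  have h1 := fusD_le (ι := Fin n) (K := F)
    (Matrix.SpecialLinearGroup.toGL : Matrix.SpecialLinearGroup (Fin n) F →* GL (Fin n) F)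
    (fun a b hab => Subtype.ext (congrArg Units.val hab))
    (pr : Matrix.SpecialLinearGroup (Fin n) F →* _) pr_surjective
    (fun k hk => by
      obtain ⟨c, hc⟩ := exists_smul_of_pr_eq (x := 1) (y := k) (by rw [hk, map_one])
      exact ⟨c, hc⟩)
    hu (cast_ne_zero_of_order hu he) (scal_of_order hu he) (PSL.hom n F).range (by
      rintro _ ⟨P, rfl⟩
      refine ⟨P, fun g h hgh => ?_⟩
      have h2 : pr h = pr (cj P g) := hgh
      obtain ⟨c, hc⟩ := exists_smul_of_pr_eq h2.symm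
      exact ⟨c, hc⟩) hx
  rwa [Fintype.card_fin] at h1

/-- **`PSL_n(q)`** -/
theorem good_psl (hn : 3 ≤ n) {M : Subgroup (Matrix.ProjectiveSpecialLinearGroup (Fin n) F)} (hM : M ≠ ⊤)
    (h : BigPow (.psl n (Fintype.card F)) M) : GoodD 144 (Matrix.ProjectiveSpecialLinearGroup (Fin n) F) M := by
  obtain ⟨u, j, ⟨hu, hlt, hle⟩, hj, hT, hR⟩ := h
  have he : 2 ≤ orderOf ((Fintype.card F : ℕ) : ZMod u) := by omega
  have hL : LevP (.psl n (Fintype.card F)) u := ⟨_, he, hlt, hle, rfl⟩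
  obtain ⟨p, f, hp, hf, hF⟩ := H934.OutCl.exists_pf F
  have := Fact.mk hp
  have hs : IsSimpleGroup (Matrix.ProjectiveSpecialLinearGroup (Fin n) F) := S0249.result n hn
  have hidx := H934.IdxCl.psl (ι := Fin n) (F := F) (by rw [Fintype.card_fin]; exact hn) hs M hM
  rw [Fintype.card_fin, hF] at hidx
  have hest := estimate (o := 2 * f) (N := n) (k := 72) hp.two_le hidx (by
    obtain ⟨k, rfl⟩ : ∃ k, n = k + 3 := ⟨n - 3, by omega⟩
    rw [show k + 3 - 1 = k + 2 by omega]
    nlinarith only [])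
  refine goodD_of hu (fun P hP => isCyclic_of_good (PSL.good hn hu hL) hP) PSL.inn_le
    (fun h1 => PSL.not_dvd hL (h1.trans PSL.relIndex_dvd)) (PSL.index_le hn hf hF) hj hT hR
    (fun x hx => fus_psl hu he hx) ?_
  exact_mod_cast hest

end psl

section psu

open Cfsg.Agent.ClassicalGeometry.UnitAutBasic Cfsg.Agent.ClassicalGeometry.PSUAutCount
open Cfsg.Agent.LieClassical.HermSiegel (mat)

variable {F : Type} [Field F] [Fintype F] {n q : ℕ}

theorem smul_of_pr_eq (hF : Fintype.card F = q ^ 2) (hn : 3 ≤ n) {g h : SU n F q} (e : pr n F q g = pr n F q h) :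
    ∃ c : F, mat h = c • mat g := by
  obtain ⟨c, -, hx⟩ := exists_scalar_of_mem_center hF hn (pr_eq_pr_iff.1 e)
  refine ⟨c, ?_⟩
  apply Matrix.toLin'.injective
  apply LinearMap.ext
  intro x
  rw [Matrix.toLin'_apply, Matrix.toLin'_apply, smul_mulVec]
  have h1 := congrArg (LieClassical.HermSiegel.act g) (hx x)
  rw [← LieClassical.HermSiegel.act_mul, mul_inv_cancel_left, LieClassical.HermSiegel.act_smul] at h1
  exact h1

omit [Fintype F] in
theorem mat_semiConj (P : GU n F q) (g : SU n F q) :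
    mat (semiConj P (RingEquiv.refl F) g) = gm P * mat g * gm P⁻¹ := by
  apply Matrix.toLin'.injective
  apply LinearMap.ext
  intro x
  rw [Matrix.toLin'_apply, Matrix.toLin'_apply, ← mulVec_mulVec, ← mulVec_mulVec]
  exact PSU.act_refl P g x

theorem fus_psu (hF : Fintype.card F = q ^ 2) (hn : 3 ≤ n) {u b : ℕ} (hu : u.Prime)
    (he : 2 ≤ orderOf ((Fintype.card F : ℕ) : ZMod u))
    {x : PSU n F q} (hx : orderOf x = u ^ (b + 1)) : fusD (PSU.hom n F q).range x ≤ n := by
  have hfin : Finite (SU n F q) := inferInstance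
  have h1 := fusD_le (ι := Fin n) (K := F)
    ((Matrix.SpecialLinearGroup.toGL : Matrix.SpecialLinearGroup (Fin n) F →* GL (Fin n) F).comp (SU n F q).subtype)
    (fun a b hab => Subtype.ext (Subtype.ext (congrArg Units.val hab)))
    (pr n F q) pr_surjective
    (fun k hk => by
      obtain ⟨c, hc⟩ := smul_of_pr_eq hF hn (g := 1) (h := k) (by rw [hk, map_one])
      exact ⟨c, hc⟩)
    hu (cast_ne_zero_of_order hu he) (scal_of_order hu he) (PSU.hom n F q).range (by
      rintro _ ⟨P, rfl⟩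
      refine ⟨(P : GL (Fin n) F), fun g h hgh => ?_⟩
      have h2 : pr n F q h = pr n F q (semiConj P (RingEquiv.refl F) g) := hgh
      obtain ⟨c, hc⟩ := smul_of_pr_eq hF hn h2.symm
      rw [mat_semiConj] at hc
      exact ⟨c, hc⟩) hx
  rwa [Fintype.card_fin] at h1

/-- **`PSU_n(q)`** from a level `e ≥ 3` -/
theorem good_psu_lev (hF : Fintype.card F = q ^ 2) (hn : 3 ≤ n) (h32 : ¬ (n = 3 ∧ q = 2)) {M : Subgroup (PSU n F q)}
    (hM : M ≠ ⊤) {u j : ℕ} (hu : u.Prime) (hL : LevP (.psu n q) u) (hj : 1 ≤ j) (hT : u ^ j ∣ Nat.card (PSU n F q))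
    (hR : ¬ u ^ j ∣ Nat.card M) : GoodD 144 (PSU n F q) M := by
  have he : 2 ≤ orderOf ((Fintype.card F : ℕ) : ZMod u) := by
    obtain ⟨e, he, -, -, ho⟩ := hL
    have h1 : ((Fintype.card F : ℕ) : ZMod u) = (-(q : ZMod u)) ^ 2 := by
      rw [hF]
      push_cast
      ring
    rw [h1, orderOf_pow' _ two_ne_zero, ho]
    have h2 : Nat.gcd e 2 ≤ 2 := Nat.gcd_le_right _ two_pos
    have h3 : 0 < Nat.gcd e 2 := Nat.gcd_pos_of_pos_right _ two_pos
    have h4 : Nat.gcd e 2 ∣ e := Nat.gcd_dvd_left _ _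
    by_contra h6
    have h7 : e / Nat.gcd e 2 ≤ 1 := by omega
    have h8 : Nat.gcd e 2 * (e / Nat.gcd e 2) = e := Nat.mul_div_cancel' h4
    have h9 : Nat.gcd e 2 * (e / Nat.gcd e 2) ≤ 2 * 1 := Nat.mul_le_mul h2 h7
    omega
  obtain ⟨p, f', hp, hf', hF'⟩ := H934.OutCl.exists_pf F
  have := Fact.mk hp
  obtain ⟨f, hf, hq⟩ : ∃ f, 1 ≤ f ∧ q = p ^ f := by
    have h1 : q ∣ p ^ f' := by
      rw [← hF', hF]
      exact dvd_pow_self q two_ne_zero
    obtain ⟨f, -, hq⟩ := (Nat.dvd_prime_pow hp).1 h1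
    refine ⟨f, ?_, hq⟩
    rcases Nat.eq_zero_or_pos f with h2 | h2
    · rw [h2, pow_zero] at hq
      have := LieClassical.HermBasic.two_le hF
      omega
    · exact h2
  have hfin : Finite (SU n F q) := inferInstance
  have hfin2 : Finite (PSU n F q) := inferInstance
  have hs : IsSimpleGroup (PSU n F q) := S0283.result hF n hn h32
  have hidx := H934.IdxPSU.pow_le_index hF hn (MulEquiv.refl _) M hM
  subst hq
  have hest := estimate (o := 2 * f) (N := n) (k := 72) hp.two_le hidx (by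
    obtain ⟨k, rfl⟩ : ∃ k, n = k + 3 := ⟨n - 3, by omega⟩
    rw [show k + 3 - 1 = k + 2 by omega]
    nlinarith only [])
  refine goodD_of hu (fun P hP => isCyclic_of_good (PSU.good hF hn h32 hu hL) hP) PSU.inn_le
    (fun h1 => PSU.not_dvd hL (h1.trans (PSU.relIndex_dvd hF (by omega)))) (PSU.index_le hF hn h32 hf rfl) hj hT hR
    (fun x hx => fus_psu hF hn hu he hx) ?_
  exact_mod_cast hest

/-- **`PSU_n(q)`**, `n ≥ 4` -/
theorem good_psu (hF : Fintype.card F = q ^ 2) (hn : 4 ≤ n) {M : Subgroup (PSU n F q)} (hM : M ≠ ⊤)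
    (h : BigPow (.psu n q) M) : GoodD 144 (PSU n F q) M := by
  obtain ⟨u, j, ⟨hu, hlt, hle⟩, hj, hT, hR⟩ := h
  exact good_psu_lev hF (by omega) (by omega) hM hu ⟨_, by omega, hlt, hle, rfl⟩ hj hT hR

end psu

end Cfsg.Agent.H491.Dp
end

-- part: H545/Dr/Classical
section
/-!
# S5734: the classical groups, transport along isomorphisms (helper545)

* `GoodD.congr`, `Spec.congr`, `BigPow.congr`;
* `spec_of_nd` : a lower bound for the number of derangements of `T` gives `Spec`;
* `spec_of_const` : `c |T| ≤ |NC M|` with `c` constant gives `Spec` (S5879);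
* `good_classical` : all classical groups (with helper491's `good_psl`, `good_psu` and helper953's cyclic Sylow subgroups);
* `out_dim` : `|Out T| dim T ≤ 144 log |T : M|` for the symplectic and orthogonal groups.
-/

set_option autoImplicit false
set_option linter.unusedSectionVars false
set_option linter.style.haveILetI false

namespace Cfsg.Agent.H545.Dr

open Cfsg Cfsg.Agent.H851.Dg Cfsg.Agent.OrdDiv Cfsg.Agent.H436

universe u v

section

variable {T : Type u} {T' : Type v} [Group T] [Group T']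

theorem outCard_congr (e : T ≃* T') : outCard T = outCard T' :=
  H934.OutB.card_out_congr e

theorem index_map_equiv' (e : T ≃* T') (M : Subgroup T) : (M.map e.toMonoidHom).index = M.index :=
  Subgroup.index_map_equiv M e

theorem GoodD.congr {C : ℝ} (e : T ≃* T') {M : Subgroup T} (h : GoodD C T' (M.map e.toMonoidHom)) : GoodD C T M := by
  obtain ⟨D, u, b, x, h1, h2, h3, h4, h5, h6, h7, h8⟩ := h
  let Φ : MulAut T ≃* MulAut T' := MulAut.congr e
  have hΦ : ∀ (α : MulAut T) (t : T), Φ α (e t) = e (α t) := by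
    intro α t
    simp [Φ, MulAut.congr]
  have hΦinn : ∀ α : MulAut T, Φ α ∈ (MulAut.conj (G := T')).range ↔ α ∈ (MulAut.conj (G := T)).range := by
    intro α
    constructor
    · rintro ⟨t', ht'⟩
      refine ⟨e.symm t', ?_⟩
      ext t
      apply e.injective
      have h9 := hΦ α t
      rw [← ht', MulAut.conj_apply] at h9
      rw [← h9, MulAut.conj_apply, map_mul, map_mul, map_inv, e.apply_symm_apply]
    · rintro ⟨t, rfl⟩
      refine ⟨e t, ?_⟩
      ext t'
      obtain ⟨s, rfl⟩ := e.surjective t'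
      rw [hΦ, MulAut.conj_apply, MulAut.conj_apply, map_mul, map_mul, map_inv]
  have hsurj : Function.Surjective (Φ.toMonoidHom) := Φ.surjective
  have hinn : (MulAut.conj (G := T)).range = ((MulAut.conj (G := T')).range).comap Φ.toMonoidHom := by
    ext α
    exact (hΦinn α).symm
  refine ⟨D.comap Φ.toMonoidHom, u, b, e.symm x, ?_, h2, h3, ?_, ?_, ?_, ?_, ?_⟩
  · rw [hinn]
    exact Subgroup.comap_mono h1
  · rw [← h4]
    exact orderOf_injective e.symm.toMonoidHom e.symm.injective x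
  · intro P hxP hPc hPu
    have h9 : IsCyclic (P.map e.toMonoidHom) := by
      refine h5 _ ⟨e.symm x, hxP, e.apply_symm_apply x⟩ ?_ (hPu.map _)
      rintro _ ⟨y, hy, rfl⟩
      have h10 : Commute (e y) (e (e.symm x)) := (hPc y hy).map e
      rwa [e.apply_symm_apply] at h10
    exact isCyclic_of_injective (P.equivMapOfInjective e.toMonoidHom e.injective).toMonoidHom
      (P.equivMapOfInjective e.toMonoidHom e.injective).injective
  · have h9 : (MulAut.conj (G := T)).range.relIndex (D.comap Φ.toMonoidHom) =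
        (MulAut.conj (G := T')).range.relIndex D := by
      rw [hinn, Subgroup.relIndex_comap, Subgroup.map_comap_eq_self_of_surjective hsurj]
    rwa [h9]
  · intro α hα
    apply h7 (Φ α)
    refine ⟨α (e.symm x), hα, ?_⟩
    have := hΦ α (e.symm x)
    rw [e.apply_symm_apply] at this
    exact this.symm
  · have h9 : (D.comap Φ.toMonoidHom).index = D.index := Subgroup.index_comap_of_surjective D hsurj
    have h10 : fusD (D.comap Φ.toMonoidHom) (e.symm x) = fusD D x := by
      unfold fusD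
      refine Nat.card_congr (e.toEquiv.subtypeEquiv fun y => and_congr ?_ ?_)
      · constructor
        · intro hy
          obtain ⟨j, hj⟩ := Subgroup.mem_zpowers_iff.1 hy
          refine Subgroup.mem_zpowers_iff.2 ⟨j, ?_⟩
          rw [← hj]
          show x ^ j = e (e.symm x ^ j)
          rw [map_zpow, e.apply_symm_apply]
        · intro hy
          obtain ⟨j, hj⟩ := Subgroup.mem_zpowers_iff.1 hy
          refine Subgroup.mem_zpowers_iff.2 ⟨j, ?_⟩
          apply e.injective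
          rw [map_zpow, e.apply_symm_apply]
          exact hj
      · constructor
        · rintro ⟨α, hα, hαx⟩
          refine ⟨Φ α, hα, ?_⟩
          have := hΦ α (e.symm x)
          rw [e.apply_symm_apply, hαx] at this
          exact this
        · rintro ⟨β, hβ, hβx⟩
          obtain ⟨α, rfl⟩ := Φ.surjective β
          refine ⟨α, hβ, ?_⟩
          apply e.injective
          rw [← hΦ, e.apply_symm_apply]
          exact hβx
    rw [h9, h10]
    have h11 : (M.map e.toMonoidHom).index = M.index := index_map_equiv' e M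
    rwa [h11] at h8

theorem Spec.congr [Finite T] [Finite T'] {C : ℝ} (e : T ≃* T') {M : Subgroup T}
    (h : Spec C T' (M.map e.toMonoidHom)) : Spec C T M := by
  unfold Spec at *
  have h1 : (M.map e.toMonoidHom).index = M.index := index_map_equiv' e M
  have h2 : Nat.card T = Nat.card T' := Nat.card_congr e.toEquiv
  have h3 : Nat.card (NC (M.map e.toMonoidHom)) = Nat.card (NC M) := by
    refine Nat.card_congr (Equiv.symm (e.toEquiv.subtypeEquiv fun x => ?_))
    constructor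
    · intro hx g hg
      obtain ⟨s, rfl⟩ := e.surjective g
      obtain ⟨y, hy, hy2⟩ := hg
      apply hx s
      have h4 : e y = e (s * x * s⁻¹) := by
        rw [map_mul, map_mul, map_inv]
        exact hy2
      rw [← e.injective h4]
      exact hy
    · intro hx g hg
      apply hx (e g)
      refine ⟨g * x * g⁻¹, hg, ?_⟩
      show e (g * x * g⁻¹) = e g * e x * (e g)⁻¹
      rw [map_mul, map_mul, map_inv]
  rw [outCard_congr e, h2, ← h1, ← h3]
  exact h

theorem BigPow.congr {g : Grp} (e : T ≃* T') {M : Subgroup T} (h : BigPow g M) : BigPow g (M.map e.toMonoidHom) := by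
  obtain ⟨u, j, h1, h2, h3, h4⟩ := h
  refine ⟨u, j, h1, h2, ?_, ?_⟩
  · rwa [← Nat.card_congr e.toEquiv]
  · rwa [Nat.card_congr (M.equivMapOfInjective e.toMonoidHom e.injective).toEquiv.symm]

theorem map_ne_top (e : T ≃* T') {M : Subgroup T} (hM : M ≠ ⊤) : M.map e.toMonoidHom ≠ ⊤ := by
  intro h
  apply hM
  rw [eq_top_iff]
  intro x _
  have h1 : e x ∈ M.map e.toMonoidHom := by rw [h]; exact Subgroup.mem_top _
  obtain ⟨y, hy, hyx⟩ := h1
  rwa [← e.injective hyx]

/-- From a lower bound for the number of derangements of `T`. -/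
theorem spec_of_nd [Finite T] {M : Subgroup T} {c K : ℝ} {N : ℕ} (hc : 0 < c)
    (h1 : (outCard T : ℝ) * (N : ℝ) ≤ K * Real.log (M.index : ℝ))
    (h2 : c * (Nat.card T : ℝ) ≤ (N : ℝ) * (nd M : ℝ)) : Spec (K / c) T M := by
  have h3 : (Nat.card (NC M) : ℝ) = (nd M : ℝ) := rfl
  unfold Spec
  rw [h3]
  have h4 : (0 : ℝ) ≤ (nd M : ℝ) := Nat.cast_nonneg _
  have h5 : (0 : ℝ) ≤ (outCard T : ℝ) := Nat.cast_nonneg _
  rw [div_mul_eq_mul_div, div_mul_eq_mul_div, le_div_iff₀ hc]
  calc (outCard T : ℝ) * (Nat.card T : ℝ) * c = (outCard T : ℝ) * (c * (Nat.card T : ℝ)) := by ring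
    _ ≤ (outCard T : ℝ) * ((N : ℝ) * (nd M : ℝ)) := mul_le_mul_of_nonneg_left h2 h5
    _ = (outCard T : ℝ) * (N : ℝ) * (nd M : ℝ) := by ring
    _ ≤ _ := mul_le_mul_of_nonneg_right h1 h4

/-- A constant proportion of derangements in `T`. -/
theorem spec_of_const [Finite T] {M : Subgroup T} (hout : (outCard T : ℝ) ≤ 6 * Real.log (M.index : ℝ))
    {c : ℝ} (hc : 0 < c) (h : c * (Nat.card T : ℝ) ≤ nd M) : Spec (6 / c) T M := by
  refine spec_of_nd (N := 1) hc ?_ (by rwa [Nat.cast_one, one_mul])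
  rw [Nat.cast_one, mul_one]
  exact hout

end

/-! ### The classical groups -/

/-- the classical names -/
def ClName : Grp → Prop
  | .psl n _ => 3 ≤ n
  | .psu n _ => 4 ≤ n
  | .psp m _ => 3 ≤ m
  | .oodd m _ => 3 ≤ m
  | .oplus m _ => 4 ≤ m
  | .ominus m _ => 4 ≤ m
  | _ => False

theorem cycP_of_goodP {X : Type*} [Group X] [Finite X] {w r : ℕ} (h : H192.Dp.GoodP X r w) : CycP r X := by
  haveI := Fact.mk h.prime
  intro P hP
  obtain ⟨Q, hQ⟩ := hP.exists_le_sylow
  haveI := h.cyc Q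
  exact isCyclic_of_injective (Subgroup.inclusion hQ) (Subgroup.inclusion_injective hQ)

theorem cyc_psp {F : Type} [Field F] [Fintype F] {m q r : ℕ} (hF : Fintype.card F = q) (hm : 3 ≤ m)
    (hc : Cond (.psp m q)) (hr : BigU (.psp m q) r) : CycP r (PSp m F) := by
  subst hF
  haveI : Finite (Matrix.symplecticGroup (Fin m) F) := Subtype.finite
  haveI : Finite (PSp m F) := inferInstance
  have hN : IsNamed (.psp m (Fintype.card F)) (PSp m F) :=
    IsNamed.mk' ⟨F, _, _, rfl, ⟨MulEquiv.refl _⟩⟩ hc (psp_eq (by omega))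
  refine cycP_of_goodP (H953.Dp.psp_row hN hm hr.1 ⟨_, ?_, rfl⟩)
  rcases hr.2 with ⟨h1, h2, h3⟩ | ⟨h1, h2, h3⟩
  · exact ⟨by omega, Or.inl ⟨h1, h2, h3⟩⟩
  · refine ⟨?_, Or.inr ⟨h1, h2, h3⟩⟩
    obtain ⟨k, hk⟩ := h1
    omega

theorem cyc_oodd {F : Type} [Field F] [Fintype F] {m q r : ℕ} (hF : Fintype.card F = q) (hm : 3 ≤ m)
    (hc : Cond (.oodd m q)) (hr : BigU (.oodd m q) r) : CycP r (POmega F (quadFormOdd m F)) := by
  subst hF
  haveI : Finite (isometryGroup F (quadFormOdd m F)) := inferInstance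
  haveI : Finite (POmega F (quadFormOdd m F)) := inferInstance
  have hN : IsNamed (.oodd m (Fintype.card F)) (POmega F (quadFormOdd m F)) :=
    IsNamed.mk' ⟨F, _, _, rfl, ⟨MulEquiv.refl _⟩⟩ hc (oodd_eq hm hc.2.1)
  refine cycP_of_goodP (H953.Dp.oodd_row hN hm hr.1 ⟨_, ?_, rfl⟩)
  rcases hr.2 with ⟨h1, h2, h3⟩ | ⟨h1, h2, h3⟩
  · exact ⟨by omega, Or.inl ⟨h1, h2, h3⟩⟩
  · refine ⟨?_, Or.inr ⟨h1, h2, h3⟩⟩
    obtain ⟨k, hk⟩ := h1
    omega

theorem cyc_oplus {F : Type} [Field F] [Fintype F] {m q r : ℕ} (hF : Fintype.card F = q) (hm : 4 ≤ m)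
    (hc : Cond (.oplus m q)) (hr : BigU (.oplus m q) r) : CycP r (POmega F (quadFormPlus m F)) := by
  subst hF
  haveI : Finite (isometryGroup F (quadFormPlus m F)) := inferInstance
  haveI : Finite (POmega F (quadFormPlus m F)) := inferInstance
  have hN : IsNamed (.oplus m (Fintype.card F)) (POmega F (quadFormPlus m F)) :=
    IsNamed.mk' ⟨F, _, _, rfl, ⟨MulEquiv.refl _⟩⟩ hc (oplus_eq hm)
  refine cycP_of_goodP (H953.Dp.oplus_row hN hm hr.1 ⟨_, ?_, rfl⟩)
  rcases hr.2 with ⟨h1, h2, h3⟩ | ⟨h1, h2, h3⟩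
  · exact ⟨by omega, Or.inl ⟨h1, h2, by omega⟩⟩
  · exact ⟨by omega, Or.inr ⟨h1, h2, h3⟩⟩

theorem cyc_ominus {F : Type} [Field F] [Fintype F] {m q r : ℕ} {a b : F} (hF : Fintype.card F = q) (hm : 4 ≤ m)
    (hab : ∀ z₁ z₂ : F, z₁ ^ 2 + a * z₁ * z₂ + b * z₂ ^ 2 = 0 → z₁ = 0 ∧ z₂ = 0)
    (hc : Cond (.ominus m q)) (hr : BigU (.ominus m q) r) : CycP r (POmega F (quadFormMinus (m - 1) F a b)) := by
  subst hF
  haveI : Finite (isometryGroup F (quadFormMinus (m - 1) F a b)) := inferInstance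
  haveI : Finite (POmega F (quadFormMinus (m - 1) F a b)) := inferInstance
  have hN : IsNamed (.ominus m (Fintype.card F)) (POmega F (quadFormMinus (m - 1) F a b)) :=
    IsNamed.mk' ⟨F, _, _, a, b, rfl, hab, ⟨MulEquiv.refl _⟩⟩ hc (ominus_eq hm hab)
  refine cycP_of_goodP (H953.Dp.ominus_row hN hm hr.1 ⟨_, ?_, rfl⟩)
  rcases hr.2 with ⟨h1, h2, h3⟩ | ⟨h1, h2, h3⟩
  · exact ⟨by omega, Or.inl ⟨h1, h2, h3⟩⟩
  · exact ⟨by omega, Or.inr ⟨h1, h2, h3⟩⟩

/-- **All classical groups**: a missing power of a large prime gives `GoodD 144`. -/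
theorem good_classical {g : Grp} {T : Type u} [Group T] [Finite T]
    [IsSimpleGroup T] (hna : ¬ IsMulCommutative T) (hT : IsNamed g T) (hg : ClName g) {M : Subgroup T} (hM : M ≠ ⊤)
    (h : BigPow g M) : GoodD 144 T M := by
  have hna' : ∀ {X : Type} [Group X], (T ≃* X) → ¬ IsMulCommutative X := by
    intro X _ e hX
    apply hna
    refine ⟨⟨fun a b => e.injective ?_⟩⟩
    rw [map_mul, map_mul]
    exact hX.is_comm.comm _ _
  have hs' : ∀ {X : Type} [Group X], (T ≃* X) → IsSimpleGroup X := by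
    intro X _ e
    exact e.symm.isSimpleGroup
  have hc := hT.cond
  cases g with
  | psl n q =>
    obtain ⟨F, _, _, rfl, ⟨e⟩⟩ := hT.real
    exact (H491.Dp.good_psl hg (map_ne_top e hM) (BigPow.congr e h)).congr e
  | psu n q =>
    obtain ⟨F, _, _, hF, ⟨e⟩⟩ := hT.real
    exact (H491.Dp.good_psu hF hg (map_ne_top e hM) (BigPow.congr e h)).congr e
  | psp m q =>
    obtain ⟨F, _, _, rfl, ⟨e⟩⟩ := hT.real
    exact (good_psp hg (hs' e) (hna' e) (map_ne_top e hM) (fun u hu => cyc_psp rfl hg hc hu)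
      (BigPow.congr e h)).congr e
  | oodd m q =>
    obtain ⟨F, _, _, rfl, ⟨e⟩⟩ := hT.real
    exact (good_oodd hg hc.2.1 (hs' e) (hna' e) (map_ne_top e hM) (fun u hu => cyc_oodd rfl hg hc hu)
      (BigPow.congr e h)).congr e
  | oplus m q =>
    obtain ⟨F, _, _, rfl, ⟨e⟩⟩ := hT.real
    exact (good_oplus hg (hs' e) (hna' e) (map_ne_top e hM) (fun u hu => cyc_oplus rfl hg hc hu)
      (BigPow.congr e h)).congr e
  | ominus m q =>
    obtain ⟨F, _, _, a, b, rfl, hab, ⟨e⟩⟩ := hT.real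
    exact (good_ominus hg a b hab (hs' e) (hna' e) (map_ne_top e hM) (fun u hu => cyc_ominus rfl hg hab hc hu)
      (BigPow.congr e h)).congr e
  | _ => exact hg.elim

/-- `|Out T| dim ≤ 144 log |T : M|` for the symplectic and orthogonal groups -/
theorem out_dim {g : Grp} {T : Type u} [Group T] [Finite T]
    [IsSimpleGroup T] (hna : ¬ IsMulCommutative T) (hT : IsNamed g T) (hg : ClName g)
    (hl : (∀ n q, g ≠ .psl n q) ∧ ∀ n q, g ≠ .psu n q) {M : Subgroup T} (hM : M ≠ ⊤) :
    (outCard T : ℝ) * ((H192.Dp.dm g : ℕ) : ℝ) ≤ 144 * Real.log (M.index : ℝ) := by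
  have hna' : ∀ {X : Type} [Group X], (T ≃* X) → ¬ IsMulCommutative X := by
    intro X _ e hX
    apply hna
    refine ⟨⟨fun a b => e.injective ?_⟩⟩
    rw [map_mul, map_mul]
    exact hX.is_comm.comm _ _
  have hs' : ∀ {X : Type} [Group X], (T ≃* X) → IsSimpleGroup X := by
    intro X _ e
    exact e.symm.isSimpleGroup
  have hc := hT.cond
  cases g with
  | psl n q => exact absurd rfl (hl.1 n q)
  | psu n q => exact absurd rfl (hl.2 n q)
  | psp m q =>
    obtain ⟨F, _, _, rfl, ⟨e⟩⟩ := hT.real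
    rw [outCard_congr e, ← index_map_equiv' e M]
    exact out_dim_psp hg (hs' e) (hna' e) (map_ne_top e hM)
  | oodd m q =>
    obtain ⟨F, _, _, rfl, ⟨e⟩⟩ := hT.real
    rw [outCard_congr e, ← index_map_equiv' e M]
    exact out_dim_oodd hg hc.2.1 (hs' e) (hna' e) (map_ne_top e hM)
  | oplus m q =>
    obtain ⟨F, _, _, rfl, ⟨e⟩⟩ := hT.real
    rw [outCard_congr e, ← index_map_equiv' e M]
    exact out_dim_oplus hg (hs' e) (hna' e) (map_ne_top e hM)
  | ominus m q =>
    obtain ⟨F, _, _, a, b, rfl, hab, ⟨e⟩⟩ := hT.real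
    rw [outCard_congr e, ← index_map_equiv' e M]
    exact out_dim_ominus hg a b hab (hs' e) (hna' e) (map_ne_top e hM)
  | _ => exact hg.elim

end Cfsg.Agent.H545.Dr
end

-- part: H545/Dr/Cls
section
/-!
# S5734: the classical groups, final form (helper545)

* `bigU_dvd` : the large primes divide the order;
* `classical` : `Out gT R ∨ BigPow gT R` gives `GoodD ∨ Spec`, with the row `TwoRow` (task 2834) as hypothesis.
-/

set_option autoImplicit false
set_option linter.unusedSectionVars false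
set_option linter.style.haveILetI false

namespace Cfsg.Agent.H545.Dr

open Cfsg Cfsg.Agent.H851.Dg Cfsg.Agent.OrdDiv Cfsg.Agent.H436
open Cfsg.Agent.H278.El.AltNum (dimOf)

/-- the row for the primes with Sylow subgroups of rank two -/
def TwoRow : Prop := ∃ c : ℝ, 0 < c ∧ ∀ (gT : Grp) (T : Type) [Group T] [Finite T] (_ : IsNamed gT T)
  (_ : 5 ≤ dimOf gT) (u : ℕ) (_ : TwoU gT u) (R : Subgroup T) (_ : CycP u R),
  c * (Nat.card T : ℝ) ≤ dimOf gT * nd R

/-- large primes divide the order -/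
theorem bigU_dvd {g : Grp} {T : Type} [Group T] [Finite T] (hT : IsNamed g T) (hg : BigCl g) {r : ℕ}
    (hr : BigU g r) : r ∣ Nat.card T := by
  have hc := hT.cond
  cases g with
  | psl n q =>
    obtain ⟨F, _, _, rfl, ⟨e⟩⟩ := hT.real
    haveI := H934.OutCl.finite_psl (F := F) n
    have hg' : 4 ≤ n := hg
    rw [Nat.card_congr e.toEquiv]
    obtain ⟨h1, h2, h3⟩ := hr
    exact (H491.Dp.PSL.good (by omega) h1 ⟨_, by omega, h2, h3, rfl⟩).dvd
  | psu n q =>
    obtain ⟨F, _, _, hF, ⟨e⟩⟩ := hT.real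
    have hg' : 4 ≤ n := hg
    rw [Nat.card_congr e.toEquiv]
    obtain ⟨h1, h2, h3⟩ := hr
    exact (H491.Dp.PSU.good hF (by omega) (by omega) h1 ⟨_, by omega, h2, h3, rfl⟩).dvd
  | psp m q =>
    have hg' : 3 ≤ m := hg
    refine (H953.Dp.psp_row hT hg hr.1 ⟨_, ?_, rfl⟩).dvd
    rcases hr.2 with ⟨h1, h2, h3⟩ | ⟨h1, h2, h3⟩
    · exact ⟨by omega, Or.inl ⟨h1, h2, h3⟩⟩
    · refine ⟨?_, Or.inr ⟨h1, h2, h3⟩⟩
      obtain ⟨k, hk⟩ := h1
      omega
  | oodd m q =>
    have hg' : 3 ≤ m := hg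
    refine (H953.Dp.oodd_row hT hg hr.1 ⟨_, ?_, rfl⟩).dvd
    rcases hr.2 with ⟨h1, h2, h3⟩ | ⟨h1, h2, h3⟩
    · exact ⟨by omega, Or.inl ⟨h1, h2, h3⟩⟩
    · refine ⟨?_, Or.inr ⟨h1, h2, h3⟩⟩
      obtain ⟨k, hk⟩ := h1
      omega
  | oplus m q =>
    have hg' : 4 ≤ m := hg
    refine (H953.Dp.oplus_row hT hg hr.1 ⟨_, ?_, rfl⟩).dvd
    rcases hr.2 with ⟨h1, h2, h3⟩ | ⟨h1, h2, h3⟩
    · exact ⟨by omega, Or.inl ⟨h1, h2, by omega⟩⟩
    · exact ⟨by omega, Or.inr ⟨h1, h2, h3⟩⟩
  | ominus m q =>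
    have hg' : 4 ≤ m := hg
    refine (H953.Dp.ominus_row hT hg hr.1 ⟨_, ?_, rfl⟩).dvd
    rcases hr.2 with ⟨h1, h2, h3⟩ | ⟨h1, h2, h3⟩
    · exact ⟨by omega, Or.inl ⟨h1, h2, h3⟩⟩
    · exact ⟨by omega, Or.inr ⟨h1, h2, h3⟩⟩
  | _ => exact hg.elim

theorem clName_of_bigCl {g : Grp} (hg : BigCl g) : ClName g := by
  cases g with
  | psl n q => have h : 4 ≤ n := hg; show 3 ≤ n; omega
  | psu n q => exact hg
  | psp m q => exact hg
  | oodd m q => exact hg
  | oplus m q => exact hg
  | ominus m q => exact hg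
  | _ => exact hg.elim

theorem dm_eq_dimOf {g : Grp} (hg : BigCl g) : H192.Dp.dm g = dimOf g := by
  cases g with
  | psl n q => rfl
  | psu n q => rfl
  | psp m q => rfl
  | oodd m q => rfl
  | oplus m q => rfl
  | ominus m q => rfl
  | _ => exact hg.elim

/-- **The classical groups.** -/
theorem classical (htwo : TwoRow) : ∃ C : ℝ, 0 < C ∧ ∀ (gT : Grp) (T : Type) [Group T] [Finite T] [IsSimpleGroup T],
    ¬ IsMulCommutative T → IsNamed gT T → BigCl gT → ∀ R : Subgroup T, R ≠ ⊤ → (Cfsg.Agent.H851.Dg.Out gT R ∨ BigPow gT R) →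
    GoodD C T R ∨ Spec C T R := by
  obtain ⟨c, hc, htwo⟩ := htwo
  refine ⟨max 144 (144 / c), lt_max_of_lt_left (by norm_num), ?_⟩
  intro gT T _ _ _ hna hT hg R hR h
  rcases h with (⟨u, hu, hd⟩ | ⟨u, hu, hcyc⟩) | h
  · left
    exact (good_classical hna hT (clName_of_bigCl hg) hR
      ⟨u, 1, hu, le_rfl, by rw [pow_one]; exact bigU_dvd hT hg hu, by rwa [pow_one]⟩).le (le_max_left _ _)
  · right
    have hl : (∀ n q, gT ≠ .psl n q) ∧ ∀ n q, gT ≠ .psu n q := by
      constructor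
      · rintro n q rfl
        exact hu
      · rintro n q rfl
        exact hu
    have h1 := out_dim hna hT (clName_of_bigCl hg) hl hR
    rw [dm_eq_dimOf hg] at h1
    have h5 : 5 ≤ dimOf gT := by
      cases gT with
      | psl n q => exact hu.elim
      | psu n q => exact hu.elim
      | psp m q => have h : 3 ≤ m := hg; show 5 ≤ 2 * m; omega
      | oodd m q => have h : 3 ≤ m := hg; show 5 ≤ 2 * m + 1; omega
      | oplus m q => have h : 4 ≤ m := hg; show 5 ≤ 2 * m; omega
      | ominus m q => exact hu.elim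
      | _ => exact hg.elim
    exact (spec_of_nd hc h1 (htwo gT T hT h5 u hu R hcyc)).le (le_max_right _ _)
  · left
    exact (good_classical hna hT (clName_of_bigCl hg) hR h).le (le_max_left _ _)

end Cfsg.Agent.H545.Dr
end

private theorem dce_e23dd6384da4 : _root_.True := by
  try have : _root_.True := by simp only [_root_.Cfsg.Agent.H982.DgPsl.mat.eq_1]
  exact _root_.True.intro
end
end
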